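import Cfsg.Agent.H73.BdDefs

/-! Project BD, piece LAT. -/

set_option autoImplicit false

namespace Cfsg.Agent.H10.BdLat

open Cfsg.Agent.H73.Bd Submodule

universe u

def NN (k : ℕ) : ℕ → ℕ
  | 0 => 1
  | j + 1 => 2 * (k * (k + 1) ^ 2 + k * k + 1) * NN k j ^ (k + 1)

theorem NN_pos (k : ℕ) : ∀ j, 0 < NN k j
  | 0 => one_pos
  | j + 1 => by have := NN_pos k j; unfold NN; positivity

theorem NN_mono (k : ℕ) : Monotone (NN k) := monotone_nat_of_le_succ fun j => by
  have h := NN_pos k j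
  have h1 : NN k j ≤ NN k j ^ (k + 1) := Nat.le_self_pow (by omega) _
  exact h1.trans (Nat.le_mul_of_pos_left _ (by positivity))

theorem stab {V : Type u} [AddCommGroup V] [Module ℝ V] [FiniteDimensional ℝ V] (k : ℕ)
    (hk : Module.finrank ℝ V ≤ k) (W : ℕ → Submodule ℝ V) (h : ∀ j, W (j + 1) ≤ W j) :
    ∃ j ≤ k, W j ≤ W (j + 1) := by
  by_contra hn
  push Not at hn
  have key : ∀ j ≤ k + 1, Module.finrank ℝ (W j) + j ≤ k := by
    intro j
    induction j with
    | zero => exact fun _ => (finrank_le _).trans hk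
    | succ j ih =>
      intro hj
      have := finrank_lt_finrank_of_lt (lt_of_le_not_ge (h j) (hn j (by omega)))
      have := ih (by omega)
      omega
  have := key (k + 1) le_rfl
  omega

theorem lat : LatStmt.{u} := by
  intro k
  refine ⟨2 * NN k k ^ (k + 1), fun ι _ hk i0 d q q0 d1 H => ?_⟩
  classical
  let L : AddSubgroup (ι → ℤ) :=
    { carrier := {n | ∃ u : ℤ, ∀ i, (q : ℤ) ∣ n i - u * d i}
      zero_mem' := ⟨0, fun i => by simp⟩
      add_mem' := fun {a b} ⟨u, hu⟩ ⟨v, hv⟩ => ⟨u + v, fun i => by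
        have := dvd_add (hu i) (hv i)
        rwa [show a i - u * d i + (b i - v * d i) = (a + b) i - (u + v) * d i by
          rw [Pi.add_apply]; ring] at this⟩
      neg_mem' := fun {a} ⟨u, hu⟩ => ⟨-u, fun i => by
        have := (hu i).neg_right
        rwa [show -(a i - u * d i) = (-a) i - -u * d i by rw [Pi.neg_apply]; ring] at this⟩ }
  have kR : (Fintype.card ι : ℝ) ≤ k := by exact_mod_cast hk
  have B : ∀ n ∈ L, ∀ r : ℝ, (∀ i, |(n i : ℝ)| ≤ r) → (q : ℝ) * |(n i0 : ℝ)| ≤ k * r ^ 2 := by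
    intro n hn r hr
    have h1 : (q : ℤ) * |n i0| ≤ ∑ i, n i ^ 2 := by
      rcases abs_cases (n i0) with ⟨e, -⟩ | ⟨e, -⟩
      · obtain ⟨u, hu⟩ := hn
        rw [e]; exact H u n hu
      · obtain ⟨u, hu⟩ := L.neg_mem hn
        rw [e]; simpa using H u (-n) hu
    have h2 : (q : ℝ) * |(n i0 : ℝ)| ≤ ∑ i, (n i : ℝ) ^ 2 := by exact_mod_cast h1
    refine h2.trans ((Finset.sum_le_card_nsmul _ _ (r ^ 2) fun i _ => ?_).trans ?_)
    · rw [← sq_abs]; exact pow_le_pow_left₀ (abs_nonneg _) (hr i) 2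
    · rw [nsmul_eq_mul, Finset.card_univ]
      exact mul_le_mul_of_nonneg_right kR (sq_nonneg _)
  let S : ℕ → Set (ι → ℝ) := fun j =>
    {v | ∃ n ∈ L, (∀ i, |(n i : ℝ)| ≤ q / NN k j) ∧ v = fun i => (n i : ℝ)}
  have Np : ∀ j, (0 : ℝ) < NN k j := fun j => by exact_mod_cast NN_pos k j
  have qp : (0 : ℝ) < q := by exact_mod_cast q0
  obtain ⟨j, jk, hj⟩ := stab k (by rw [Module.finrank_fintype_fun_eq_card]; exact hk)
    (fun j => span ℝ (S j)) fun j => span_mono fun v ⟨n, hn, h1, h2⟩ => ⟨n, hn, fun i =>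
      (h1 i).trans (div_le_div_of_nonneg_left qp.le (Np j)
        (by exact_mod_cast NN_mono k (Nat.le_succ j))), h2⟩
  obtain ⟨b, bS, bsp, bli⟩ := exists_linearIndependent ℝ (S (j + 1))
  have : Finite b := bli.finite
  have : Fintype b := Fintype.ofFinite b
  have cb : (Fintype.card b : ℝ) ≤ k := by
    have := bli.fintype_card_le_finrank
    rw [Module.finrank_fintype_fun_eq_card] at this
    exact_mod_cast this.trans hk
  choose a aL a1 a2 using fun v : b => bS v.2
  obtain ⟨M, hM⟩ : ∃ M, M = NN k j ^ (k + 1) := ⟨_, rfl⟩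
  have M0 : 0 < M := hM ▸ pow_pos (NN_pos k j) _
  have key : ∀ y ∈ L, (∀ i, |(y i : ℝ)| ≤ q / NN k j) → |y i0| * (2 * M) ≤ q := by
    intro y hy h1
    have m : (fun i => (y i : ℝ)) ∈ span ℝ (Set.range ((↑) : b → ι → ℝ)) := by
      rw [Subtype.range_coe, bsp]; exact hj (subset_span ⟨y, hy, h1, rfl⟩)
    obtain ⟨c, hc⟩ := (mem_span_range_iff_exists_fun ℝ).1 m
    obtain ⟨N, hN⟩ : ∃ N : ℝ, N = NN k j := ⟨_, rfl⟩
    obtain ⟨N', hN'⟩ : ∃ N' : ℝ, N' = NN k (j + 1) := ⟨_, rfl⟩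
    have N0 : 0 < N := hN ▸ Np j
    have N1 : 1 ≤ N := by rw [hN]; exact_mod_cast NN_pos k j
    have N0' : 0 < N' := hN' ▸ Np (j + 1)
    rw [← hN] at h1
    rw [← hN'] at a1
    let z : ι → ℤ := ∑ v : b, ⌊N / N' * c v⌋ • a v
    have zL : z ∈ L := L.sum_mem fun v _ => L.zsmul_mem (aL v) _
    have df : ∀ i, ∀ r : ℝ, 0 ≤ r → (∀ v, |(a v i : ℝ)| ≤ r) → |(z i : ℝ) - N / N' * y i| ≤ k * r := by
      intro i r r0 hr
      have e1 : (y i : ℝ) = ∑ v : b, c v * a v i := by
        rw [← congrFun hc i, Finset.sum_apply]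
        exact Finset.sum_congr rfl fun v _ => by rw [Pi.smul_apply, smul_eq_mul, congrFun (a2 v) i]
      have e2 : (z i : ℝ) = ∑ v : b, (⌊N / N' * c v⌋ : ℝ) * a v i := by
        simp only [z, Finset.sum_apply, Pi.smul_apply, smul_eq_mul, Int.cast_sum, Int.cast_mul]
      rw [e1, e2, Finset.mul_sum, ← Finset.sum_sub_distrib]
      refine (Finset.abs_sum_le_sum_abs _ _).trans
        ((Finset.sum_le_card_nsmul _ _ r fun v _ => ?_).trans ?_)
      · rw [← mul_assoc, ← sub_mul, abs_mul]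
        have : |(⌊N / N' * c v⌋ : ℝ) - N / N' * c v| ≤ 1 :=
          abs_le.2 ⟨by linarith [Int.lt_floor_add_one (N / N' * c v)],
            by linarith [Int.floor_le (N / N' * c v)]⟩
        exact (mul_le_mul this (hr v) (abs_nonneg _) zero_le_one).trans (one_mul r).le
      · rw [nsmul_eq_mul, Finset.card_univ]
        exact mul_le_mul_of_nonneg_right cb r0
    have s0 : 0 < N / N' := div_pos N0 N0'
    have z1 : ∀ i, |(z i : ℝ)| ≤ (k + 1) * (q / N') := fun i => by
      have h2 := df i (q / N') (div_pos qp N0').le fun v => a1 v i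
      have h3 : |N / N' * y i| ≤ q / N' := by
        rw [abs_mul, abs_of_pos s0]
        refine (mul_le_mul_of_nonneg_left (h1 i) s0.le).trans (le_of_eq ?_)
        field_simp
      have := abs_add_le ((z i : ℝ) - N / N' * y i) (N / N' * y i)
      rw [sub_add_cancel] at this
      linarith
    have z2 : |(z i0 : ℝ)| ≤ k * (k + 1) ^ 2 * (q / N' ^ 2) :=
      le_of_mul_le_mul_left ((B z zL _ z1).trans (le_of_eq (by field_simp))) qp
    have z3 := df i0 (k * (q / N' ^ 2)) (by positivity) fun v =>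
      le_of_mul_le_mul_left ((B _ (aL v) _ (a1 v)).trans (le_of_eq (by field_simp))) qp
    have z4 : N / N' * |(y i0 : ℝ)| ≤ (k * (k + 1) ^ 2 + k * k + 1) * (q / N' ^ 2) := by
      have := abs_sub (z i0 : ℝ) ((z i0 : ℝ) - N / N' * y i0)
      rw [sub_sub_cancel, abs_mul, abs_of_pos s0] at this
      have h5 : 0 < q / N' ^ 2 := by positivity
      nlinarith
    obtain ⟨C, hC⟩ : ∃ C : ℝ, C = k * (k + 1) ^ 2 + k * k + 1 := ⟨_, rfl⟩
    have C0 : 0 < C := by rw [hC]; positivity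
    have eN : N' = 2 * C * M := by rw [hN', hC, hM]; simp only [NN]; push_cast; ring
    rw [← hC] at z4
    have z5 : N * |(y i0 : ℝ)| * N' ≤ C * q := by
      have := mul_le_mul_of_nonneg_right z4 (sq_nonneg N')
      rwa [show N / N' * |(y i0 : ℝ)| * N' ^ 2 = N * |(y i0 : ℝ)| * N' by field_simp,
        show C * (q / N' ^ 2) * N' ^ 2 = C * q by field_simp] at this
    have z6 : |(y i0 : ℝ)| * N' ≤ C * q := le_trans (by
      have : 0 ≤ |(y i0 : ℝ)| * N' := by positivity
      nlinarith) z5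
    have z7 : |(y i0 : ℝ)| * (2 * M) ≤ q := le_of_mul_le_mul_left (by
      rw [eN] at z6; linarith) C0
    exact_mod_cast z7
  obtain ⟨N, hN⟩ : ∃ N, N = NN k j := ⟨_, rfl⟩
  have N0 : 0 < N := hN ▸ NN_pos k j
  have qz : (0 : ℤ) < q := by exact_mod_cast q0
  let r : Fin q → ι → ℕ := fun u i => ((u : ℤ) * d i % q).toNat
  have rc : ∀ u i, (r u i : ℤ) = (u : ℤ) * d i % q := fun u i =>
    Int.toNat_of_nonneg (Int.emod_nonneg _ qz.ne')
  have rl : ∀ u i, r u i < q := fun u i => by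
    have := Int.emod_lt_of_pos ((u : ℤ) * d i) qz
    rw [← rc] at this; exact_mod_cast this
  let f : Fin q → (ι → Fin N) × Fin (q / (2 * M) + 1) := fun u =>
    (fun i => ⟨r u i * N / q, Nat.div_lt_of_lt_mul (Nat.mul_lt_mul_of_pos_right (rl u i) N0)⟩,
      ⟨u % (q / (2 * M) + 1), Nat.mod_lt _ (Nat.succ_pos _)⟩)
  have inj : Function.Injective f := by
    intro u v e
    have e1 : ∀ i, r u i * N / q = r v i * N / q := fun i =>
      congrArg Fin.val (congrFun (congrArg Prod.fst e) i)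
    have e2 : (u : ℕ) % (q / (2 * M) + 1) = v % (q / (2 * M) + 1) :=
      congrArg Fin.val (congrArg Prod.snd e)
    have h1 := key (fun i => (r u i : ℤ) - r v i) ⟨(u : ℤ) - v, fun i => by
      have := dvd_sub (Int.dvd_self_sub_emod (x := (v : ℤ) * d i) (m := q))
        (Int.dvd_self_sub_emod (x := (u : ℤ) * d i) (m := q))
      show (q : ℤ) ∣ (r u i : ℤ) - r v i - ((u : ℤ) - v) * d i
      rw [rc, rc]
      exact this.trans (dvd_of_eq (by ring))⟩ fun i => by
      rw [← hN, le_div_iff₀ (by exact_mod_cast N0)]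
      have a := Nat.div_add_mod (r u i * N) q
      have b := Nat.div_add_mod (r v i * N) q
      have a' := Nat.mod_lt (r u i * N) q0
      have b' := Nat.mod_lt (r v i * N) q0
      rw [e1 i] at a
      have : |(r u i : ℤ) - r v i| * N ≤ q := by
        rw [← abs_of_pos (show (0 : ℤ) < N by exact_mod_cast N0), ← abs_mul, sub_mul, abs_le]
        zify at a b a' b'
        have := Int.emod_nonneg ((r u i : ℤ) * N) qz.ne'
        have := Int.emod_nonneg ((r v i : ℤ) * N) qz.ne'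
        constructor <;> linarith
      exact_mod_cast this
    have r0 : ∀ w : Fin q, (r w i0 : ℤ) = (w : ℕ) := fun w => by
      rw [rc, d1, mul_one]
      exact Int.emod_eq_of_lt (by positivity) (by exact_mod_cast w.2)
    simp only [r0] at h1
    have h2 : |((u : ℕ) : ℤ) - (v : ℕ)| ≤ (q / (2 * M) : ℕ) := by
      push_cast
      exact Int.le_ediv_of_mul_le (by positivity) h1
    have h3 : ((q / (2 * M) + 1 : ℕ) : ℤ) ∣ ((u : ℕ) : ℤ) - (v : ℕ) :=
      (Nat.modEq_iff_dvd.1 (show (v : ℕ) ≡ u [MOD (q / (2 * M) + 1)] from e2.symm))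
    have := Int.eq_zero_of_abs_lt_dvd h3 (by rw [Nat.cast_add, Nat.cast_one]; omega)
    exact Fin.ext (by omega)
  have c := Fintype.card_le_of_injective f inj
  rw [Fintype.card_fin, Fintype.card_prod, Fintype.card_fun, Fintype.card_fin, Fintype.card_fin] at c
  have c1 : N ^ Fintype.card ι ≤ M := by
    rw [hM, ← hN]; exact Nat.pow_le_pow_right N0 (by omega)
  have c2 : q ≤ M * (q / (2 * M) + 1) := c.trans (Nat.mul_le_mul_right _ c1)
  have c3 := Nat.mul_div_le q (2 * M)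
  have c4 : M ≤ NN k k ^ (k + 1) := hM ▸ Nat.pow_le_pow_left (NN_mono k jk) _
  nlinarith

end Cfsg.Agent.H10.BdLat
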