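import Cfsg.Agent.H10.CoB
import Cfsg.Agent.H10.Std1
import Cfsg.Agent.H42.Auts
import Cfsg.Agent.H28.Transport

/-!
A standard subgroup isomorphic to `Co0`.
-/

set_option autoImplicit false
set_option maxRecDepth 100000

namespace Cfsg.Agent.H10.Co

open Cfsg Cfsg.Agent.H48 MulAction Subgroup
open Cfsg.Agent.H42 (tb img enc isCode inM toM toSet force codeSets oct0 dod0 pc)
open scoped Pointwise symmDiff

theorem no_aut {E : Type*} [Group E] [Finite E] (hE : Nat.card E = 2 ^ 12) (H : Subgroup (MulAut E)) (z : E)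
    {p : ℕ} (hp : p.Prime) (h : p ∣ (orbit H z).ncard) : ∃ j < 12, 2 ^ 12 ≡ 2 ^ j [MOD p] := by
  have : Fact p.Prime := ⟨hp⟩
  obtain ⟨α, hα⟩ := exists_prime_orderOf_dvd_card' (G := H) p
    (h.trans (index_stabilizer H z ▸ (stabilizer H z).index_dvd_card))
  have h1 := (IsPGroup.of_card (p := p) (n := 1) (G := zpowers α)
    (by rw [Nat.card_zpowers, hα, pow_one])).card_modEq_card_fixedPoints E
  obtain ⟨j, hj, h2⟩ := (Nat.dvd_prime_pow Nat.prime_two).1
    (hE ▸ (FixedPoints.subgroup (zpowers α) E).card_subgroup_dvd_card)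
  refine ⟨j, lt_of_le_of_ne hj fun e => hp.one_lt.ne' ?_, hE ▸ h2 ▸ h1⟩
  have h3 := (FixedPoints.subgroup (zpowers α) E).eq_top_of_card_eq (by rw [h2, e, hE])
  rw [← hα, orderOf_eq_one_iff]
  exact Subtype.ext (MulEquiv.ext fun x => h3.ge (mem_top x) ⟨α, mem_zpowers α⟩)

variable {G : Type*} [Group G] [Finite G] {φ : Co0 →* G} (hφ : Function.Injective φ)
  (hin : ∀ x : G, Commute x (φ negEl) → ∃ a k, (∀ b, Commute (φ b) k) ∧ x = φ a * k)

omit [Finite G] in
theorem conj_perm (φ : Co0 →* G) (τ : M24) (c : Finset GolayPt) (hc : IsWord c) :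
    φ (permEl τ) * φ (signEl c hc) * (φ (permEl τ))⁻¹ = φ (signEl (τ • c) (hc.smul τ.2)) := by
  rw [← map_mul, permEl_signEl, map_mul, mul_inv_cancel_right]; rfl

theorem perm_mem (φ : Co0 →* G) (τ : M24) : φ (permEl τ) ∈ normalizer (Sg.map φ : Set G) := by
  refine mem_normalizer_fintype ?_
  rintro _ ⟨_, ⟨c, hc, rfl⟩, rfl⟩
  exact ⟨_, ⟨_, _, rfl⟩, (conj_perm φ τ c hc).symm⟩

include hφ hin

omit [Finite G] in
theorem act {x : G} (h1 : Commute x (φ negEl)) (h2 : x ∈ normalizer (Sg.map φ : Set G)) :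
    ∃ τ : M24, ∀ (k : ℕ) c (hc : IsWord c),
      x ^ k * φ (signEl c hc) * (x ^ k)⁻¹ = φ (signEl (τ ^ k • c) (hc.smul (τ ^ k).2)) := by
  obtain ⟨a, k, hk, rfl⟩ := hin x h1
  have e : ∀ s, φ a * k * φ s * (φ a * k)⁻¹ = φ (a * s * a⁻¹) := fun s => by
    rw [mul_assoc (φ a), ← (hk s).eq, map_mul, map_mul, map_inv]; group
  have ha : a ∈ Mono := inv_mem_iff.1 (mem_mono_of_norm fun s hs => by
    rw [inv_inv, ← mem_map_iff_mem hφ, ← e]
    exact (mem_normalizer_iff.1 h2 _).1 (mem_map_of_mem φ hs))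
  refine ⟨θ ⟨a, ha⟩, fun n c hc => ?_⟩
  induction n with
  | zero => simp only [pow_zero, one_mul, inv_one, mul_one, one_smul]
  | succ n ih =>
    rw [pow_succ', mul_inv_rev, mul_assoc _ (_ ^ n), ← mul_assoc, mul_assoc _ (_ * _), ih, e,
      conj_sign ⟨a, ha⟩]
    exact congrArg φ (signEl_congr (by rw [pow_succ', mul_smul]) _ _)

theorem not_sixteen {n : G} (hn : n ∈ normalizer (Sg.map φ : Set G)) (hc : IsWord (toSet 8241104)) :
    n * φ negEl * n⁻¹ ≠ φ (signEl _ hc) := fun h => by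
  have key : ∀ σ : M24, σ • toSet 8241104 = toSet 8241104 → ∃ τ : M24, ∀ (k : ℕ) c (hc : IsWord c),
      n⁻¹ * φ (permEl (σ ^ k)) * n * φ (signEl c hc) * (n⁻¹ * φ (permEl (σ ^ k)) * n)⁻¹ =
        φ (signEl (τ ^ k • c) (hc.smul (τ ^ k).2)) := fun σ hσ => by
    obtain ⟨τ, hτ⟩ := act hφ hin (x := n⁻¹ * φ (permEl σ) * n⁻¹⁻¹) (by
      have h1 := conj_perm φ σ _ hc
      rw [signEl_congr hσ _ hc, ← h, mul_inv_eq_iff_eq_mul] at h1
      calc _ = n⁻¹ * (φ (permEl σ) * (n * φ negEl * n⁻¹)) * n := by group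
        _ = _ := by rw [h1]; group) (mul_mem (mul_mem (inv_mem hn) (perm_mem φ σ)) (inv_mem (inv_mem hn)))
    refine ⟨τ, fun k c hc => ?_⟩
    rw [← hτ, conj_pow, inv_inv, ← map_pow, ← permHom_apply σ, ← map_pow, permHom_apply]
  have h2 : IsWord (toSet 1351424) := H42.toSet_mem_codeSets (by decide +kernel)
  obtain ⟨_, ⟨y, hy, rfl⟩, e⟩ := (mem_normalizer_iff.1 (inv_mem hn) _).1 (mem_map_of_mem φ ⟨_, h2, rfl⟩)
  have h3 : ∀ σ : M24, n⁻¹ * φ (permEl σ) * n * φ (signEl y hy) * (n⁻¹ * φ (permEl σ) * n)⁻¹ =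
      n⁻¹ * φ (signEl (σ • toSet 1351424) (h2.smul σ.2)) * n := fun σ => by
    rw [e, ← conj_perm φ σ _ h2]; group
  have hp : inM 53838844886555685603340017218294787 = true := by decide +kernel
  have hs : inM 66505607715472145326603091287641655 = true := by decide +kernel
  obtain ⟨τ, hτ⟩ := key (toM 53838844886555685603340017218294787) (by
    rw [H42.toM_smul_toSet hp]; exact congrArg toSet (by decide +kernel))
  have h4 : y.card = 12 := by
    have h4 := hτ 1 y hy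
    rw [h3, signEl_congr (d := toSet 1351424 ∆ toSet 8241104) (by
      rw [pow_one, H42.toM_smul_toSet hp, ← H42.toSet_xor]; exact congrArg toSet (by decide +kernel)) _ (h2.symmDiff hc),
      ← signEl_mul _ _ h2 hc, map_mul, ← h, show ∀ a b : G, n⁻¹ * (a * (n * b * n⁻¹)) * n = n⁻¹ * a * n⁻¹⁻¹ * b from
        fun a b => by group, ← e, ← map_mul, negEl, signEl_mul] at h4
    have h5 := congrArg Finset.card (signEl_inj (hφ h4))
    have h6 := H42.card_symmDiff_add y Finset.univ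
    rw [Finset.inter_univ, Finset.card_univ, card_golayPt, h5, Finset.card_smul_finset] at h6
    omega
  obtain ⟨τ, hτ⟩ := key (toM 66505607715472145326603091287641655) (by
    rw [H42.toM_smul_toSet hs]; exact congrArg toSet (by decide +kernel))
  have h5 : τ ∈ stabilizer M24 y := by
    have h5 := hτ 1 y hy
    rw [h3, signEl_congr (d := toSet 1351424) (by
      rw [pow_one, H42.toM_smul_toSet hs]; exact congrArg toSet (by decide +kernel)) _ h2, ← inv_inv n, inv_inv n⁻¹, ← e] at h5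
    simpa using (signEl_inj (hφ h5)).symm
  have h6 := H42.card_eq_ncard_orbit_mul' (G := M24) y
  obtain ⟨m, rfl⟩ := H42.exists_smul_dod0 ⟨hy, h4⟩
  rw [orbit_smul, H42.orbit_dod0, H42.dodecads_ncard, H42.card_M24] at h6
  have h7 : τ ^ 95040 = 1 := by
    have := congrArg Subtype.val (pow_card_eq_one' (x := (⟨τ, h5⟩ : stabilizer M24 _)))
    rwa [show Nat.card (stabilizer M24 (m • toSet dod0)) = 95040 by omega] at this
  have h8 : toM 66505607715472145326603091287641655 ^ 95040 = toM 66505607715472145326603091287641655 := by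
    rw [show 95040 = 7 * 13577 + 1 from rfl, pow_succ, pow_mul, ← H42.toM_ppow hs 7,
      show H42.ppow _ 7 = H42.pid by decide +kernel, H42.toM_pid, one_pow, one_mul]
  have hd : IsWord (toSet dod0) := H42.dod0_mem.1
  obtain ⟨_, ⟨w, hw, rfl⟩, e'⟩ := (mem_normalizer_iff.1 (inv_mem hn) _).1 (mem_map_of_mem φ ⟨_, hd, rfl⟩)
  have h9 := hτ 95040 w hw
  rw [h8, signEl_congr (c := τ ^ 95040 • w) (d := w) (by rw [h7, one_smul]) _ hw, e'] at h9
  have h10 := signEl_inj (hφ ((conj_perm φ (toM 66505607715472145326603091287641655) _ hd).symm.trans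
    (show _ = φ (signEl _ hd) by
      rw [← mul_left_inj n⁻¹⁻¹, ← mul_right_inj n⁻¹, ← mul_assoc n⁻¹ (φ (signEl _ hd)), ← h9]; group)))
  rw [H42.toM_smul_toSet hs, H42.toSet_eq_iff (H42.img_lt (H42.inM_isPerm hs) _) (by decide)] at h10
  exact absurd h10 (by decide +kernel)

theorem norm_comm {n : G} (hn : n ∈ normalizer (Sg.map φ : Set G)) : n * φ negEl * n⁻¹ = φ negEl := by
  by_contra hne
  let ε : ∀ c, IsWord c → Sg.map φ := fun c hc => ⟨φ (signEl c hc), mem_map_of_mem φ ⟨c, hc, rfl⟩⟩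
  let O := orbit (Sg.map φ).normalizerMonoidHom.range (ε _ isWord_univ)
  have hO : ∀ c hc, ε c hc ∈ O ↔ ∃ n ∈ normalizer (Sg.map φ : Set G), n * φ negEl * n⁻¹ = φ (signEl c hc) :=
    fun c hc => ⟨fun ⟨⟨_, n, rfl⟩, h⟩ => ⟨n, n.2, congrArg Subtype.val h⟩,
      fun ⟨n, h1, h⟩ => ⟨⟨_, ⟨n, h1⟩, rfl⟩, Subtype.ext h⟩⟩
  let W : Set (Finset GolayPt) := {c | ∃ hc, ε c hc ∈ O}
  have h1 : W.ncard = O.ncard := Set.ncard_congr (fun c h => ε c h.1) (fun _ h => h.2)
    (fun _ _ _ _ h => signEl_inj (hφ (congrArg Subtype.val h)))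
    fun ⟨_, _, ⟨c, hc, rfl⟩, rfl⟩ h => ⟨c, ⟨hc, h⟩, rfl⟩
  have h2 : ∀ (τ : M24) c, c ∈ W → τ • c ∈ W := fun τ c ⟨hc, h⟩ => by
    obtain ⟨n, h3, h4⟩ := (hO c hc).1 h
    exact ⟨hc.smul τ.2, (hO _ _).2 ⟨_, mul_mem (perm_mem φ τ) h3, by rw [← conj_perm φ τ c hc, ← h4]; group⟩⟩
  have h2' : ∀ (τ : M24) c, τ • c ∈ W ↔ c ∈ W := fun τ c =>
    ⟨fun h => by simpa using h2 τ⁻¹ _ h, h2 τ c⟩
  have h3 : ∀ c, IsWord c → (c ∈ W ↔ c.card = 24 ∨ (toSet oct0 ∈ W ∧ c.card = 8) ∨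
      (toSet dod0 ∈ W ∧ c.card = 12)) := fun c hc => by
    rcases hc.card_cases with h | h | h | h | h <;> simp only [h, Nat.reduceEqDiff, and_true, and_false,
      or_false, false_or, iff_false, iff_true]
    · rintro ⟨hc, h4⟩
      obtain ⟨n, -, h4⟩ := (hO c hc).1 h4
      rw [signEl_congr (Finset.card_eq_zero.1 h) hc isWord_empty, signEl_empty, map_one,
        conj_eq_one_iff, map_eq_one_iff φ hφ] at h4
      exact negEl_ne_one h4
    · obtain ⟨τ, rfl⟩ := H42.exists_smul_oct0 ⟨hc, h⟩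
      exact h2' τ _
    · obtain ⟨τ, rfl⟩ := H42.exists_smul_dod0 ⟨hc, h⟩
      exact h2' τ _
    · obtain ⟨τ, e⟩ := H42.exists_smul_oct0 (H42.compl_mem_octads hc h)
      rw [← compl_compl c, ← e, ← H42.msmul_compl, h2', ← H42.toSet_compl]
      rintro ⟨hc, h4⟩
      obtain ⟨n, h4, h5⟩ := (hO _ hc).1 h4
      exact not_sixteen hφ hin h4 hc h5
    · obtain rfl := Finset.eq_univ_of_card c (h.trans card_golayPt.symm)
      exact ⟨hc, mem_orbit_self _⟩
  have h4 : ∀ (m p : ℕ), p.Prime → (∀ j < 12, ¬ 2 ^ 12 ≡ 2 ^ j [MOD p]) →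
      p ∣ H42.cnt (fun k => force (enc k) fun n => tb m (pc n)) 4096 →
      ¬ ∀ c, IsWord c → (c ∈ W ↔ m.testBit c.card) := fun m p hp h5 h6 h7 => by
    obtain ⟨j, hj, h8⟩ := no_aut (by rw [card_map_of_injective hφ, card_Sg]; rfl) _ _ hp (by
      rw [← h1, H42.ncard_codeSets W (fun n => tb m (pc n)) (fun _ h => h.1) fun n hn => by
        rw [h7 _ (H42.toSet_mem_codeSets hn), H42.card_toSet (H42.isCode_lt hn), H42.tb_eq]]
      exact h6)
    exact h5 j hj h8
  by_cases ho : toSet oct0 ∈ W <;> by_cases hd : toSet dod0 ∈ W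
  · refine h4 16781568 139 (by norm_num) (by decide) (by decide +kernel) fun c hc => ?_
    rw [h3 c hc]
    rcases hc.card_cases with h | h | h | h | h <;> simp only [h, ho, hd] <;> decide
  · refine h4 16777472 19 (by norm_num) (by decide) (by decide +kernel) fun c hc => ?_
    rw [h3 c hc]
    rcases hc.card_cases with h | h | h | h | h <;> simp only [h, ho, hd] <;> decide
  · refine h4 16781312 859 (by norm_num) (by decide) (by decide +kernel) fun c hc => ?_
    rw [h3 c hc]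
    rcases hc.card_cases with h | h | h | h | h <;> simp only [h, ho, hd] <;> decide
  · obtain ⟨_, ⟨c, hc, rfl⟩, e⟩ := (mem_normalizer_iff.1 hn _).1 (ε _ isWord_univ).2
    have h5 := (h3 c hc).1 ⟨hc, (hO c hc).2 ⟨n, hn, e.symm⟩⟩
    simp only [ho, hd, false_and, or_false] at h5
    obtain rfl := Finset.eq_univ_of_card c (h5.trans card_golayPt.symm)
    exact hne e.symm

theorem conj_eq (hA : ∀ g : G, Commute (g * φ negEl * g⁻¹) (φ negEl) → g * φ negEl * g⁻¹ ∈ φ.range) {g : G}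
    (h : Commute (g * φ negEl * g⁻¹) (φ negEl)) : g * φ negEl * g⁻¹ = φ negEl := by
  obtain ⟨σ, hσ⟩ := hA g h
  obtain ⟨a, c, hc, e⟩ := exists_conj_mem_Sg (σ := σ) (hφ (by
    rw [map_mul, hσ, conj_mul, ← map_mul, negEl_mul_self, map_one, mul_one, mul_inv_cancel]))
  have hz : ∀ b, φ b * φ negEl * (φ b)⁻¹ = φ negEl := fun b => by
    rw [← map_mul, negEl_comm, map_mul, mul_inv_cancel_right]
  suffices φ a * g * φ negEl * (φ a * g)⁻¹ = φ negEl by
    calc _ = (φ a)⁻¹ * (φ a * g * φ negEl * (φ a * g)⁻¹) * φ a := by group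
      _ = _ := by rw [this, mul_assoc, ← map_mul, ← negEl_comm, map_mul, inv_mul_cancel_left]
  have e1 : φ a * g * φ negEl * (φ a * g)⁻¹ = φ (signEl c hc) := by
    rw [← e, map_mul, map_mul, hσ, map_inv]; group
  generalize φ a * g = g at e1
  by_contra hne
  have h1 : H42.InvFam {d | ∃ hd : IsWord d, ∀ τ : M24,
      g⁻¹ * φ (signEl (τ • d) (hd.smul τ.2)) * g ∈ φ.range} :=
    ⟨⟨isWord_empty, fun τ => by
      rw [signEl_congr (Finset.smul_finset_empty τ) _ isWord_empty, signEl_empty, map_one, mul_one,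
        inv_mul_cancel]
      exact one_mem _⟩,
    fun ⟨h1, h2⟩ ⟨h3, h4⟩ => ⟨h1.symmDiff h3, fun τ => by
      convert mul_mem (h2 τ) (h4 τ) using 1
      rw [(signEl_congr (H42.msmul_symmDiff τ _ _) _ _).trans
        (signEl_mul _ _ (h1.smul τ.2) (h3.smul τ.2)).symm, map_mul]
      group
      rfl⟩,
    fun τ _ ⟨h1, h2⟩ => ⟨h1.smul τ.2, fun τ' => by
      rw [signEl_congr (mul_smul τ' τ _).symm _ (h1.smul (τ' * τ).2)]; exact h2 _⟩⟩
  have h2 := h1.code_of_mem hc ⟨hc, fun τ => by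
      have e2 : g⁻¹ * φ (permEl τ) * g * φ negEl * (g⁻¹ * φ (permEl τ) * g)⁻¹ =
          g⁻¹ * φ (signEl (τ • c) (hc.smul τ.2)) * g := by rw [← conj_perm φ τ c hc, ← e1]; group
      rw [← e2]
      refine hA _ ?_
      rw [e2, show φ negEl = g⁻¹ * φ (signEl c hc) * g by rw [← e1]; group]
      calc _ = g⁻¹ * φ (signEl (τ • c) (hc.smul τ.2) * signEl c hc) * g := by rw [map_mul]; group
        _ = g⁻¹ * φ (signEl c hc * signEl (τ • c) (hc.smul τ.2)) * g := by
          rw [signEl_mul, signEl_mul, signEl_congr (symmDiff_comm c _)]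
        _ = _ := by rw [map_mul]; group⟩
    (fun e => by
      rw [signEl_congr e hc isWord_empty, signEl_empty, map_one, conj_eq_one_iff, map_eq_one_iff φ hφ] at e1
      exact negEl_ne_one e1)
    fun e => hne (e1.trans (congrArg φ (signEl_congr e _ _)))
  let ψ : Co0 →* G := (MulAut.conj g).toMonoidHom.comp φ
  have hψ : Function.Injective ψ := (MulAut.conj g).injective.comp hφ
  have h3 : ((Sg.map φ).comap ψ).map ψ = Sg.map φ := map_comap_eq_self (by
    rintro _ ⟨_, ⟨d, hd, rfl⟩, rfl⟩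
    obtain ⟨_, h3⟩ := h2 hd
    obtain ⟨b, hb⟩ := h3 1
    refine ⟨b, ?_⟩
    change g * φ b * g⁻¹ = _
    rw [hb, signEl_congr (one_smul M24 d) _ hd]; group)
  obtain ⟨b, hb⟩ := exists_conj_le_Sg (F := (Sg.map φ).comap ψ) (fun x ⟨_, ⟨d, hd, rfl⟩, e⟩ => hψ (by
    rw [map_mul, ← e, ← map_mul, signEl_mul_self, map_one, map_one])) (by
    rw [← card_map_of_injective hψ, h3, card_map_of_injective hφ, card_Sg])
  have h4 : φ b * g⁻¹ ∈ normalizer (Sg.map φ : Set G) := mem_normalizer_fintype fun x hx => by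
    obtain ⟨y, hy, rfl⟩ := h3.ge hx
    refine ⟨_, hb y hy, ?_⟩
    change _ = _ * (g * φ y * g⁻¹) * _
    rw [map_mul, map_mul, map_inv]; group
  refine hne (Eq.trans ?_ (norm_comm hφ hin (inv_mem h4)))
  conv_lhs => rw [← hz b⁻¹, map_inv]
  group

omit hφ hin in
theorem normal (hout : Nat.card (Out Spor.Co1) = 1) (hO : oddCore G = ⊥) {A : Subgroup G}
    (hA : IsStandardSubgroup A) (e : A ≃* Co0)
    (hR : ∀ R : Sylow 2 (centralizer (A : Set G)), IsCyclic (R : Subgroup (centralizer (A : Set G)))) :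
    A.Normal := by
  by_contra hn
  let φ : Co0 →* G := A.subtype.comp e.symm.toMonoidHom
  have hφ : Function.Injective φ := A.subtype_injective.comp e.symm.injective
  have hm : ∀ x, x ∈ A ↔ x ∈ φ.range := fun x =>
    ⟨fun h => ⟨e ⟨x, h⟩, congrArg Subtype.val (e.symm_apply_apply _)⟩, fun ⟨b, h⟩ => h ▸ (e.symm b).2⟩
  have hc : Std.Ctr A (φ negEl) := ⟨hA, (orderOf_injective φ hφ _).trans
    (orderOf_eq_prime (by rw [pow_two, negEl_mul_self]) negEl_ne_one), (hm _).2 ⟨_, rfl⟩, fun x hx => by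
      obtain ⟨b, rfl⟩ := (hm x).1 hx
      rw [← map_mul, negEl_comm, map_mul], fun x hx hk _ => by
      obtain ⟨b, rfl⟩ := (hm x).1 hx
      exact ((H48.mem_center_iff b).1 (Subgroup.mem_center_iff.2 fun a => hφ (by
        rw [map_mul, map_mul]; exact hk _ ((hm _).2 ⟨a, rfl⟩)))).imp (fun h => by rw [h, map_one]) (congrArg φ)⟩
  have hi : ∀ x, Commute x (φ negEl) → Std.Inner A x := fun x hx =>
    Std.inner_of_out hA.1.1 ((H42.card_Out_congr (H28.centerQuotEquiv e)).trans hout)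
      (hc.norm_eq.ge (Std.mem_cent1.2 hx))
  obtain ⟨g, h1, h2⟩ := Std.exists_conj_comm hA hO hn hc.ord hc.memK
  refine h2 (conj_eq hφ (fun x hx => ?_) (fun g hg => (hm _).1 (hc.conj_mem_of_uniq
    (fun s => hc.uniq_K_of_cyclic hR) (fun x hx _ => hi x hx) hg)) h1)
  obtain ⟨a, ha, k, hk, rfl⟩ := hi x hx
  obtain ⟨a, rfl⟩ := (hm a).1 ha
  exact ⟨a, k, fun b => hk _ ((hm _).2 ⟨b, rfl⟩), rfl⟩

end Cfsg.Agent.H10.Co
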