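import Cfsg.Agent.H11.CyLp
import Cfsg.Agent.H29.ElN41

/-! Project CY, chapter LP, piece N41: when the centraliser of a line has even order, the
centraliser of a point group has 2-rank one. -/

set_option autoImplicit false

namespace Cfsg.Agent.H10.CyN41

open Subgroup MulAction
open Cfsg.Agent.H11.Cy Cfsg.Agent.H11.Cy.Lp
open Cfsg.Agent.H11.EL (Nm Ct C1 cj Ex R1 mem_cj cj_eq_iff cj_sup cj_mul)
open Cfsg.Agent.H11.EL.N41 (rank_one cj_inj nm_cj)

theorem cjA {G : Type} [Group G] {Ω : Type} [MulAction G Ω] {p : ℕ} {A : Ω → Subgroup G}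
    (st : St p A) (g : G) (y : Ω) : cj g (A y) = A (g • y) := by
  ext a
  rw [mem_cj]
  constructor
  · intro h
    have := st.eqv g y _ h
    rwa [show g * (g⁻¹ * a * g) * g⁻¹ = a by group] at this
  · intro h
    have := st.eqv g⁻¹ _ _ h
    rwa [inv_smul_smul, inv_inv] at this

theorem n41 : N41Stmt := by
  intro G _ _ Ω _ _ p A st x y h he
  have la := h.la x y h.xy
  have ep := h.mc.ep
  obtain ⟨f, s, h1⟩ := h.lc x y h.xy
  have KA : Kl A x y ≤ Ct (A x) := centralizer_le (SetLike.coe_subset_coe.2 le_sup_left)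
  have cx : ∀ c ∈ Ct (A x), c • x = x := fun c hc =>
    (ep.nA x c).1 (centralizer_le_normalizer _ hc)
  have cL : ∀ c ∈ Ct (A x), cj c (Fl A x y) = Fl A x (c • y) := fun c hc => by
    rw [cj_sup, cjA st, cjA st, cx c hc]
  have ne : ∀ c ∈ Ct (A x), x ≠ c • y := fun c hc e =>
    h.xy (smul_left_cancel c ((cx c hc).trans e))
  have out : ∀ c ∈ Ct (A x), c ∉ Nm (Fl A x y) → c • y ∉ Ln A x y := fun c hc hn hle => hn (by
    rw [← cj_eq_iff, cL c hc]
    exact ep.span x y h.xy x la.mx _ hle (ne c hc))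
  obtain ⟨z, hz⟩ := (Set.ne_univ_iff_exists_notMem _).1 (h.mu x y h.xy)
  obtain ⟨c, hc, cB⟩ := h.ctr x y z h.xy.symm fun e => hz (e ▸ la.mx)
  have cN : c ∉ Nm (Fl A x y) := fun hn => hz (cB ▸ (ep.nrm x y h.xy c).1 hn y la.my)
  have se : Cfsg.IsStronglyEmbedded ((Nm (Fl A x y)).subgroupOf (Ct (A x))) := by
    refine ⟨fun e => cN ?_, ?_, fun g hg => ?_⟩
    · have : (⟨c, hc⟩ : Ct (A x)) ∈ (Nm (Fl A x y)).subgroupOf (Ct (A x)) := e ▸ mem_top _
      exact this
    · obtain ⟨t, ht⟩ := exists_prime_orderOf_dvd_card' 2 he.two_dvd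
      have : (⟨t.1, KA t.2⟩ : Ct (A x)) ∈ (Nm (Fl A x y)).subgroupOf (Ct (A x)) :=
        centralizer_le_normalizer _ t.2
      have hd := orderOf_dvd_natCard _ this
      rw [← orderOf_coe, show orderOf (t : G) = 2 by rw [orderOf_coe, ht]] at hd
      exact even_iff_two_dvd.2 hd
    · by_contra ho
      obtain ⟨v, hv⟩ := exists_prime_orderOf_dvd_card' 2 (Nat.not_odd_iff_even.1 ho).two_dvd
      have v2 : orderOf (v.1.1 : G) = 2 := by rw [orderOf_coe, orderOf_coe, hv]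
      have vN : (v.1.1 : G) ∈ Nm (Fl A x (g.1 • y)) := by
        rw [← cL g g.2]
        exact nm_cj (mem_subgroupOf.1 (mem_cj.1 v.2.2))
      obtain ⟨k, hk, a, ha, e⟩ := la.CM v.1.1 v.1.2 v.2.1
      have ap : a ^ p = 1 := by
        rw [← st.card x]; exact congrArg Subtype.val (pow_card_eq_one' (x := (⟨a, ha⟩ : A x)))
      have vK : (v.1.1 : G) ∈ Kl A x y := by
        have e1 : (v.1.1 : G) ^ p = v.1.1 := by
          rw [← pow_mod_orderOf, v2, show p % 2 = 1 by have := h.p3; omega]; exact pow_one _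
        rw [← e1, e, Commute.mul_pow (KA hk a ha).symm, ap, mul_one]
        exact pow_mem hk _
      have := (h.mix x y _ h.xy (out g g.2 hg) _ vK
        (fun e1 => by rw [e1, orderOf_one] at v2; omega) vN).1
      have := h.p7
      omega
  rcases S1220.result _ se with h2 | ⟨h2, -⟩
  · exfalso
    have fL : f ∈ Nm (Fl A x y) := le_normalizer h1.fL
    have fA : f ∈ Nm (A x) := (ep.nA x f).2 h1.fH.1
    have c2 : f * c * f⁻¹ ∈ Ct (A x) := fun a ha => by
      have := hc _ ((mem_normalizer_iff''.1 fA a).1 ha)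
      calc a * (f * c * f⁻¹) = f * (f⁻¹ * a * f * c) * f⁻¹ := by group
        _ = f * c * f⁻¹ * a := by rw [this]; group
    obtain ⟨g, hg, hm⟩ := h2 ⟨c, hc⟩ ⟨_, c2⟩ cN fun hn => cN (by
      have := mul_mem (mul_mem (inv_mem fL) (mem_subgroupOf.1 hn)) fL
      rwa [show f⁻¹ * (f * c * f⁻¹) * f = c by group] at this)
    obtain ⟨k, hk, a, ha, e⟩ := la.CM g.1 g.2 hg
    have m1 : (f * c * f⁻¹)⁻¹ * (k * a * c) ∈ Nm (Fl A x y) := e ▸ mem_subgroupOf.1 hm
    have m2 : f⁻¹ * k * a ∈ Nm (Fl A x (c • y)) := by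
      rw [← cL c hc]
      refine nm_cj ?_
      have := mul_mem (inv_mem fL) m1
      rwa [show f⁻¹ * ((f * c * f⁻¹)⁻¹ * (k * a * c)) = c⁻¹ * (f⁻¹ * k * a) * c by group] at this
    have m3 : k⁻¹ * f ∈ Nm (Fl A x (c • y)) := by
      have := inv_mem (mul_mem m2 (inv_mem (le_normalizer (mem_sup_left ha))))
      rwa [show (f⁻¹ * k * a * a⁻¹)⁻¹ = k⁻¹ * f by group] at this
    obtain ⟨i, hi, hb⟩ := h1.fe
    have kH : k ∈ Hs G x y :=
      ⟨(ep.kfix x y h.xy k).1 hk x la.mx, (ep.kfix x y h.xy k).1 hk y la.my⟩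
    refine h.five x y (c • y) h.xy (out c hc cN) _ (mul_mem (inv_mem kH) h1.fH)
      ⟨i, fun w hw => ?_, fun hd => ?_⟩ m3
    · rw [show k⁻¹ * f * w * (k⁻¹ * f)⁻¹ = k⁻¹ * (f * w * f⁻¹ * k) by group, hi w hw,
        KA hk _ (zpow_mem hw i), inv_mul_cancel_left]
    · have h3 := Nat.le_of_dvd two_pos ((hb 2).1 hd)
      have := h1.fo
      have := h.p7
      omega
  · intro s hs t ht s2 t2 st
    exact congrArg Subtype.val (rank_one h2 (s := ⟨s, hs⟩) (t := ⟨t, ht⟩)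
      (by rw [← s2, ← orderOf_coe]) (by rw [← t2, ← orderOf_coe]) (Subtype.ext st))

end Cfsg.Agent.H10.CyN41
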