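import Cfsg.Agent.H34.PDefs
import Cfsg.Agent.H67.UCls

/-! Project ENDU: graph involutions of the same type in one coset are conjugate. -/

set_option autoImplicit false
set_option linter.unusedSectionVars false

namespace Cfsg.Agent.H10.ECl

open Cfsg Cfsg.Agent.H63 Cfsg.Agent.H63.SL Cfsg.Agent.H34 Cfsg.Agent.H34.TW Cfsg.Agent.H34.UM
  Cfsg.Agent.H34.UE Cfsg.Agent.H31 Cfsg.Agent.H67.UCls Subgroup Module

universe u v

variable {F E V : Type v} [Field F] [Field E] [AddCommGroup V] [Module E V] {i : F →+* E}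
  {σ : E ≃+* E} {B : V →ₛₗ[(σ : E →+* E)] V →ₗ[E] E} {G : Type u} [Group G] {φ : sisom B →* G}
  {L : Subgroup G}

theorem conj_odd {k t : G} (ho : Odd (orderOf k)) (tt : t * t = 1) (h : k * t * (k * t) = 1) :
    ∃ n : ℕ, k * t = k ^ n * t * (k ^ n)⁻¹ := by
  obtain ⟨n, hn⟩ := ho
  have e : SemiconjBy t k⁻¹ k := by
    rw [SemiconjBy, ← inv_eq_of_mul_eq_one_right h, mul_inv_rev, inv_eq_of_mul_eq_one_right tt]
  refine ⟨n + 1, ?_⟩
  rw [← inv_pow, mul_assoc, (e.pow_right (n + 1)).eq, ← mul_assoc, ← pow_add,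
    show n + 1 + (n + 1) = 2 * n + 1 + 1 by ring, pow_succ, ← hn, pow_orderOf_eq_one, one_mul]

variable (c : UCtx i φ L) [FiniteDimensional E V] [Finite E] [Finite V]
include c

section Form

variable {f : V ≃+ V} (hf : Semi B f σ) (ff : ∀ x, f (f x) = x) {ω : E} (hω : σ ω = ω + 1)
include hf ff hω

/-- The fixed space has dimension `finrank E V` over the fixed field. -/
theorem dim_fix : letI := Module.compHom V i
    ∀ W : Submodule F V, (∀ x, x ∈ W ↔ f x = x) → finrank F W = finrank E V := by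
  letI := Module.compHom V i
  intro W m
  haveI : Finite F := .of_injective _ i.injective
  have hb : Function.Bijective fun p : W × W => (p.1 : V) + ω • (p.2 : V) := by
    refine ⟨fun p q e1 => ?_, fun v => ?_⟩
    · have e2 := congrArg f e1
      simp only at e1 e2
      rw [f_split c hf hω ((m _).1 p.1.2) ((m _).1 p.2.2),
        f_split c hf hω ((m _).1 q.1.2) ((m _).1 q.2.2)] at e2
      have e3 : (p.2 : V) = q.2 := by linear_combination (norm := module) e2 - e1
      rw [e3] at e1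
      exact Prod.ext (Subtype.ext (add_right_cancel e1)) (Subtype.ext e3)
    · obtain ⟨a, b, ha, hb, rfl⟩ := split c hf ff hω v
      exact ⟨(⟨a, (m _).2 ha⟩, ⟨b, (m _).2 hb⟩), rfl⟩
  have e := Nat.card_eq_of_bijective _ hb
  rw [Nat.card_prod, Module.natCard_eq_pow_finrank (K := F) (V := W),
    Module.natCard_eq_pow_finrank (K := E) (V := V), c.qf.card, ← pow_add, ← pow_mul] at e
  have := Nat.pow_right_injective (Finite.one_lt_card (α := F)) e
  omega

/-- Graph involutions of the same type are conjugate in the unitary group. -/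
theorem conj_isom2 {f' : V ≃+ V} (hf' : Semi B f' σ) (ff' : ∀ x, f' (f' x) = x)
    (ha : Even (finrank E V) → (Alt B f ↔ Alt B f')) :
    ∃ x ∈ isom B, ∀ v, x (f v) = f' (x v) := by
  letI := Module.compHom V i
  haveI : Finite F := .of_injective _ i.injective
  have sm : ∀ (a : F) (x : V), a • x = i a • x := fun _ _ => rfl
  obtain ⟨W, b, m, hb, hs, nd⟩ := form c hf ff hω
  obtain ⟨W', b', m', hb', hs', nd'⟩ := form c hf' ff' hω
  have d1 := dim_fix c hf ff hω W m
  have d2 := dim_fix c hf' ff' hω W' m'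
  have k1 : b.IsAlt ↔ Alt B f :=
    ⟨fun k x hx => by rw [← hb ⟨x, (m _).2 hx⟩ ⟨x, (m _).2 hx⟩, k, map_zero],
      fun k x => by rw [← map_eq_zero i, hb]; exact k _ ((m _).1 x.2)⟩
  have k2 : b'.IsAlt ↔ Alt B f' :=
    ⟨fun k x hx => by rw [← hb' ⟨x, (m' _).2 hx⟩ ⟨x, (m' _).2 hx⟩, k, map_zero],
      fun k x => by rw [← map_eq_zero i, hb']; exact k _ ((m' _).1 x.2)⟩
  obtain ⟨p, hp⟩ := H79.exists_equiv_symm c.qf.twoF hs nd hs' nd' (d1.trans d2.symm)
    ⟨fun k => k2.2 ((ha (d1 ▸ H27.even_finrank_of_alt nd k)).1 (k1.1 k)),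
      fun k => k1.2 ((ha (d2 ▸ H27.even_finrank_of_alt nd' k)).2 (k2.1 k))⟩
  have hp' : ∀ x y : W, B (p x) (p y) = B x y := fun x y => by rw [← hb', hp, hb]
  choose α β hα hβ hv using split c hf ff hω
  let X : V → V := fun v => p ⟨α v, (m _).2 (hα v)⟩ + ω • (p ⟨β v, (m _).2 (hβ v)⟩ : V)
  have hX : ∀ a a' : W, X (a + ω • (a' : V)) = p a + ω • (p a' : V) := fun a a' => by
    have e1 := hv (a + ω • (a' : V))
    have e2 := congrArg f e1
    rw [f_split c hf hω ((m _).1 a.2) ((m _).1 a'.2), f_split c hf hω (hα _) (hβ _)] at e2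
    have e3 : β (a + ω • (a' : V)) = a' := by
      linear_combination (norm := module) e1 - e2
    have e4 : α (a + ω • (a' : V)) = a := by
      rw [e3] at e1; exact (add_right_cancel e1).symm
    simp only [X, e3, e4]
  have sp : ∀ v, ∃ a a' : W, v = a + ω • (a' : V) := fun v =>
    ⟨⟨_, (m _).2 (hα v)⟩, ⟨_, (m _).2 (hβ v)⟩, hv v⟩
  obtain ⟨n, hn⟩ := c.qf.exists_norm ω
  have ω2 : ω * ω = i n + ω := by rw [hn, hω]; linear_combination -ω * c.qf.two
  let x : V →ₗ[E] V :=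
    { toFun := X
      map_add' := fun v w => by
        obtain ⟨a, a', rfl⟩ := sp v
        obtain ⟨d, d', rfl⟩ := sp w
        rw [hX, hX, show (a : V) + ω • (a' : V) + (d + ω • (d' : V)) =
          (a + d : W) + ω • ((a' + d' : W) : V) by simp only [Submodule.coe_add]; module, hX]
        simp only [map_add, Submodule.coe_add]; module
      map_smul' := fun t v => by
        obtain ⟨a, a', rfl⟩ := sp v
        obtain ⟨r, s, rfl⟩ := c.qf.exists_coord hω t
        have e1 : ∀ y y' : V, (i r + i s * ω) • (y + ω • y') =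
            r • y + (s * n) • y' + ω • (s • y + (r + s) • y') := fun y y' => by
          simp only [sm, map_mul, map_add]
          linear_combination (norm := module) congrArg (fun z => (i s * z) • y') ω2
        rw [RingHom.id_apply, hX, e1, e1]
        simpa using hX (r • a + (s * n) • a') (s • a + (r + s) • a') }
  have iso : ∀ v w, B (x v) (x w) = B v w := fun v w => by
    obtain ⟨a, a', rfl⟩ := sp v
    obtain ⟨d, d', rfl⟩ := sp w
    change B (X _) (X _) = _
    simp only [hX, map_add, LinearMap.add_apply, sm_left, sm_right, hp']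
  have hi : Function.Injective x := (injective_iff_map_eq_zero x).2 fun v hv =>
    c.herm.nondeg v fun y => by rw [← iso, hv]; simp
  refine ⟨LinearEquiv.ofInjectiveEndo x hi, iso, fun v => ?_⟩
  obtain ⟨a, a', rfl⟩ := sp v
  change X _ = f' (X _)
  rw [f_split c hf hω ((m _).1 a.2) ((m _).1 a'.2), hX,
    f_split c hf' hω ((m' _).1 (p a).2) ((m' _).1 (p a').2)]
  simpa using hX (a + a') a'

end Form

theorem core [Finite G] (K : KitA i φ L) {t t' : G} {f f' : V ≃+ V} (g : Gr φ L t f)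
    (g' : Gr φ L t' f') (hal : Even (finrank E V) → (Alt B f ↔ Alt B f'))
    (h3 : t * t' ∈ L ⊔ C[L]) : ∃ l ∈ L, l⁻¹ * (t' * (l * t⁻¹)) ∈ C[L] := by
  obtain ⟨ω, hω⟩ := c.qf.tr
  have hf := g.semi
  have ff := g.ff
  have ha := g.act
  have a' := g'.act
  have s' := g'.semi
  obtain ⟨x, hx, e1⟩ := conj_isom2 c hf ff hω s' g'.ff hal
  obtain ⟨j, hj, k, hk, e2⟩ : ∃ j ∈ L, ∃ k ∈ C[L], j * k = t' * t⁻¹ := by
    have : (t * t')⁻¹ ∈ ((L ⊔ C[L] : Subgroup G) : Set G) := inv_mem h3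
    rwa [coe_mul_of_right_le_normalizer_left _ _ (centralizer_le_normalizer _), mul_inv_rev,
      inv_eq_of_mul_eq_one_right g'.sq] at this
  obtain ⟨s, rfl⟩ := c.surj hj
  obtain ⟨-, d, d1, d2⟩ := scal c K (k := (φ s)⁻¹ * (t' * t⁻¹))
    (by rwa [← e2, inv_mul_cancel_left])
    (semi_mul (semi_inv (semi_phi s)) (semi_mul s' (semi_inv hf)))
    (act_mul (act_inv (act_phi s)) (act_mul a' (act_inv ha)))
  have d3 : ∀ v, (s⁻¹).1 (x (f v)) = d • f (x v) := fun v => by
    have := d2 (f (x v))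
    simp only [AddEquiv.trans_apply, AddEquiv.symm_apply_apply] at this
    rw [e1]; exact this
  have d0 : d ≠ 0 := fun e => by simp [e] at d1
  have e3 := det_semi c hf ff hω (y := x) (z := d⁻¹ • ((s⁻¹).1 * x : V ≃ₗ[E] V)) fun v => by
    rw [LinearMap.smul_apply, LinearEquiv.coe_coe, LinearEquiv.mul_apply, d3, smul_smul,
      inv_mul_cancel₀ d0, one_smul, LinearEquiv.coe_coe]
  rw [LinearMap.det_smul, LinearEquiv.coe_toLinearMap_mul, map_mul, (mem_sisom'.1 (s⁻¹).2).2,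
    one_mul] at e3
  have e4 := c.herm.det_norm hx
  rw [RingHom.coe_coe, ← e3] at e4
  obtain ⟨μ, rfl⟩ := H35.NF.exists_sqrt c.qf.two d
  have μ0 : μ ≠ 0 := fun e => by simp [e] at d0
  have μ1 : μ * σ μ = 1 := c.qf.eq_one_of_pow (k := 1) (by
    rw [← d1, map_mul]; ring)
  have e5 : μ⁻¹ ^ finrank E V * LinearMap.det (x : V →ₗ[E] V) = 1 :=
    c.qf.eq_one_of_pow (k := 1) (by rw [← e4, mul_inv, mul_pow]; ring)
  let m : V ≃ₗ[E] V := LinearEquiv.smulOfNeZero E V μ⁻¹ (inv_ne_zero μ0)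
  have hm : ∀ v, m v = μ⁻¹ • v := fun _ => rfl
  let l : sisom B := ⟨m * x, mem_sisom'.2 ⟨fun v w => by
    rw [LinearEquiv.mul_apply, LinearEquiv.mul_apply, hm, hm, sm_left, sm_right, hx, ← mul_assoc,
      map_inv₀, ← mul_inv, mul_comm (σ μ), μ1, inv_one, one_mul], by
    rw [← e5, ← LinearMap.det_smul]; rfl⟩⟩
  refine ⟨φ l, c.mem l, ?_⟩
  refine cent c (act_mul (act_inv (act_phi l)) (act_mul a' (act_mul (act_phi l) (act_inv ha))))
    (d := μ * μ) d0 fun v => ?_
  obtain ⟨v, rfl⟩ := f.surjective v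
  simp only [AddEquiv.trans_apply, AddEquiv.symm_apply_apply]
  rw [AddEquiv.symm_apply_eq]
  change f' (μ⁻¹ • x v) = μ⁻¹ • x ((μ * μ) • f v)
  rw [s'.smul, ← e1, map_smul, smul_smul, inv_mul_cancel_left₀ μ0, map_inv₀,
    ← eq_inv_of_mul_eq_one_left μ1]

omit c in
theorem cl : ClStmt.{u, v} := by
  intro F E V _ _ _ _ _ _ _ _ i σ B G _ _ φ L c K _ _ ho t f t' f' g g' hal h3
  obtain ⟨l, hl, hk⟩ := core c K g g' hal h3
  have e : l⁻¹ * (t' * (l * t⁻¹)) * t = l⁻¹ * t' * l := by group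
  obtain ⟨n, hn⟩ := conj_odd (ho.of_dvd_nat (orderOf_dvd_natCard _ hk)) g.sq (by
    rw [e]
    calc l⁻¹ * t' * l * (l⁻¹ * t' * l) = l⁻¹ * (t' * t') * l := by group
      _ = 1 := by rw [g'.sq]; group)
  refine ⟨l * (l⁻¹ * (t' * (l * t⁻¹))) ^ n,
    mul_mem (mem_sup_left hl) (mem_sup_right (pow_mem hk n)), ?_⟩
  rw [e] at hn
  generalize (l⁻¹ * (t' * (l * t⁻¹))) ^ n = y at hn
  calc t' = l * (l⁻¹ * t' * l) * l⁻¹ := by group
    _ = _ := by rw [hn]; group

end Cfsg.Agent.H10.ECl
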