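import Cfsg.Agent.H78.G40B

/-! Project L40G, piece NC1A: graph involutions of `L₄(3)`. -/

set_option autoImplicit false

namespace Cfsg.Agent.H10.G40Nc1a

open Subgroup Matrix Cfsg.Agent.H78.G40
open scoped Kronecker

abbrev M4 : Type := Matrix (Fin 4) (Fin 4) (ZMod 3)
abbrev M2 : Type := Matrix (Fin 2) (Fin 2) (ZMod 3)

theorem fix (g y : SL4) (h : y.1 * g.1 * y.1ᵀ = g.1 ∨ y.1 * g.1 * y.1ᵀ = -g.1) :
    (MulAut.conj (mk1 g) * θ1) (mk1 y) = mk1 y := by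
  have e : θ1 (mk1 y) = mk1 (itr (Fin 4) (ZMod 3) y) := rfl
  rw [MulAut.mul_apply, MulAut.conj_apply, e, mul_inv_eq_iff_eq_mul, ← map_mul, ← map_mul, mk1_eq]
  change g.1 * (y⁻¹).1ᵀ = y.1 * g.1 ∨ g.1 * (y⁻¹).1ᵀ = -(y.1 * g.1)
  have k : (y⁻¹).1 * y.1 = 1 := congrArg Subtype.val (inv_mul_cancel y)
  have k2 : y.1 * g.1 = y.1 * g.1 * y.1ᵀ * (y⁻¹).1ᵀ := by
    rw [mul_assoc (y.1 * g.1), ← transpose_mul, k, transpose_one, mul_one]
  rcases h with h | h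
  · left; rw [k2, h]
  · right; rw [k2, h, Matrix.neg_mul, neg_neg]

theorem trans (g : SL4) (g0 P : M4) (h0 : g0.det ≠ 0) (h : P * g.1 * Pᵀ = g0) :
    ∃ β : MulAut X1, ∀ y : SL4, (y.1 * g0 * y.1ᵀ = g0 ∨ y.1 * g0 * y.1ᵀ = -g0) →
      (MulAut.conj (mk1 g) * θ1) (β (mk1 y)) = β (mk1 y) := by
  have hu : IsUnit P.det := by
    refine Ne.isUnit fun e => h0 ?_
    rw [← h, det_mul, det_mul, e, zero_mul, zero_mul]
  have h1 : P⁻¹ * P = 1 := nonsing_inv_mul P hu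
  have h2 : P * P⁻¹ = 1 := mul_nonsing_inv P hu
  have d1 : P⁻¹.det * P.det = 1 := by rw [← det_mul, h1, det_one]
  let c : MulAut SL4 :=
    { toFun := fun y => ⟨P⁻¹ * y.1 * P, by rw [det_mul, det_mul, y.2, mul_one, d1]⟩
      invFun := fun y => ⟨P * y.1 * P⁻¹, by rw [det_mul, det_mul, y.2, mul_one, mul_comm, d1]⟩
      left_inv := fun y => Subtype.ext (by
        change P * (P⁻¹ * y.1 * P) * P⁻¹ = y.1
        rw [← mul_assoc, ← mul_assoc, h2, one_mul, mul_assoc, h2, mul_one])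
      right_inv := fun y => Subtype.ext (by
        change P⁻¹ * (P * y.1 * P⁻¹) * P = y.1
        rw [← mul_assoc, ← mul_assoc, h1, one_mul, mul_assoc, h1, mul_one])
      map_mul' := fun y w => Subtype.ext (by
        change P⁻¹ * (y.1 * w.1) * P = P⁻¹ * y.1 * P * (P⁻¹ * w.1 * P)
        rw [show P⁻¹ * y.1 * P * (P⁻¹ * w.1 * P) = P⁻¹ * y.1 * (P * P⁻¹) * w.1 * P by
          simp only [mul_assoc], h2, mul_one, mul_assoc P⁻¹ y.1]) }
  refine ⟨qa c, fun y hy => fix g (c y) ?_⟩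
  change P⁻¹ * y.1 * P * g.1 * (P⁻¹ * y.1 * P)ᵀ = g.1 ∨ P⁻¹ * y.1 * P * g.1 * (P⁻¹ * y.1 * P)ᵀ = -g.1
  have e1 : P⁻¹ * y.1 * P * g.1 * (P⁻¹ * y.1 * P)ᵀ = P⁻¹ * (y.1 * g0 * y.1ᵀ) * P⁻¹ᵀ := by
    rw [← h, transpose_mul, transpose_mul]
    simp only [mul_assoc]
  have e2 : P⁻¹ * g0 * P⁻¹ᵀ = g.1 := by
    rw [← h, show P⁻¹ * (P * g.1 * Pᵀ) * P⁻¹ᵀ = P⁻¹ * P * g.1 * (P⁻¹ * P)ᵀ by
      rw [transpose_mul]; simp only [mul_assoc], h1, one_mul, transpose_one, mul_one]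
  rw [e1]
  rcases hy with hy | hy
  · left; rw [hy, e2]
  · right; rw [hy, Matrix.mul_neg, Matrix.neg_mul, e2]

/-! ### The alternating case -/

theorem alt_aux : ∀ a b c d e f : ZMod 3, a * f - b * e + c * d = 0 ∨
    ∃ P ∈ ([!![1, 0, 0, 0; 0, a, 0, 0; a * d, -(a * b), 1, 0;
        (a * f - b * e + c * d) * e, -((a * f - b * e + c * d) * c), 0, a * (a * f - b * e + c * d)],
      !![1, 0, 0, 0; 0, 0, b, 0; -(b * d), 1, -(b * a), 0;
        -((a * f - b * e + c * d) * f), 0, (a * f - b * e + c * d) * c, -(b * (a * f - b * e + c * d))],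
      !![1, 0, 0, 0; 0, 0, 0, c; -(c * e), 1, 0, -(c * a);
        -((a * f - b * e + c * d) * f), 0, c * (a * f - b * e + c * d),
          -((a * f - b * e + c * d) * b)]] : List M4),
      P * !![0, a, b, c; -a, 0, d, e; -b, -d, 0, f; -c, -e, -f, 0] * Pᵀ =
        !![0, 1, 0, 0; 2, 0, 0, 0; 0, 0, 0, 1; 0, 0, 2, 0] := by
  decide +kernel

theorem alt_cong (g : M4) (hd : g.det = 1) (h : gᵀ = -g) :
    ∃ P : M4, P * g * Pᵀ = !![0, 1, 0, 0; 2, 0, 0, 0; 0, 0, 0, 1; 0, 0, 2, 0] := by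
  have h1 : ∀ i j, g j i = -g i j := fun i j => congrFun (congrFun h i) j
  have h0 : ∀ i, g i i = 0 := fun i => by
    have := h1 i i
    revert this
    generalize g i i = a
    revert a; decide
  have e : g = !![0, g 0 1, g 0 2, g 0 3; -g 0 1, 0, g 1 2, g 1 3; -g 0 2, -g 1 2, 0, g 2 3;
      -g 0 3, -g 1 3, -g 2 3, 0] := by
    ext i j
    fin_cases i <;> fin_cases j <;> first | rfl | exact h0 _ | exact h1 _ _
  rw [e] at hd ⊢
  generalize g 0 1 = a, g 0 2 = b, g 0 3 = c, g 1 2 = d, g 1 3 = e, g 2 3 = f at hd ⊢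
  rcases alt_aux a b c d e f with h2 | ⟨P, -, hP⟩
  · have : (!![0, a, b, c; -a, 0, d, e; -b, -d, 0, f; -c, -e, -f, 0] : M4).det =
        (a * f - b * e + c * d) ^ 2 := by
      rw [det_succ_row_zero]
      simp [Fin.sum_univ_four, det_fin_three, Fin.succAbove]
      ring
    rw [this, h2] at hd
    exact absurd hd (by decide)
  · exact ⟨P, hP⟩

theorem alt (g : SL4) (h : g.1ᵀ = -g.1) : Cert 64 (MulAut.conj (mk1 g) * θ1) := by
  obtain ⟨P, hP⟩ := alt_cong g.1 g.2 h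
  obtain ⟨β, hβ⟩ := trans g _ P (by decide +kernel) hP
  let p : SL4 := ⟨!![0, 0, 0, 2; 2, 0, 1, 1; 2, 2, 0, 2; 1, 0, 0, 0], by decide +kernel⟩
  let q : SL4 := ⟨!![0, 2, 2, 2; 2, 2, 1, 2; 1, 2, 0, 1; 1, 1, 1, 2], by decide +kernel⟩
  let r : SL4 := ⟨!![2, 2, 2, 1; 2, 1, 2, 1; 0, 1, 2, 0; 0, 2, 2, 2], by decide +kernel⟩
  let r2 : SL4 := ⟨!![2, 1, 2, 0; 0, 0, 0, 2; 2, 0, 0, 1; 1, 2, 0, 0], by decide +kernel⟩
  have e1 : p * q = r := Subtype.ext (by decide +kernel)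
  have e2 : r * r = r2 := Subtype.ext (by decide +kernel)
  refine Or.inr ⟨β (mk1 p), β (mk1 q), 5, Or.inl rfl, ?_, ?_, ?_, ?_, hβ p (by decide +kernel),
    hβ q (by decide +kernel)⟩
  · rw [Ne, map_eq_one_iff β β.injective, ← map_one mk1, mk1_eq]
    decide +kernel
  · rw [← map_mul, ← map_mul, map_eq_one_iff β β.injective, ← map_one mk1, mk1_eq]
    decide +kernel
  · rw [← map_pow, ← map_pow, map_eq_one_iff β β.injective, ← map_one mk1, mk1_eq, pow_three]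
    decide +kernel
  · rw [← map_mul, ← map_mul, ← map_pow, ← map_pow, map_eq_one_iff β β.injective, ← map_one mk1,
      mk1_eq, e1, show r ^ 5 = r * r * (r * r) * r by simp only [pow_succ, pow_zero, one_mul, mul_assoc],
      e2]
    decide +kernel

/-! ### The symmetric case -/

/-- the Kronecker product -/
def kr (A B : M2) : M4 :=
  reindex (finProdFinEquiv : Fin 2 × Fin 2 ≃ Fin 4) (finProdFinEquiv : Fin 2 × Fin 2 ≃ Fin 4) (A ⊗ₖ B)

theorem eqns : True := by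
  have := @kr.eq_1
  trivial

theorem kr_mul (A B A' B' : M2) : kr (A * A') (B * B') = kr A B * kr A' B' := by
  simp only [kr, reindex_apply, mul_kronecker_mul, submatrix_mul_equiv]

theorem kr_t (A B : M2) : (kr A B)ᵀ = kr Aᵀ Bᵀ := rfl

theorem kr_det (A B : M2) : (kr A B).det = A.det ^ 2 * B.det ^ 2 := by
  rw [kr, det_reindex_self, det_kronecker]
  simp

theorem sq_one {a : ZMod 3} (h : a ≠ 0) : a ^ 2 = 1 := by
  revert a; decide

theorem form2 : ∀ a b c d : ZMod 3, a * d - b * c ≠ 0 →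
    (!![a, b; c, d] : M2) * !![0, 1; 2, 0] * (!![a, b; c, d] : M2)ᵀ = !![0, 1; 2, 0] ∨
    (!![a, b; c, d] : M2) * !![0, 1; 2, 0] * (!![a, b; c, d] : M2)ᵀ = -(!![0, 1; 2, 0] : M2) := by
  decide +kernel

theorem form2' (A : M2) (h : A.det ≠ 0) : A * !![0, 1; 2, 0] * Aᵀ = !![0, 1; 2, 0] ∨
    A * !![0, 1; 2, 0] * Aᵀ = -(!![0, 1; 2, 0] : M2) := by
  rw [det_fin_two] at h
  rw [eta_fin_two A]
  exact form2 _ _ _ _ h

theorem ker_aux : ∀ a b c d a' b' c' d' : ZMod 3,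
    kr !![a, b; c, d] !![a', b'; c', d'] = 1 ∨ kr !![a, b; c, d] !![a', b'; c', d'] = -1 →
    ((!![a, b; c, d] : M2) = 1 ∨ (!![a, b; c, d] : M2) = -1) ∧
      ((!![a', b'; c', d'] : M2) = 1 ∨ (!![a', b'; c', d'] : M2) = -1) := by
  decide +kernel

theorem diag_aux : ∀ a b c d : ZMod 3, a * b * c * d = 1 →
    ∃ Q ∈ ([!![1, 1, 1, 0; 2, 0, 1, 1; 2, 1, 0, 1; 0, 2, 2, 1],
      !![0, 2, 0, 1; 1, 1, 1, 2; 1, 1, 2, 2; 1, 0, 0, 2],
      !![0, 2, 1, 0; 2, 2, 1, 2; 2, 0, 0, 1; 2, 2, 2, 1],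
      !![1, 1, 1, 1; 0, 2, 0, 2; 0, 0, 1, 1; 2, 1, 1, 1],
      !![2, 1, 1, 1; 2, 0, 1, 0; 1, 2, 1, 1; 0, 2, 0, 1],
      !![1, 2, 1, 1; 2, 2, 1, 2; 1, 2, 0, 0; 0, 0, 1, 2],
      !![0, 1, 0, 1; 2, 0, 2, 0; 1, 1, 2, 1; 2, 1, 2, 2],
      !![2, 1, 0, 1; 2, 2, 1, 0; 0, 1, 2, 2; 2, 0, 2, 1]] : List M4),
      Q * diagonal ![a, b, c, d] * Qᵀ = kr !![0, 1; 2, 0] !![0, 1; 2, 0] := by
  decide +kernel

theorem sym_cong (g : M4) (hd : g.det = 1) (h : gᵀ = g) :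
    ∃ P : M4, P * g * Pᵀ = kr !![0, 1; 2, 0] !![0, 1; 2, 0] := by
  have : Invertible (2 : ZMod 3) := ⟨2, by decide, by decide⟩
  have hs : LinearMap.IsSymm (Matrix.toBilin' g) := ⟨fun x y => by
    rw [Matrix.toBilin'_apply', Matrix.toBilin'_apply', RingHom.id_apply, dotProduct_mulVec,
      ← mulVec_transpose, h, dotProduct_comm]⟩
  obtain ⟨v, hv⟩ := LinearMap.BilinForm.exists_orthogonal_basis hs
  have hr : Module.finrank (ZMod 3) (Fin 4 → ZMod 3) = 4 := by simp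
  let w := v.reindex (finCongr hr)
  let P : M4 := Matrix.of fun i => w i
  have hP : IsUnit P := linearIndependent_rows_iff_isUnit.1 w.linearIndependent
  have e0 : ∀ i j, (P * g * Pᵀ) i j = Matrix.toBilin' g (w i) (w j) := fun i j => by
    rw [Matrix.toBilin'_apply', dotProduct_mulVec]
    rfl
  have e : P * g * Pᵀ = diagonal ![(P * g * Pᵀ) 0 0, (P * g * Pᵀ) 1 1, (P * g * Pᵀ) 2 2,
      (P * g * Pᵀ) 3 3] := by
    ext i j
    by_cases hij : i = j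
    · subst hij
      fin_cases i <;> rfl
    · rw [diagonal_apply_ne _ hij, e0]
      simp only [w, Module.Basis.reindex_apply]
      exact hv fun e => hij ((finCongr hr).symm.injective e)
  have hdet := congrArg det e
  rw [det_mul, det_mul, hd, mul_one, det_transpose, ← sq,
    sq_one ((isUnit_iff_isUnit_det P).1 hP).ne_zero, det_diagonal, Fin.prod_univ_four] at hdet
  obtain ⟨Q, -, hQ⟩ := diag_aux _ _ _ _ hdet.symm
  refine ⟨Q * P, ?_⟩
  rw [← hQ]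
  erw [← e]
  rw [transpose_mul]
  simp only [mul_assoc]

theorem sym (g : SL4) (h : g.1ᵀ = g.1) : Cert 64 (MulAut.conj (mk1 g) * θ1) := by
  classical
  obtain ⟨P, hP⟩ := sym_cong g.1 g.2 h
  obtain ⟨β, hβ⟩ := trans g _ P (by rw [kr_det]; decide +kernel) hP
  let K : GL (Fin 2) (ZMod 3) × GL (Fin 2) (ZMod 3) →* SL4 :=
    { toFun := fun x => ⟨kr x.1.1 x.2.1, by
        rw [kr_det, sq_one (GeneralLinearGroup.det_ne_zero x.1),
          sq_one (GeneralLinearGroup.det_ne_zero x.2), mul_one]⟩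
      map_one' := Subtype.ext (show kr 1 1 = 1 by decide +kernel)
      map_mul' := fun x y => Subtype.ext (kr_mul _ _ _ _) }
  let φ : GL (Fin 2) (ZMod 3) × GL (Fin 2) (ZMod 3) →* X1 := β.toMonoidHom.comp (mk1.comp K)
  have hker : ∀ x ∈ φ.ker, (x.1.1 = 1 ∨ x.1.1 = -1) ∧ (x.2.1 = 1 ∨ x.2.1 = -1) := by
    intro x hx
    have h1 : β (mk1 (K x)) = 1 := hx
    rw [map_eq_one_iff β β.injective, ← map_one mk1, mk1_eq] at h1
    have h2 : kr x.1.1 x.2.1 = 1 ∨ kr x.1.1 x.2.1 = -1 := h1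
    rw [eta_fin_two x.1.1, eta_fin_two x.2.1] at h2 ⊢
    exact ker_aux _ _ _ _ _ _ _ _ h2
  have aux : ∀ A B : M2, (A = 1 ∨ A = -1) → (B = 1 ∨ B = -1) → (A = 1 ↔ B = 1) → A = B := by
    rintro A B (hA | hA) hB e
    · rw [hA, e.1 hA]
    · rcases hB with hB | hB
      · rw [hB, e.2 hB]
      · rw [hA, hB]
  have hinj : Function.Injective fun x : φ.ker => (decide (x.1.1.1 = 1), decide (x.1.2.1 = 1)) := by
    intro x y e
    simp only [Prod.mk.injEq, decide_eq_decide] at e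
    exact Subtype.ext (Prod.ext (Units.ext (aux _ _ (hker _ x.2).1 (hker _ y.2).1 e.1))
      (Units.ext (aux _ _ (hker _ x.2).2 (hker _ y.2).2 e.2)))
  have hle : Nat.card φ.ker ≤ 4 := by simpa using Nat.card_le_card_of_injective _ hinj
  have hc := φ.ker.card_mul_index
  rw [index_ker, Nat.card_prod, card_GL_field] at hc
  simp only [ZMod.card, Fin.prod_univ_two, Fin.val_zero, Fin.val_one] at hc
  have hdvd : 2 ^ 6 ∣ Nat.card φ.range := by
    generalize Nat.card φ.ker = k at hle hc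
    generalize Nat.card φ.range = n at hc
    interval_cases k <;> omega
  obtain ⟨S, hS⟩ := Sylow.exists_subgroup_card_pow_prime 2 hdvd
  refine Or.inl ⟨S.map φ.range.subtype, (IsPGroup.of_card hS).map _, ?_, ?_⟩
  · rw [card_map_of_injective φ.range.subtype_injective, hS]
    norm_num
  · rintro _ ⟨⟨_, x, rfl⟩, -, rfl⟩
    refine hβ (K x) ?_
    change kr _ _ * _ * (kr _ _)ᵀ = _ ∨ kr _ _ * _ * (kr _ _)ᵀ = _
    rw [kr_t, ← kr_mul, ← kr_mul]
    rcases form2' x.1.1 (GeneralLinearGroup.det_ne_zero x.1) with h1 | h1 <;>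
      rcases form2' x.2.1 (GeneralLinearGroup.det_ne_zero x.2) with h2 | h2 <;>
      rw [h1, h2] <;> decide +kernel

theorem nc1a : Nc1aS := by
  intro x hx
  obtain ⟨g, rfl⟩ := QuotientGroup.mk'_surjective _ x
  have e : θ1 (mk1 g) = mk1 (itr (Fin 4) (ZMod 3) g) := rfl
  have hx2 : mk1 (g * itr (Fin 4) (ZMod 3) g) = mk1 1 := by
    rw [map_mul, map_one, ← e]
    exact hx
  have hx3 := (mk1_eq _ _).1 hx2
  have hx' : g.1 * (g⁻¹).1ᵀ = 1 ∨ g.1 * (g⁻¹).1ᵀ = -1 := hx3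
  have k' : (g⁻¹).1 * g.1 = 1 := congrArg Subtype.val (inv_mul_cancel g)
  have k : g.1 * (g⁻¹).1 = 1 := mul_eq_one_comm.1 k'
  have k2 : g.1 = g.1 * (g⁻¹).1ᵀ * g.1ᵀ := by
    rw [mul_assoc, ← transpose_mul, k, transpose_one, mul_one]
  rcases hx' with h | h
  · rw [h, one_mul] at k2
    exact sym g k2.symm
  · rw [h, Matrix.neg_mul, one_mul] at k2
    exact alt g (neg_eq_iff_eq_neg.1 k2.symm)

end Cfsg.Agent.H10.G40Nc1a
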