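import Cfsg.Agent.H76.K4Defs
import Cfsg.Agent.S4542
import Cfsg.Agent.S4441

/-! Project K4, piece SMALL. -/

set_option autoImplicit false

namespace Cfsg.Agent.H10.K4Small

open Cfsg Cfsg.Agent.H76.K4

universe u

theorem small : SmallStmt.{u} := by
  intro G _ _ p hp M hM hk P
  have hB : IsPBlock M (principalBlock M G) := H17.isPBlock_principalBlock
  have hD := H17.dg_principal hM P
  have le : ∀ r : ℕ, r.Prime → Nat.card (P : Subgroup G) = r → 4 ≤ r := fun r hr e => by
    have := Fact.mk hr
    have hc : IsCyclic (P : Subgroup G) := isCyclic_of_prime_card e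
    have h := S4542.result p M hM _ hB P hD P le_rfl (fun z hz d hd =>
      congrArg Subtype.val (hc.isMulCommutative.is_comm.comm (⟨z, hz⟩ : (P : Subgroup G)) ⟨d, hd⟩)) hc
      (by rw [Subgroup.relIndex_self]; omega)
    omega
  refine ⟨fun e => by have := le 2 Nat.prime_two e; omega,
    fun e => by have := le 3 Nat.prime_three e; omega, fun e => ?_⟩
  have p7 : p = 7 := by
    obtain ⟨n, hn⟩ := IsPGroup.iff_card.1 P.isPGroup'
    rw [e] at hn
    have n0 : n ≠ 0 := fun h => by simp [h] at hn
    exact (Nat.prime_dvd_prime_iff_eq hp.out (by norm_num)).1 (hn ▸ dvd_pow_self p n0)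
  subst p7
  have := Fintype.ofFinite G
  have := H13.finite_irrCharacter (G := G)
  obtain ⟨X, Y, h1, h2, h3, h4, -⟩ := S4441.result 7 M hM (by norm_num) P e _ rfl
  rw [h1, Nat.card_coe_set_eq, Set.ncard_union_eq h2, ← Nat.card_coe_set_eq, ← Nat.card_coe_set_eq,
    h4, h3] at hk
  generalize Subgroup.relIndex (G := G) _ _ = m at hk
  have : m ≤ 4 := hk ▸ Nat.le_add_right _ _
  interval_cases m <;> simp at hk

end Cfsg.Agent.H10.K4Small
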