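import Cfsg.Agent.H10.L33Xb

/-! Project L33, piece X2 (part 3): the element `r`, and the statement `X2S`. -/

set_option autoImplicit false
set_option linter.unusedSectionVars false
set_option synthInstance.maxSize 8192

noncomputable section

namespace Cfsg.Agent.H10.X2

open Subgroup Cfsg.Agent.H83 Cfsg.Agent.H40.L3 Cfsg.Agent.H40.L3.D2

universe u

/-- the action of `w^i ρ^j ρ^k` on `A` -/
abbrev sw (i j k : Bool) (m : M false) : M false :=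
  bp .W i * (bif j then rh (bif k then rh m else m) else (bif k then rh m else m)) * (bp .W i)⁻¹

theorem ea16 : ∀ m1 : M false, m1 ∈ (M.sS : Subgroup (M false)) → m1 * m1 = 1 →
    ∀ m2 : M false, m2 ∈ (M.sS : Subgroup (M false)) → m2 * m2 = 1 → m1 * m2 = m2 * m1 →
    ∀ m3 : M false, m3 ∈ (M.sS : Subgroup (M false)) → m3 * m3 = 1 → m1 * m3 = m3 * m1 →
    m2 * m3 = m3 * m2 →
    (∃ i : Bool, bp .Q i * m1 * (bp .Q i)⁻¹ ∈ (M.sA : Subgroup (M false)) ∧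
      bp .Q i * m2 * (bp .Q i)⁻¹ ∈ (M.sA : Subgroup (M false)) ∧
      bp .Q i * m3 * (bp .Q i)⁻¹ ∈ (M.sA : Subgroup (M false))) ∨
    ∃ i j k l : Bool, (i || j || k || l) = true ∧ bp .T i * bp m1 j * bp m2 k * bp m3 l = 1 := by
  decide +kernel

variable {G : Type*} [Group G] [Finite G] {D : D2 G false}

theorem sw_act (D : D2 G false) (i j k : Bool) {m : M false} (hm : m ∈ (M.sA : Subgroup (M false))) :
    D.ι (bp .W i) * (bp D.ρ j * bp D.ρ k) * D.ι m * (D.ι (bp .W i) * (bp D.ρ j * bp D.ρ k))⁻¹ =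
      D.ι (sw i j k m) := by
  have h : ∀ (j : Bool) {m : M false}, m ∈ (M.sA : Subgroup (M false)) →
      bp D.ρ j * D.ι m * (bp D.ρ j)⁻¹ = D.ι (bif j then rh m else m) := fun j m hm => by
    cases j
    · simp [bp]
    · exact ρ_act D hm
  refine cjcomp (cjι D _ _) (cjcomp (h j ?_) (h k hm))
  cases k
  exacts [hm, rh_A m hm]

theorem ct_tB (h : D.ct (.T * .Gm)) {m : M false} (hm : m ∈ (M.sA : Subgroup (M false)))
    (hb : m ∉ (M.sB : Subgroup (M false))) : D.ct m := by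
  have key : ∀ m : M false, m ∈ (M.sA : Subgroup (M false)) → m ∉ (M.sB : Subgroup (M false)) →
      ∃ i j k l : Bool, m = sw false j k (bp .B l * (.T * bp .Gm i) * (bp .B l)⁻¹) ∧
        bp .B l * (.T * bp .Gm i) * (bp .B l)⁻¹ ∈ (M.sA : Subgroup (M false)) := by decide +kernel
  obtain ⟨i, j, k, l, e, e'⟩ := key m hm hb
  have h1 : D.ct (.T * bp .Gm i) := by
    cases i
    · exact D.ct_of D.ct_T (cjι' D 1 (by decide +kernel))
    · exact h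
  exact e ▸ D.ct_of (D.ct_cj h1 _) (sw_act D false j k e')

theorem exists_g1 (h : D.ct (.T * .Gm)) :
    ∃ g ∈ normalizer (gA D : Set G), g * D.ι .T * g⁻¹ = D.ι (.T * .Gm) := by
  have k0 : ∀ m : M false, m ∈ (M.sA : Subgroup (M false)) → m * (.T * .Gm) = .T * .Gm * m := by
    decide +kernel
  obtain ⟨g, h1, h2⟩ := D.extr (P := gA D) h (pA D) (by
    rintro _ ⟨m, hm, rfl⟩
    exact D.comm_iff.2 (k0 m hm))
  obtain ⟨m1, a1, e1⟩ := h2 (D.ι .Z) (D.mem_map.2 (by decide +kernel))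
  obtain ⟨m2, a2, e2⟩ := h2 (D.ι .A) (D.mem_map.2 (by decide +kernel))
  obtain ⟨m3, a3, e3⟩ := h2 (D.ι .Gm) (D.mem_map.2 (by decide +kernel))
  have c0 : g * D.ι 1 * g⁻¹ = D.ι 1 := by simp
  rcases ea16 m1 a1 ((cje (cjm e1 e1) c0).1 (by decide +kernel))
    m2 a2 ((cje (cjm e2 e2) c0).1 (by decide +kernel)) ((cjc e1 e2).1 (by decide +kernel))
    m3 a3 ((cje (cjm e3 e3) c0).1 (by decide +kernel)) ((cjc e1 e3).1 (by decide +kernel))
    ((cjc e2 e3).1 (by decide +kernel)) with ⟨i, b1, b2, b3⟩ | ⟨i, j, k, l, b1, b2⟩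
  · have f1 := cjcomp (cjι D (bp .Q i) _) e1
    have f2 := cjcomp (cjι D (bp .Q i) _) e2
    have f3 := cjcomp (cjι D (bp .Q i) _) e3
    have f4 := cjcomp (cjι' D (bp .Q i) (m := .T) (p := .T) (by cases i <;> decide +kernel)) h1
    have f5 := cjm f4 f3
    rw [show (.T * .Gm * .Gm : M false) = .T by decide +kernel] at f5
    have bp_mem : ∀ {m : M false} (c : Bool), m ∈ (M.sA : Subgroup (M false)) →
        bp m c ∈ (M.sA : Subgroup (M false)) := fun c h => by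
      cases c
      exacts [one_mem _, h]
    refine ⟨_, inv_mem (norm_of fun m hm => ⟨_, ?_, act f5 f3 f2 f1 hm⟩), cjinv f4⟩
    exact mul_mem (mul_mem (mul_mem (bp_mem _ (mul_mem (by decide +kernel) b3)) (bp_mem _ b3))
      (bp_mem _ b2)) (bp_mem _ b1)
  · have := (cje (cjm (cjm (cjm (cjb h1 i) (cjb e1 j)) (cjb e2 k)) (cjb e3 l)) c0).2 b2
    have key : ∀ i j k l : Bool, (i || j || k || l) = true →
        (bp (.T * .Gm) i * bp .Z j * bp .A k * bp .Gm l : M false) ≠ 1 := by decide +kernel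
    exact absurd this (key i j k l b1)

theorem exists_g2 (h : D.ct (.T * .Gm)) : ∃ g ∈ N0 D, g * D.ι .T * g⁻¹ = D.ι (.T * .Gm) := by
  have imB : ∀ {g : G}, g ∈ normalizer (gA D : Set G) → ∀ {m : M false},
      m ∈ (M.sB : Subgroup (M false)) → ∃ n ∈ (M.sB : Subgroup (M false)), g * D.ι m * g⁻¹ = D.ι n :=
    fun hg m hm => by
      obtain ⟨n, a, b⟩ := D.exists_im hg (BA m hm)
      refine ⟨n, by_contra fun k => not_ct_B D hm (D.ct_of (ct_tB h a k) (cjinv b)), b⟩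
  have ρN : D.ρ ∈ normalizer (gA D : Set G) := norm_of fun m hm => ⟨_, rh_A m hm, ρ_act D hm⟩
  have ρtg : D.ρ * D.ι (.T * .Gm) * D.ρ⁻¹ = D.ι (.T * .Gm) := cjm (cj1 D.ρt) (cj1 (D.ρg rfl))
  obtain ⟨g, hg, h1⟩ := exists_g1 h
  obtain ⟨n1, a1, e1⟩ := imB hg (m := .Z) (by decide +kernel)
  obtain ⟨n2, a2, e2⟩ := imB hg (m := .A) (by decide +kernel)
  have c0 : ∀ g : G, g * D.ι 1 * g⁻¹ = D.ι 1 := fun g => by simp
  have k1 := cjcomp (cjcomp (cjinv h1) ρtg) h1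
  have k2 : ∀ {m n : M false}, m ∈ (M.sV : Subgroup (M false)) → n ∈ (M.sB : Subgroup (M false)) →
      g * D.ι m * g⁻¹ = D.ι n → ∃ i j : Bool, rh n = bp n2 i * bp n1 j := fun {m n} hm hn e => by
    have kV : ∀ m : M false, m ∈ (M.sV : Subgroup (M false)) → m ∈ (M.sA : Subgroup (M false)) ∧
      m ∈ (M.sD : Subgroup (M false)) := by decide +kernel
    have kV' : ∀ m : M false, m ∈ (M.sA : Subgroup (M false)) → m ∈ (M.sD : Subgroup (M false)) →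
      m = bp .A m.a * bp .Z m.z := by decide +kernel
    obtain ⟨v, b1, b2⟩ := D.exists_im (mul_mem (mul_mem (inv_mem hg) ρN) hg) (kV m hm).1
    have b3 := kV' v b1 (D.fus _ (cm k1) _ _ (kV m hm).2 b2)
    have b4 := cjm (cjb e2 v.a) (cjb e1 v.z)
    rw [← b3, ← b2] at b4
    refine ⟨v.a, v.z, D.inj ?_⟩
    rw [← b4, ← ρ_act D (BA n hn), ← e]; group
  have key : ∀ n1 : M false, n1 ∈ (M.sB : Subgroup (M false)) → n1 ≠ 1 →
      ∀ n2 : M false, n2 ∈ (M.sB : Subgroup (M false)) → n2 ≠ 1 → n1 ≠ n2 →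
      (∃ i j : Bool, rh n1 = bp n2 i * bp n1 j) → (∃ i j : Bool, rh n2 = bp n2 i * bp n1 j) →
      ∃ i j k : Bool, sw i j k n1 = .Z ∧ sw i j k n2 = .A := by decide +kernel
  obtain ⟨i, j, k, s1, s2⟩ := key n1 a1 ((cje e1 (c0 g)).not.1 (by decide +kernel)) n2 a2
    ((cje e2 (c0 g)).not.1 (by decide +kernel)) ((cje e1 e2).not.1 (by decide +kernel))
    (k2 (by decide +kernel) a1 e1) (k2 (by decide +kernel) a2 e2)
  have k3 : ∀ i j k : Bool, ∀ m : M false, m ∈ (M.sA : Subgroup (M false)) →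
      sw i j k m ∈ (M.sA : Subgroup (M false)) := by decide +kernel
  have k4 : ∀ i j k : Bool, sw i j k (.T * .Gm) = .T * .Gm := by decide +kernel
  have f0 : D.ι (bp .W i) * (bp D.ρ j * bp D.ρ k) * g ∈ normalizer (gA D : Set G) :=
    mul_mem (norm_of fun m hm => ⟨_, k3 i j k m hm, sw_act D i j k hm⟩) hg
  have f1 := cjcomp (sw_act D i j k (BA _ a1)) e1
  have f2 := cjcomp (sw_act D i j k (BA _ a2)) e2
  have f3 := cjcomp (sw_act D i j k (by decide +kernel)) h1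
  rw [s1] at f1
  rw [s2] at f2
  rw [k4] at f3
  generalize D.ι (bp .W i) * (bp D.ρ j * bp D.ρ k) * g = f at f0 f1 f2 f3
  obtain ⟨n3, a3, e3⟩ := imB f0 (m := .Gm) (by decide +kernel)
  have f4 := cjm f2 f1
  have f5 := HA (mul_mem (inv_mem ρN) (mul_mem (mul_mem (inv_mem f0) ρN) f0)) (mem_CV.2
    ⟨cm (cjcomp (cjinv (cj1 D.ρt)) (cjcomp (cjcomp (cjinv f3) ρtg) f3)),
      cm (cjcomp (cjinv D.ρz) (cjcomp (cjcomp (cjinv f2) D.ρz) f1)),
      cm (cjcomp (cjinv D.ρa) (cjcomp (cjcomp (cjinv f4) D.ρa) f2))⟩)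
  have f6 := cjcomp e3 (cjcomp (cj1 (D.ρg rfl)) (cA_cj f5 (m := .Gm) (by decide +kernel)))
  have f7 : rh n3 = n3 := D.inj (by rw [← f6, ← ρ_act D (BA _ a3), ← e3]; group)
  have k5 : ∀ n : M false, n ∈ (M.sB : Subgroup (M false)) → n ≠ 1 → rh n = n → n = .Gm := by
    decide +kernel
  rw [k5 n3 a3 ((cje e3 (c0 f)).not.1 (by decide +kernel)) f7] at e3
  exact ⟨f, mem_inf.2 ⟨f0, mem_cB (cm e3) (cm f2) (cm f1)⟩, f3⟩

namespace XD
variable (Y : XD D)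

theorem exists_r0 (h : D.ct (.T * .Gm)) : ∃ r ∈ Y.X, r * D.ι .T * r⁻¹ = D.ι (.T * .Gm) := by
  obtain ⟨g, hg, h1⟩ := exists_g2 h
  obtain ⟨p, hp, e⟩ := syl_cover (K := centralizer (gA D : Set G)) Y.syl (le_norm_cent inf_le_left)
    (fun k hk => ⟨1, sq_cA hk⟩) hg
  refine ⟨p, hp, ?_⟩
  have := cjcomp (cA_cj (inv_mem e) (by decide +kernel)) h1
  rwa [show (g * p⁻¹)⁻¹ * g = p by group] at this

theorem sqB (h : D.ct (.T * .Gm)) {x : G} (hx : x ∈ Y.X) : x * x ∈ gB D := by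
  have := sq_cA (Y.syl.le hx)
  rw [pow_one, pow_two] at this
  obtain ⟨e, e1, e2⟩ := Y.mem_A (mul_mem hx hx) (cA_cj this (by decide +kernel))
  rw [e2]
  exact D.mem_map.2 (by_contra fun k => D.not_sq (x := x) (e2 ▸ ct_tB h e1 k))

theorem comB (h : D.ct (.T * .Gm)) {x y : G} (hx : x ∈ Y.X) (hy : y ∈ Y.X) :
    ∃ c ∈ (M.sB : Subgroup (M false)), x * y * x⁻¹ = D.ι c * y := by
  obtain ⟨c, a, b⟩ := mul_mem (mul_mem (Y.sqB h (mul_mem hx hy))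
    (Y.sqB h (mul_mem (mul_mem (inv_mem hy) (inv_mem hx)) hy))) (Y.sqB h (inv_mem hy))
  exact ⟨c, a, by rw [b]; group⟩

theorem actX {x : G} {b m : M false} (hx : x ∈ Y.X) (h1 : x * D.ι .T * x⁻¹ = D.ι (.T * b))
    (hm : m ∈ (M.sA : Subgroup (M false))) : x * D.ι m * x⁻¹ = D.ι (la (.T * b) .Gm .A .Z m) :=
  act h1 (Y.cB hx (by decide +kernel)) (Y.cB hx (by decide +kernel)) (Y.cB hx (by decide +kernel)) hm

/-- two elements with the same `φ` -/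
theorem same {x y : G} {b : M false} (hx : x ∈ Y.X) (hy : y ∈ Y.X)
    (h1 : x * D.ι .T * x⁻¹ = D.ι (.T * b)) (h2 : y * D.ι .T * y⁻¹ = D.ι (.T * b)) :
    ∃ e ∈ (M.sA : Subgroup (M false)), y = x * D.ι e := by
  obtain ⟨e, a, c⟩ := Y.mem_A (mul_mem (inv_mem hx) hy) (cjcomp (cjinv h1) h2)
  exact ⟨e, a, by rw [← c]; group⟩

variable {Y} {r : G}

theorem rw1 (h : D.ct (.T * .Gm)) (hr : r ∈ Y.X) (ht : r * D.ι .T * r⁻¹ = D.ι (.T * .Gm)) :
    ∃ e ∈ (M.sB : Subgroup (M false)), D.ι .W * r * (D.ι .W)⁻¹ = r * D.ι e := by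
  have h1 : D.ι .W * r * (D.ι .W)⁻¹ ∈ Y.X := (mem_normalizer_iff.1 Y.wN r).1 hr
  have w1 := cjι' D .W (m := .T) (p := .T) (by decide +kernel)
  obtain ⟨e, a, b⟩ := Y.same hr h1 ht
    (cjcomp (cjcomp (cjι' D .W (by decide +kernel)) ht) (cjinv w1))
  refine ⟨e, by_contra fun k => ?_, b⟩
  obtain ⟨s, s1, s2⟩ := Y.sqB h hr
  have key : ∀ e : M false, e ∈ (M.sA : Subgroup (M false)) → e ∉ (M.sB : Subgroup (M false)) →
      ∀ s : M false, s ∈ (M.sB : Subgroup (M false)) →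
      la (.T * .Gm) .Gm .A .Z e * s ∈ (M.sA : Subgroup (M false)) ∧
      la (.T * .Gm) .Gm .A .Z e * s ∉ (M.sB : Subgroup (M false)) := by decide +kernel
  refine D.not_sq (x := D.ι .A * D.ι .W * r) ?_
  have e1 : D.ι .A * D.ι .W = (D.ι .W)⁻¹ * (D.ι .A)⁻¹ := by
    rw [← map_inv, ← map_inv, ← map_mul, ← map_mul]; exact congrArg D.ι (by decide +kernel)
  have e2 := Y.cB' h1 (m := .A) (by decide +kernel)
  have e3 : D.ι .A * D.ι .W * r * (D.ι .A * D.ι .W * r) = D.ι (la (.T * .Gm) .Gm .A .Z e * s) := by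
    calc D.ι .A * D.ι .W * r * (D.ι .A * D.ι .W * r)
        = D.ι .A * D.ι .W * r * ((D.ι .W)⁻¹ * (D.ι .A)⁻¹ * r) := by rw [← e1]
      _ = D.ι .A * (D.ι .W * r * (D.ι .W)⁻¹) * (D.ι .A)⁻¹ * r := by group
      _ = r * D.ι e * r := by rw [← e2, b]; group
      _ = _ := by rw [map_mul, ← Y.actX hr ht a, s2]; group
  rw [e3]
  exact ct_tB h (key e a k s s1).1 (key e a k s s1).2

theorem rstep (hr : r ∈ Y.X) (ht : r * D.ι .T * r⁻¹ = D.ι (.T * .Gm)) {y : G} {v c : M false}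
    (hy : y ∈ Y.X) (hv : v ∈ (M.sV : Subgroup (M false)))
    (h1 : Y.ρ * y * Y.ρ⁻¹ * D.ι .T * (Y.ρ * y * Y.ρ⁻¹)⁻¹ = D.ι (.T * v))
    (hc : c ∈ (M.sB : Subgroup (M false))) (h2 : r * y * r⁻¹ = D.ι c * y) :
    ∃ c' ∈ (M.sB : Subgroup (M false)), c'.d = c.d ∧
      r * (Y.ρ * y * Y.ρ⁻¹) * r⁻¹ = D.ι c' * (Y.ρ * y * Y.ρ⁻¹) := by
  obtain ⟨e, a, b⟩ := Y.same hr (Y.ρX hr) ht
    ((Y.ρphi (by decide +kernel) ht).trans (congrArg D.ι (by decide +kernel)))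
  have key : ∀ e : M false, e ∈ (M.sA : Subgroup (M false)) →
      ∀ v : M false, v ∈ (M.sV : Subgroup (M false)) →
      e * la (.T * v) .Gm .A .Z e⁻¹ ∈ (M.sV : Subgroup (M false)) := by decide +kernel
  have key2 : ∀ f : M false, f ∈ (M.sV : Subgroup (M false)) → f ∈ (M.sB : Subgroup (M false)) ∧
      ∀ c : M false, c ∈ (M.sB : Subgroup (M false)) →
        f⁻¹ * rh c ∈ (M.sB : Subgroup (M false)) ∧ (f⁻¹ * rh c).d = c.d := by decide +kernel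
  obtain ⟨k1, k2⟩ := key2 _ (key e a v hv)
  refine ⟨_, (k2 c hc).1, (k2 c hc).2, ?_⟩
  have e1 := Y.actX (Y.ρX hy) h1 (inv_mem a)
  have e2 := Y.cB hr k1
  have e3 := Y.ρA c (BA c hc)
  have e4 : r * D.ι e * (Y.ρ * y * Y.ρ⁻¹) * (r * D.ι e)⁻¹ = D.ι (rh c) * (Y.ρ * y * Y.ρ⁻¹) := by
    rw [← b, ← e3]
    calc _ = Y.ρ * (r * y * r⁻¹) * Y.ρ⁻¹ := by group
      _ = _ := by rw [h2]; group
  rw [map_mul, map_inv, mul_assoc (D.ι _)⁻¹, ← e4, ← e2, map_mul, ← e1, map_inv]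
  generalize Y.ρ * y * Y.ρ⁻¹ = y'
  group

variable {ty : Bool} {b : M false}

theorem ru1 (h : D.ct (.T * .Gm)) (hb : b ∈ (M.sB : Subgroup (M false)))
    (hu : D.ι (U ty) * Y.u1 ty * Y.u2 ty = D.ι b) (hr : r ∈ Y.X)
    (ht : r * D.ι .T * r⁻¹ = D.ι (.T * .Gm)) :
    ∃ i : Bool, r * D.ι (U ty) * r⁻¹ = D.ι (bp .Z i * U ty) := by
  obtain ⟨c0, a0, e0⟩ := Y.comB h hr (Y.uX ty)
  obtain ⟨c1, a1, d1, e1⟩ := rstep hr ht (Y.uX ty) (by decide +kernel) (Y.u1t ty) a0 e0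
  obtain ⟨c2, a2, d2, e2⟩ := rstep hr ht (Y.u1X ty) (by decide +kernel) (Y.u2t ty) a1 e1
  have e3 : c0 * c1 * c2 = 1 := by
    have f0 := Y.cB hr hb
    have f1 := Y.cB' (Y.uX ty) a1
    have f2 := Y.cB' (mul_mem (Y.uX ty) (Y.u1X ty)) a2
    have e1' : r * Y.u1 ty * r⁻¹ = D.ι c1 * Y.u1 ty := e1
    have e2' : r * Y.u2 ty * r⁻¹ = D.ι c2 * Y.u2 ty := e2
    rw [← hu] at f0
    apply D.inj
    rw [map_mul, map_mul, map_one]
    generalize Y.u1 ty = x at *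
    generalize Y.u2 ty = y at *
    generalize D.ι (U ty) = v at *
    have f3 : r * (v * x * y) * r⁻¹ = D.ι c0 * D.ι c1 * D.ι c2 * (v * x * y) := by
      calc r * (v * x * y) * r⁻¹ = r * v * r⁻¹ * (r * x * r⁻¹) * (r * y * r⁻¹) := by group
        _ = D.ι c0 * (v * D.ι c1) * x * D.ι c2 * y := by rw [e0, e1', e2']; group
        _ = D.ι c0 * D.ι c1 * (v * x * D.ι c2) * y := by rw [f1]; group
        _ = _ := by rw [f2]; group
    rw [f0] at f3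
    exact mul_eq_right.1 f3.symm
  obtain ⟨e, a, e4⟩ := rw1 h hr ht
  have e5 : .W * c0 * .W⁻¹ = c0 := by
    have f1 := cjι' D .W (m := U ty) (p := U ty) (by cases ty <;> decide +kernel)
    have f2 := Y.cB' (Y.uX ty) a
    apply D.inj
    apply mul_right_cancel (b := D.ι (U ty))
    calc D.ι (.W * c0 * .W⁻¹) * D.ι (U ty) = D.ι .W * (D.ι c0 * D.ι (U ty)) * (D.ι .W)⁻¹ := by
          conv_lhs => rw [← cjι, ← f1]
          group
      _ = D.ι .W * r * (D.ι .W)⁻¹ * (D.ι .W * D.ι (U ty) * (D.ι .W)⁻¹) * (D.ι .W * r * (D.ι .W)⁻¹)⁻¹ := by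
          rw [← e0]; group
      _ = r * (D.ι e * D.ι (U ty)) * (D.ι e)⁻¹ * r⁻¹ := by rw [e4, f1]; group
      _ = _ := by rw [← f2, ← e0]; group
  have key : ∀ c0 : M false, c0 ∈ (M.sB : Subgroup (M false)) → .W * c0 * .W⁻¹ = c0 →
      ∀ c1 : M false, c1 ∈ (M.sB : Subgroup (M false)) → c1.d = c0.d → (c0 * c1)⁻¹.d = c1.d →
      ∃ i : Bool, c0 = bp .Z i := by decide +kernel
  obtain ⟨i, hi⟩ := key c0 a0 e5 c1 a1 d1 (by rw [← eq_inv_of_mul_eq_one_right e3]; exact d2)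
  exact ⟨i, by rw [e0, map_mul, hi]⟩

theorem rw2 (h : D.ct (.T * .Gm)) (hr : r ∈ Y.X) (ht : r * D.ι .T * r⁻¹ = D.ι (.T * .Gm)) :
    ∃ e ∈ (M.sB : Subgroup (M false)), r * D.ι .W * r⁻¹ = D.ι (e⁻¹ * .W) := by
  obtain ⟨e, a, e1⟩ := rw1 h hr ht
  refine ⟨e, a, ?_⟩
  have e2 := Y.cB hr a
  rw [map_mul, map_inv, ← e2]
  calc r * D.ι .W * r⁻¹ = r * (D.ι e)⁻¹ * r⁻¹ * (r * D.ι e) * D.ι .W * r⁻¹ := by group
    _ = r * (D.ι e)⁻¹ * r⁻¹ * (D.ι .W * r * (D.ι .W)⁻¹) * D.ι .W * r⁻¹ := by rw [e1]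
    _ = _ := by group

theorem rFp (h : D.ct (.T * .Gm)) (hr : r ∈ Y.X) (ht : r * D.ι .T * r⁻¹ = D.ι (.T * .Gm))
    (hu : r * D.ι (U ty) * r⁻¹ = D.ι (U ty)) : r ∈ normalizer (D.Fp : Set G) := by
  obtain ⟨e, a, hw⟩ := rw2 h hr ht
  have key : ∀ e : M false, e ∈ (M.sB : Subgroup (M false)) → e⁻¹ * .W ∈ (M.sFp : Subgroup (M false)) ∧
      .Gm * (e⁻¹ * .W)⁻¹ ∈ (M.sFp : Subgroup (M false)) := by decide +kernel
  have p : ∀ {m n : M false}, r * D.ι m * r⁻¹ = D.ι n → n ∈ (M.sFp : Subgroup (M false)) →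
      m ∈ (D.Fp.comap (MulAut.conj r).toMonoidHom).comap D.ι := fun e hn => by
    show r * _ * r⁻¹ ∈ D.Fp
    rw [e]; exact D.mem_map.2 hn
  have h1 : (M.sFp : Subgroup (M false)) ≤ (D.Fp.comap (MulAut.conj r).toMonoidHom).comap D.ι := by
    refine M.sFp_le (p ht (by decide +kernel)) ?_ ?_ (p hw (key e a).1)
      (p (Y.cB hr (by decide +kernel)) (by decide +kernel))
    · rw [show (.B : M false) = bp .T (!ty) * U ty by cases ty <;> decide +kernel]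
      exact p (cjm (cjb ht _) hu) (by cases ty <;> decide +kernel)
    · rw [show (.D : M false) = .Gm * .W⁻¹ by decide +kernel]
      exact p (cjm (Y.cB hr (by decide +kernel)) (cji hw)) (key e a).2
  exact mem_normalizer_fintype (by
    rintro _ ⟨m, hm, rfl⟩
    exact h1 hm)

theorem rw3 (h : D.ct (.T * .Gm)) (hr : r ∈ Y.X) (ht : r * D.ι .T * r⁻¹ = D.ι (.T * .Gm))
    (hu : r * D.ι (U ty) * r⁻¹ = D.ι (U ty)) : ∃ i : Bool, r * D.ι .W * r⁻¹ = D.ι (bp .Z i * .W) := by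
  obtain ⟨e, a, hw⟩ := rw2 h hr ht
  have n1 := rFp h hr ht hu
  have n2 : D.ι .Q ∈ normalizer (D.Fp : Set G) := D.T1_le_nFp ⟨_, rfl⟩
  have rz := Y.cB hr (m := .Z) (by decide +kernel)
  have rg := Y.cB hr (m := .Gm) (by decide +kernel)
  have ra := Y.cB hr (m := .A) (by decide +kernel)
  have key : ∀ e : M false, e ∈ (M.sB : Subgroup (M false)) → e⁻¹ * .W * (e⁻¹ * .W) = .Z →
      .Q * ((e⁻¹ * .W)⁻¹ * .A) * .Q⁻¹ ∈ (M.sB : Subgroup (M false)) ∧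
      ∀ u : M false, .Q * ((e⁻¹ * .W)⁻¹ * .A) * .Q⁻¹ = u * .A * u⁻¹ → ∃ i : Bool, e⁻¹ = bp .Z i := by
    decide +kernel
  obtain ⟨k1, k2⟩ := key e a ((cje (cjm hw hw) rz).1 (by decide +kernel))
  have qz := cjι' D .Q (m := .Z) (p := .Z) (by decide +kernel)
  have t1 := cjcomp (cjcomp (cjcomp (cjm (cjm ht rg) rz) (cjι' D .Q (by decide +kernel))) ht)
    (cjinv (cjι' D .Q (m := .T) (p := .T) (by decide +kernel)))
  obtain ⟨v, hv⟩ := D.ST (mul_mem (mul_mem (mul_mem n1 n2) n1) (inv_mem n2))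
    (cm (cjcomp (cjcomp (cjcomp rz qz) rz) (cjinv qz)))
    (Or.inr (t1.trans (congrArg D.ι (by decide +kernel))))
  have a1 := cjcomp (cjcomp (cjcomp (Y.cB hr k1) (cjι D _ _)) (cjm (cji hw) ra))
    (cjinv (cjι' D .Q (m := .W⁻¹ * .A) (p := .A) (by decide +kernel)))
  obtain ⟨i, hi⟩ := k2 v (D.inj (a1.symm.trans (hv _ (by decide +kernel))))
  exact ⟨i, hi ▸ hw⟩

theorem exists_r2 (h : D.ct (.T * .Gm)) (hb : b ∈ (M.sB : Subgroup (M false)))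
    (hu : D.ι (U ty) * Y.u1 ty * Y.u2 ty = D.ι b) : ∃ r ∈ Y.X, r * D.ι .T * r⁻¹ = D.ι (.T * .Gm) ∧
      r * D.ι (U ty) * r⁻¹ = D.ι (U ty) ∧ r * D.ι .W * r⁻¹ = D.ι .W := by
  obtain ⟨r, hr, ht⟩ := Y.exists_r0 h
  obtain ⟨i, hi⟩ := ru1 h hb hu hr ht
  have hr1 : r * D.ι (bp .T i) ∈ Y.X := mul_mem hr (Y.ιX (by cases i <;> decide +kernel))
  have ht1 := cjcomp ht (cjι' D (bp .T i) (m := .T) (by cases i <;> decide +kernel))
  have hu1 : r * D.ι (bp .T i) * D.ι (U ty) * (r * D.ι (bp .T i))⁻¹ = D.ι (U ty) :=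
    (cjcomp (cjm (cjb (Y.cB hr (m := .Z) (by decide +kernel)) i) hi)
      (cjι' D (bp .T i) (by cases i <;> cases ty <;> decide +kernel))).trans
      (congrArg D.ι (by cases i <;> cases ty <;> decide +kernel))
  generalize r * D.ι (bp .T i) = s at hr1 ht1 hu1
  obtain ⟨j, hj⟩ := rw3 h hr1 ht1 hu1
  refine ⟨s * D.ι (bp .A j), mul_mem hr1 (Y.ιX (by cases j <;> decide +kernel)),
    cjcomp ht1 (cjι' D _ (by cases j <;> decide +kernel)),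
    cjcomp hu1 (cjι' D _ (by cases j <;> cases ty <;> decide +kernel)), ?_⟩
  exact (cjcomp (cjm (cjb (Y.cB hr1 (m := .Z) (by decide +kernel)) j) hj)
    (cjι' D (bp .A j) (by cases j <;> decide +kernel))).trans (congrArg D.ι (by cases j <;> decide +kernel))

end XD

/-- adjusting `r` by `C(F')` -/
theorem exists_r3 {r : G} (hn : r ∈ normalizer (D.Fp : Set G)) (hz : r * D.ι .Z * r⁻¹ = D.ι .Z)
    (ht : r * D.ι .T * r⁻¹ = D.ι (.T * .Gm)) : ∃ s ∈ normalizer (D.T1 : Set G),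
      ∀ m ∈ (M.sFp : Subgroup (M false)), s * D.ι m * s⁻¹ = r * D.ι m * r⁻¹ := by
  have hS : IsSylowIn 2 D.T1 (NZ (D.ι .T) (D.ι .Z) D.z2 ⊓ normalizer (D.Fp : Set G)) :=
    D.syl1.mono (le_inf D.T1_le_NZ D.T1_le_nFp) inf_le_left
  obtain ⟨n, hn1, e⟩ := hS.exists_conj_le (P := cj r⁻¹ D.T1) (by
    rintro _ ⟨_, ⟨m, rfl⟩, rfl⟩
    show r⁻¹ * D.ι m * r⁻¹⁻¹ ∈ _
    rw [inv_inv]
    have key : ∀ m : M false, m * (.T * .Gm) * m⁻¹ = .T * .Gm ∨ m * (.T * .Gm) * m⁻¹ = .T * .Gm * .Z := by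
      decide +kernel
    refine mem_inf.2 ⟨D.mem_NZ'.2 ⟨cm (cjcomp (cjcomp (cjinv hz) (cj1 (D.zc m))) hz), ?_⟩,
      mul_mem (mul_mem (inv_mem hn) (D.T1_le_nFp ⟨m, rfl⟩)) hn⟩
    rcases key m with k | k
    · exact Or.inl (cjcomp (cjcomp (cjinv ht) (cjι' D m k)) ht)
    · exact Or.inr (cjcomp (cjcomp (cjinv (cjm ht hz)) (cjι' D m k)) ht)) (isPGroup_cj D.pT1 _)
  obtain ⟨v, hv⟩ := D.ST' hn1.2 hn1.1.1 (D.mem_NZ'.1 hn1.1).2
  have h1 : (D.ι v)⁻¹ * (n * (D.ι v)⁻¹) * D.ι v ∈ centralizer (D.Fp : Set G) :=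
    conj_mem' (le_norm_cent D.T1_le_nFp) ⟨v, rfl⟩ hv
  have h2 : (D.ι v)⁻¹ * n * r⁻¹ ∈ normalizer (D.T1 : Set G) := mem_normalizer_fintype fun x hx => by
    have := conj_mem' (H := D.T1) le_normalizer ⟨v, rfl⟩ (e (conj_mem_cj (g := n) (conj_mem_cj (g := r⁻¹) hx)))
    rwa [show (D.ι v)⁻¹ * (n * (r⁻¹ * x * r⁻¹⁻¹) * n⁻¹) * D.ι v =
      (D.ι v)⁻¹ * n * r⁻¹ * x * ((D.ι v)⁻¹ * n * r⁻¹)⁻¹ by group] at this
  refine ⟨_, inv_mem h2, fun m hm => ?_⟩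
  have := h1 _ (D.mem_map.2 hm)
  calc _ = r * ((D.ι v)⁻¹ * (n * (D.ι v)⁻¹) * D.ι v)⁻¹ *
        (D.ι m * ((D.ι v)⁻¹ * (n * (D.ι v)⁻¹) * D.ι v)) * r⁻¹ := by group
    _ = _ := by rw [this]; group

theorem XD.r8 {Y : XD D} {ty : Bool} {b : M false} (hb : b ∈ (M.sB : Subgroup (M false)))
    (hu : D.ι (U ty) * Y.u1 ty * Y.u2 ty = D.ι b) (h : D.ct (.T * .Gm)) : ∃ r, RP D ty r := by
  obtain ⟨r, hr, ht, h1, hw⟩ := XD.exists_r2 h hb hu
  have rz := Y.cB hr (m := .Z) (by decide +kernel)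
  have rg := Y.cB hr (m := .Gm) (by decide +kernel)
  have rd : r * D.ι .D * r⁻¹ = D.ι .D := by
    rw [show (.D : M false) = .Gm * .W⁻¹ by decide +kernel]; exact cjm rg (cji hw)
  have re : r * D.ι (.Ep ty) * r⁻¹ = D.ι (.Ep ty) := by
    rw [show (.Ep ty : M false) = U ty * bp .Z (!ty) * bp .D (!ty) by cases ty <;> decide +kernel]
    exact cjm (cjm h1 (cjb rz _)) (cjb rd _)
  obtain ⟨s, hs, e⟩ := exists_r3 (XD.rFp h hr ht h1) rz ht
  obtain ⟨n, k, hn, hk⟩ := exists_coprime_pow_pelt (p := 2) s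
  have c : ∀ {m : M false}, m ∈ (M.sFp : Subgroup (M false)) → r * D.ι m * r⁻¹ = D.ι m →
      s * D.ι m = D.ι m * s := fun hm a => cm ((e _ hm).trans a)
  have c' : ∀ {m : M false}, m ∈ (M.sFp : Subgroup (M false)) → r * D.ι m * r⁻¹ = D.ι m →
      s ^ n * D.ι m = D.ι m * s ^ n := fun hm a => (Commute.pow_left (c hm a) n).eq
  refine ⟨s ^ n, pow_mem hs n, ⟨k, hk⟩, c' (by decide +kernel) rz, c' (by decide +kernel) rd,
    c' (by decide +kernel) hw, c' (by decide +kernel) (Y.cB hr (by decide +kernel)),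
    c' (by cases ty <;> decide +kernel) re, Or.inl ?_⟩
  obtain ⟨j, rfl⟩ := Nat.coprime_two_right.1 hn
  have g2 : D.ι .Gm ^ 2 = 1 := by
    rw [← map_pow, ← map_one D.ι]; exact congrArg D.ι (by decide +kernel)
  rw [fix_pow (u := D.ι .Gm) (by rw [e _ (by decide +kernel), ht, map_mul]) (c (by decide +kernel) rg),
    pow_succ, pow_mul, g2, one_pow, one_mul, map_mul]

/-- piece X2 of project L33 -/
theorem x2 : X2S.{u} := fun G _ _ D => by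
  obtain ⟨Y⟩ := exists_XD D
  obtain ⟨ty, b, hb, hu⟩ := Y.exists_ty
  exact ⟨⟨ty, Y.u1 ty, Y.cB' (Y.u1X ty) (by decide +kernel), Y.cB' (Y.u1X ty) (by decide +kernel),
    Y.cB' (Y.u1X ty) (by decide +kernel), Or.inl (Y.u1t ty), ⟨false, Or.inl (XD.xb hb hu)⟩,
    XD.xw hb hu, ng D, XD.n1 hb hu, XD.n2 hb hu, XD.r8 hb hu⟩⟩

theorem sw_eqns : True := by
  have := @sw.eq_1
  trivial

end Cfsg.Agent.H10.X2
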