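import Cfsg.Agent.H40.L3K2

/-! Project L33, piece X2 (part 1): the Sylow 2-subgroup `X` of `N(A) ∩ C(B)`. -/

set_option autoImplicit false
set_option linter.unusedSectionVars false
set_option synthInstance.maxSize 8192

noncomputable section

namespace Cfsg.Agent.H10.X2

open Subgroup Cfsg.Agent.H83 Cfsg.Agent.H40.L3 Cfsg.Agent.H40.L3.D2

/-- the map of `A` given by the images of `t, γ, a, z` -/
def la (t g a z m : M false) : M false := bp t m.t * bp g m.d * bp a m.a * bp z m.z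

theorem la_eqns : True := by
  have := @la.eq_1
  trivial

theorem la_id : ∀ m : M false, m ∈ (M.sA : Subgroup (M false)) → m = la .T .Gm .A .Z m := by
  decide +kernel

/-- the action of `ρ` on `A` -/
abbrev rh : M false → M false := la .T .Gm (.A * .Z) .A

variable {G : Type*} [Group G] {D : D2 G false}

theorem cjb {k : G} {m n : M false} (h : k * D.ι m * k⁻¹ = D.ι n) (c : Bool) :
    k * D.ι (bp m c) * k⁻¹ = D.ι (bp n c) := by
  cases c
  · simp [bp]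
  · exact h

theorem act {k : G} {t g a z : M false} (ht : k * D.ι .T * k⁻¹ = D.ι t)
    (hg : k * D.ι .Gm * k⁻¹ = D.ι g) (ha : k * D.ι .A * k⁻¹ = D.ι a) (hz : k * D.ι .Z * k⁻¹ = D.ι z)
    {m : M false} (hm : m ∈ (M.sA : Subgroup (M false))) : k * D.ι m * k⁻¹ = D.ι (la t g a z m) := by
  conv_lhs => rw [la_id m hm]
  exact cjm (cjm (cjm (cjb ht _) (cjb hg _)) (cjb ha _)) (cjb hz _)

theorem cjcomp {k l : G} {m n p : M false} (a : k * D.ι n * k⁻¹ = D.ι p) (b : l * D.ι m * l⁻¹ = D.ι n) :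
    k * l * D.ι m * (k * l)⁻¹ = D.ι p := by rw [← a, ← b]; group

theorem cjinv {k : G} {m n : M false} (a : k * D.ι m * k⁻¹ = D.ι n) :
    k⁻¹ * D.ι n * k⁻¹⁻¹ = D.ι m := by rw [← a]; group

theorem cjι (D : D2 G false) (n m : M false) : D.ι n * D.ι m * (D.ι n)⁻¹ = D.ι (n * m * n⁻¹) := by simp

theorem cjι' (D : D2 G false) (n : M false) {m p : M false} (h : n * m * n⁻¹ = p) :
    D.ι n * D.ι m * (D.ι n)⁻¹ = D.ι p := by rw [← h]; simp

theorem cm {k : G} {m : M false} (h : k * D.ι m * k⁻¹ = D.ι m) : k * D.ι m = D.ι m * k :=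
  mul_inv_eq_iff_eq_mul.1 h

variable (D) in
abbrev gA : Subgroup G := M.sA.map D.ι
variable (D) in
abbrev gB : Subgroup G := M.sB.map D.ι

theorem mem_cA {k : G} (ht : k * D.ι .T = D.ι .T * k) (hg : k * D.ι .Gm = D.ι .Gm * k)
    (ha : k * D.ι .A = D.ι .A * k) (hz : k * D.ι .Z = D.ι .Z * k) :
    k ∈ centralizer (gA D : Set G) := by
  rintro _ ⟨m, hm, rfl⟩
  have := act (cj1 ht) (cj1 hg) (cj1 ha) (cj1 hz) hm
  rw [← la_id m hm] at this
  exact (cm this).symm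

theorem cA_cj {k : G} (h : k ∈ centralizer (gA D : Set G)) {m : M false}
    (hm : m ∈ (M.sA : Subgroup (M false))) : k * D.ι m * k⁻¹ = D.ι m :=
  cj1 (h _ (D.mem_map.2 hm)).symm

theorem cB_cj {k : G} (h : k ∈ centralizer (gB D : Set G)) {m : M false}
    (hm : m ∈ (M.sB : Subgroup (M false))) : k * D.ι m * k⁻¹ = D.ι m :=
  cj1 (h _ (D.mem_map.2 hm)).symm

theorem mem_cB {k : G} (hg : k * D.ι .Gm = D.ι .Gm * k)
    (ha : k * D.ι .A = D.ι .A * k) (hz : k * D.ι .Z = D.ι .Z * k) :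
    k ∈ centralizer (gB D : Set G) := by
  rintro _ ⟨m, hm, rfl⟩
  have key : ∀ m : M false, m ∈ (M.sB : Subgroup (M false)) → m = bp .Gm m.d * bp .A m.a * bp .Z m.z := by
    decide +kernel
  have := cjm (cjm (cjb (cj1 hg) m.d) (cjb (cj1 ha) m.a)) (cjb (cj1 hz) m.z)
  rw [← key m hm] at this
  exact (cm this).symm

theorem norm_of [Finite G] {k : G} {H : Subgroup (M false)}
    (h : ∀ m ∈ H, ∃ n ∈ H, k * D.ι m * k⁻¹ = D.ι n) : k ∈ normalizer (H.map D.ι : Set G) :=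
  mem_normalizer_fintype (by
    rintro _ ⟨m, hm, rfl⟩
    obtain ⟨n, a, b⟩ := h m hm
    exact ⟨n, a, b.symm⟩)

theorem ρ_act (D : D2 G false) {m : M false} (hm : m ∈ (M.sA : Subgroup (M false))) :
    D.ρ * D.ι m * D.ρ⁻¹ = D.ι (rh m) := act (cj1 D.ρt) (cj1 (D.ρg rfl)) D.ρa D.ρz hm

theorem rh_A : ∀ m : M false, m ∈ (M.sA : Subgroup (M false)) → rh m ∈ (M.sA : Subgroup (M false)) := by
  decide +kernel
theorem rh_B : ∀ m : M false, m ∈ (M.sB : Subgroup (M false)) → rh m ∈ (M.sB : Subgroup (M false)) := by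
  decide +kernel
theorem BA : ∀ m : M false, m ∈ (M.sB : Subgroup (M false)) → m ∈ (M.sA : Subgroup (M false)) := by
  decide +kernel

theorem pA (D : D2 G false) : IsPGroup 2 (gA D) := D.pT1.to_le (D.map_le _)

theorem card_A (D : D2 G false) : Nat.card (gA D) = 16 := by
  rw [D.card_map, M.card_sub]; decide +kernel

variable (D) in
/-- `C(t, z, a)` -/
abbrev CV : Subgroup G :=
  centralizer ({D.ι .T} : Set G) ⊓ (centralizer ({D.ι .Z} : Set G) ⊓ centralizer ({D.ι .A} : Set G))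

theorem mem_CV {k : G} : k ∈ CV D ↔
    k * D.ι .T = D.ι .T * k ∧ k * D.ι .Z = D.ι .Z * k ∧ k * D.ι .A = D.ι .A * k := by
  simp only [mem_inf, mem_centralizer_singleton_iff]

theorem cA_le_CV (D : D2 G false) : centralizer (gA D : Set G) ≤ CV D := fun _ hk =>
  mem_CV.2 ⟨cm (cA_cj hk (by decide +kernel)), cm (cA_cj hk (by decide +kernel)),
    cm (cA_cj hk (by decide +kernel))⟩

theorem A_le_cA (D : D2 G false) : gA D ≤ centralizer (gA D : Set G) := by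
  rintro _ ⟨m, hm, rfl⟩ _ ⟨n, hn, rfl⟩
  have key : ∀ m : M false, m ∈ (M.sA : Subgroup (M false)) → ∀ n : M false,
      n ∈ (M.sA : Subgroup (M false)) → n * m = m * n := by decide +kernel
  exact D.comm_iff.2 (key m hm n hn)

section fin
variable [Finite G]

/-- `A` is a Sylow 2-subgroup of `C(t, z, a)` -/
theorem sylV (D : D2 G false) : IsSylowIn 2 (gA D) (CV D) := by
  refine ⟨(A_le_cA D).trans (cA_le_CV D), pA D, fun P hP hp hle => ?_⟩
  obtain ⟨g, h1, h2⟩ := D.extr (IsConj.refl _) hp fun x hx => (mem_CV.1 (hP hx)).1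
  obtain ⟨m1, -, e1⟩ := h2 (D.ι .Z) (hle (D.mem_map.2 (by decide +kernel)))
  obtain ⟨m2, -, e2⟩ := h2 (D.ι .A) (hle (D.mem_map.2 (by decide +kernel)))
  have c0 : g * D.ι 1 * g⁻¹ = D.ι 1 := by simp
  have key : ∀ m1 : M false, m1 ∈ (M.sD : Subgroup (M false)) → m1 * m1 = 1 → m1 ≠ 1 →
      ∀ m2 : M false, m2 ∈ (M.sD : Subgroup (M false)) → m2 * m2 = 1 → m2 ≠ 1 → m1 ≠ m2 →
      m1 * m2 = m2 * m1 → ∃ i : Bool, ∀ n : M false, n ∈ (M.sS : Subgroup (M false)) →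
      n * m1 = m1 * n → n * m2 = m2 * n → bp .Q i * n * (bp .Q i)⁻¹ ∈ (M.sA : Subgroup (M false)) := by
    decide +kernel
  obtain ⟨i, hi⟩ := key m1 (D.fus g (cm h1) _ _ (by decide +kernel) e1)
    ((cje (cjm e1 e1) c0).1 (by decide +kernel)) ((cje e1 c0).not.1 (by decide +kernel))
    m2 (D.fus g (cm h1) _ _ (by decide +kernel) e2)
    ((cje (cjm e2 e2) c0).1 (by decide +kernel)) ((cje e2 c0).not.1 (by decide +kernel))
    ((cje e1 e2).not.1 (by decide +kernel)) ((cjc e1 e2).1 (by decide +kernel))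
  have h3 : cj (D.ι (bp .Q i) * g) P ≤ gA D := by
    rintro _ ⟨x, hx, rfl⟩
    obtain ⟨n, a, b⟩ := h2 x hx
    have c : ∀ {u v : M false}, g * D.ι u * g⁻¹ = D.ι v → x * D.ι u = D.ι u * x → n * v = v * n :=
      fun {u v} e k => D.comm_iff.1 (by
        rw [← b, ← e]
        calc g * x * g⁻¹ * (g * D.ι u * g⁻¹) = g * (x * D.ι u) * g⁻¹ := by group
          _ = _ := by rw [k]; group)
    refine ⟨_, hi n a (c e1 (mem_CV.1 (hP hx)).2.1) (c e2 (mem_CV.1 (hP hx)).2.2), ?_⟩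
    show _ = D.ι (bp .Q i) * g * x * (D.ι (bp .Q i) * g)⁻¹
    rw [← cjι, ← b]; group
  refine (eq_of_le_of_card_ge hle ?_).symm
  rw [← card_cj (D.ι (bp .Q i) * g) P]
  exact card_le_of_le h3

theorem sylA (D : D2 G false) : IsSylowIn 2 (gA D) (centralizer (gA D : Set G)) :=
  (sylV D).mono (A_le_cA D) (cA_le_CV D)

/-- an element of `N(A) ∩ C(t, z, a)` centralizes `A` -/
theorem HA {h : G} (hn : h ∈ normalizer (gA D : Set G)) (hc : h ∈ CV D) :
    h ∈ centralizer (gA D : Set G) := by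
  have hS : IsSylowIn 2 (gA D) (CV D ⊓ normalizer (gA D : Set G)) :=
    (sylV D).mono (le_inf (sylV D).le le_normalizer) inf_le_left
  obtain ⟨p, hp, e⟩ := syl_cover (K := centralizer (gA D : Set G)) hS (le_norm_cent inf_le_right)
    (fun k hk => ⟨1, by
      obtain ⟨a, b, c⟩ := mem_CV.1 hk.1
      obtain ⟨n, n1, n2⟩ := D.exists_im hk.2 (m := .Gm) (by decide +kernel)
      have key : ∀ n : M false, n ∈ (M.sA : Subgroup (M false)) →
          (∃ m : M false, m ∈ (M.sA : Subgroup (M false)) ∧ la .T n .A .Z m = .Gm) →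
          la .T n .A .Z n = .Gm := by decide +kernel
      obtain ⟨m, m1, m2⟩ := D.exists_im (inv_mem hk.2) (m := .Gm) (by decide +kernel)
      have e1 := key n n1 ⟨m, m1, D.inj (by
        rw [← act (cj1 a) n2 (cj1 c) (cj1 b) m1, ← m2]; group)⟩
      have e2 := cjcomp (act (cj1 a) n2 (cj1 c) (cj1 b) n1) n2
      rw [e1] at e2
      rw [pow_one, pow_two]
      exact mem_cA (cm (cjcomp (cj1 a) (cj1 a))) (cm e2) (cm (cjcomp (cj1 c) (cj1 c)))
        (cm (cjcomp (cj1 b) (cj1 b)))⟩) (h := h) ⟨hc, hn⟩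
  simpa using mul_mem e (A_le_cA D hp)

/-- `γ` is not conjugate to `t` -/
theorem ng (D : D2 G false) : ¬ D.ct .Gm := fun h => by
  have key : ∀ m : M false, m ∈ (M.sFp : Subgroup (M false)) → m * .Gm = .Gm * m ∧ m * m * (m * m) = 1 := by
    decide +kernel
  obtain ⟨g, -, h2⟩ := D.extr (P := D.Fp) h (D.pT1.to_le (D.map_le _)) (by
    rintro _ ⟨m, hm, rfl⟩
    exact D.comm_iff.2 (key m hm).1)
  have h3 : cj g D.Fp = M.sS.map D.ι := eq_of_le_of_card_ge (by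
    rintro _ ⟨x, hx, rfl⟩
    obtain ⟨n, a, b⟩ := h2 x hx
    exact ⟨n, a, b.symm⟩) (by rw [card_cj, D.card_Fp, D.card_map, M.card_sS])
  have h4 : D.ι (.Q * .A) ∈ cj g D.Fp := h3 ▸ D.mem_map.2 (by decide +kernel)
  obtain ⟨_, ⟨m, hm, rfl⟩, e⟩ := h4
  have e' : g * D.ι m * g⁻¹ = D.ι (.Q * .A) := e
  have c0 : g * D.ι 1 * g⁻¹ = D.ι 1 := by simp
  exact absurd ((cje (cjm (cjm e' e') (cjm e' e')) c0).1 (key m hm).2) (by decide +kernel)

theorem not_ct_B (D : D2 G false) {m : M false} (hm : m ∈ (M.sB : Subgroup (M false))) : ¬ D.ct m := by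
  intro h
  have key : ∀ m : M false, m ∈ (M.sB : Subgroup (M false)) → m = 1 ∨ m = .Z ∨ rh m = .Z ∨ rh (rh m) = .Z ∨
      m = .Gm ∨ .Q * m * .Q⁻¹ = .Gm ∨ .Q * rh m * .Q⁻¹ = .Gm ∨ .Q * rh (rh m) * .Q⁻¹ = .Gm := by
    decide +kernel
  have h1 := D.ct_of h (ρ_act D (BA m hm))
  have h2 := D.ct_of h1 (ρ_act D (BA _ (rh_B m hm)))
  rcases key m hm with e | e | e | e | e | e | e | e
  · exact (D.ct_sq h).2.1 e
  · exact (D.ct_sq h).2.2 e
  · exact (D.ct_sq h1).2.2 e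
  · exact (D.ct_sq h2).2.2 e
  · exact ng D (e ▸ h)
  · exact ng D (e ▸ D.ct_cj h _)
  · exact ng D (e ▸ D.ct_cj h1 _)
  · exact ng D (e ▸ D.ct_cj h2 _)

variable (D) in
/-- `N₀ = N(A) ∩ C(B)` -/
abbrev N0 : Subgroup G := normalizer (gA D : Set G) ⊓ centralizer (gB D : Set G)

theorem phi {x : G} (hx : x ∈ N0 D) :
    ∃ b ∈ (M.sB : Subgroup (M false)), x * D.ι .T * x⁻¹ = D.ι (.T * b) := by
  obtain ⟨n, n1, n2⟩ := D.exists_im hx.1 (m := .T) (by decide +kernel)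
  have key : ∀ n : M false, n ∈ (M.sA : Subgroup (M false)) → n ∈ (M.sB : Subgroup (M false)) ∨
      (.T * n ∈ (M.sB : Subgroup (M false)) ∧ n = .T * (.T * n)) := by decide +kernel
  rcases key n n1 with k | ⟨k, e⟩
  · exact absurd (D.ct_of D.ct_T n2) (not_ct_B D k)
  · exact ⟨_, k, e ▸ n2⟩

theorem cA_of {x : G} (hx : x ∈ N0 D) (ht : x * D.ι .T = D.ι .T * x) :
    x ∈ centralizer (gA D : Set G) :=
  mem_cA ht (cm (cB_cj hx.2 (by decide +kernel))) (cm (cB_cj hx.2 (by decide +kernel)))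
    (cm (cB_cj hx.2 (by decide +kernel)))

theorem sq_cA {x : G} (hx : x ∈ N0 D) : x ^ 2 ^ 1 ∈ centralizer (gA D : Set G) := by
  obtain ⟨b, b1, b2⟩ := phi hx
  have key : ∀ b : M false, b ∈ (M.sB : Subgroup (M false)) → .T * b * b = .T := by decide +kernel
  have := cjcomp (cjm b2 (cB_cj hx.2 b1)) b2
  rw [key b b1] at this
  rw [pow_one, pow_two]
  exact cA_of (mul_mem hx hx) (cm this)

/-- the data of the analysis of `N(A)` -/
structure XD (D : D2 G false) where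
  X : Subgroup G
  syl : IsSylowIn 2 X (N0 D)
  AX : gA D ≤ X
  bX : D.ι .B ∈ X
  wN : D.ι .W ∈ normalizer (X : Set G)
  ρ : G
  ρN : ρ ∈ normalizer (X : Set G)
  ρA : ∀ m ∈ (M.sA : Subgroup (M false)), ρ * D.ι m * ρ⁻¹ = D.ι (rh m)

theorem exists_XD (D : D2 G false) : Nonempty (XD D) := by
  have k1 : ∀ u : M false, u ∈ (M.sFp : Subgroup (M false)) → ∀ m : M false,
      m ∈ (M.sA : Subgroup (M false)) → u * m * u⁻¹ ∈ (M.sA : Subgroup (M false)) ∧
      (m ∈ (M.sB : Subgroup (M false)) → u * m * u⁻¹ ∈ (M.sB : Subgroup (M false))) := by decide +kernel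
  have h1 : D.Fp ≤ normalizer (gA D : Set G) ⊓ normalizer (gB D : Set G) := by
    rintro _ ⟨u, hu, rfl⟩
    exact mem_inf.2 ⟨norm_of fun m hm => ⟨_, (k1 u hu m hm).1, cjι D u m⟩,
      norm_of fun m hm => ⟨_, (k1 u hu m (BA m hm)).2 hm, cjι D u m⟩⟩
  obtain ⟨P, hP, h2⟩ := exists_isSylowIn_ge h1 (D.pT1.to_le (D.map_le _))
  have h3 : normalizer (gA D : Set G) ⊓ normalizer (gB D : Set G) ≤ normalizer (N0 D : Set G) :=
    le_norm_inf (le_norm_norm inf_le_left) (le_norm_cent inf_le_right)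
  have h4 : N0 D ≤ normalizer (gA D : Set G) ⊓ normalizer (gB D : Set G) :=
    inf_le_inf_left _ (centralizer_le_normalizer _)
  have hX := hP.inf_normal h4 h3
  have h5 : P ≤ normalizer ((P ⊓ N0 D : Subgroup G) : Set G) := le_norm_inf le_normalizer (hP.le.trans h3)
  have hρ : D.ρ ∈ normalizer (N0 D : Set G) := h3 (mem_inf.2
    ⟨norm_of fun m hm => ⟨_, rh_A m hm, ρ_act D hm⟩, norm_of fun m hm => ⟨_, rh_B m hm, ρ_act D (BA m hm)⟩⟩)
  obtain ⟨n, hn, a, ha, e⟩ := hX.frattini hρ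
  obtain ⟨p, hp, e2⟩ := syl_cover (K := centralizer (gA D : Set G)) hX (le_norm_cent inf_le_left)
    (fun k hk => ⟨1, sq_cA hk⟩) hn
  have fF : ∀ {u : M false}, u ∈ (M.sFp : Subgroup (M false)) → D.ι u ∈ D.Fp := fun h => D.mem_map.2 h
  refine ⟨⟨P ⊓ N0 D, hX, ?_, ?_, h5 (h2 (fF (by decide +kernel))), p * a,
    mul_mem (le_normalizer hp) ha, fun m hm => ?_⟩⟩
  · have k2 : ∀ u : M false, u ∈ (M.sA : Subgroup (M false)) → u ∈ (M.sFp : Subgroup (M false)) := by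
      decide +kernel
    exact le_inf ((map_mono k2).trans h2) (le_inf le_normalizer
      ((A_le_cA D).trans (cent_anti (map_mono BA))))
  · exact mem_inf.2 ⟨h2 (fF (by decide +kernel)), mem_inf.2 ⟨(h1 (fF (by decide +kernel))).1,
      mem_cB (D.comm_iff.2 (by decide +kernel)) (D.comm_iff.2 (by decide +kernel))
        (D.comm_iff.2 (by decide +kernel))⟩⟩
  · have : p * a = (n * p⁻¹)⁻¹ * D.ρ := by rw [e]; group
    rw [this]
    exact cjcomp (cA_cj (inv_mem e2) (rh_A m hm)) (ρ_act D hm)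

namespace XD
variable (Y : XD D)

theorem cB {x : G} (hx : x ∈ Y.X) {m : M false} (hm : m ∈ (M.sB : Subgroup (M false))) :
    x * D.ι m * x⁻¹ = D.ι m := cB_cj (Y.syl.le hx).2 hm

theorem cB' {x : G} (hx : x ∈ Y.X) {m : M false} (hm : m ∈ (M.sB : Subgroup (M false))) :
    x * D.ι m = D.ι m * x := cm (Y.cB hx hm)

theorem ιX {m : M false} (hm : m ∈ (M.sA : Subgroup (M false))) : D.ι m ∈ Y.X := Y.AX (D.mem_map.2 hm)

/-- `C_X(t) = A` -/
theorem mem_A {x : G} (hx : x ∈ Y.X) (ht : x * D.ι .T * x⁻¹ = D.ι .T) :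
    ∃ e ∈ (M.sA : Subgroup (M false)), x = D.ι e := by
  have : x ∈ gA D := by
    rw [← (sylA D).max (centralizer (gA D : Set G) ⊓ Y.X) inf_le_left
      (Y.syl.isPGroup.to_le inf_le_right) (le_inf (A_le_cA D) Y.AX)]
    exact mem_inf.2 ⟨cA_of (Y.syl.le hx) (cm ht), hx⟩
  obtain ⟨e, a, b⟩ := this
  exact ⟨e, a, b.symm⟩

theorem ρX {x : G} (hx : x ∈ Y.X) : Y.ρ * x * Y.ρ⁻¹ ∈ Y.X := (mem_normalizer_iff.1 Y.ρN x).1 hx

theorem ρt : Y.ρ * D.ι .T * Y.ρ⁻¹ = D.ι .T :=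
  (Y.ρA _ (by decide +kernel)).trans (congrArg D.ι (by decide +kernel))

/-- `φ(x^ρ) = φ(x)^ρ` -/
theorem ρphi {x : G} {b : M false} (hb : b ∈ (M.sB : Subgroup (M false)))
    (h : x * D.ι .T * x⁻¹ = D.ι (.T * b)) :
    Y.ρ * x * Y.ρ⁻¹ * D.ι .T * (Y.ρ * x * Y.ρ⁻¹)⁻¹ = D.ι (.T * rh b) :=
  cjcomp (cjcomp (cjm Y.ρt (Y.ρA _ (BA b hb))) h) (cjinv Y.ρt)

end XD

end fin

theorem xa_eqns : True := by
  have := @rh.eq_1
  have := @gA.eq_1.{0}
  have := @gB.eq_1.{0}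
  have := @CV.eq_1.{0}
  have := @N0.eq_1.{0}
  trivial

end Cfsg.Agent.H10.X2
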