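import Cfsg.Agent.H10.L33Xa

/-! Project L33, piece X2 (part 2): the element `x`. -/

set_option autoImplicit false
set_option linter.unusedSectionVars false
set_option synthInstance.maxSize 8192

noncomputable section

namespace Cfsg.Agent.H10.X2

open Subgroup Cfsg.Agent.H83 Cfsg.Agent.H40.L3 Cfsg.Agent.H40.L3.D2

/-- `x̃ = β` or `t β` -/
abbrev U (ty : Bool) : M false := bif ty then .B else .T * .B

/-- `⟨B, t β⟩` -/
abbrev sU : Subgroup (M false) :=
  M.sub (fun m => !m.q && (m.d == m.w) && (m.t == m.b)) (by decide +kernel)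

theorem comm_of {G : Type*} [Group G] {u x y b : G} (h : u * x * y = b) (h1 : y * b = b * y)
    (h2 : b * b = 1) (h3 : u * u * (x * x) * (y * y) = 1) : x * u = u * x := by
  have e1 : u * x = b * y⁻¹ := by rw [← h]; group
  have e2 : u * x * (u * x) * (y * y) = 1 := by
    rw [e1]
    calc b * y⁻¹ * (b * y⁻¹) * (y * y) = b * y⁻¹ * (b * y) := by group
      _ = b * b := by rw [← h1]; group
      _ = 1 := h2
  have e3 : u * x * (u * x) = u * u * (x * x) := mul_right_cancel (e2.trans h3.symm)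
  calc x * u = u⁻¹ * (u * x * (u * x)) * x⁻¹ := by group
    _ = u * x := by rw [e3]; group

variable {G : Type*} [Group G] [Finite G] {D : D2 G false}

namespace XD
variable (Y : XD D)

theorem phimul {x y : G} {b c : M false} (hx : x ∈ Y.X) (h1 : x * D.ι .T * x⁻¹ = D.ι (.T * b))
    (hc : c ∈ (M.sB : Subgroup (M false))) (h2 : y * D.ι .T * y⁻¹ = D.ι (.T * c)) :
    x * y * D.ι .T * (x * y)⁻¹ = D.ι (.T * b * c) := cjcomp (cjm h1 (Y.cB hx hc)) h2

theorem phiinv {x : G} {b : M false} (hx : x ∈ Y.X) (h1 : x * D.ι .T * x⁻¹ = D.ι (.T * b))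
    (hb : b ∈ (M.sB : Subgroup (M false))) : x⁻¹ * D.ι .T * x⁻¹⁻¹ = D.ι (.T * b) := by
  have key : ∀ b : M false, b ∈ (M.sB : Subgroup (M false)) → .T * b * b = .T := by decide +kernel
  have := cjm (cjinv h1) (Y.cB (inv_mem hx) hb)
  rwa [key b hb] at this

theorem uX (ty : Bool) : D.ι (U ty) ∈ Y.X := by
  cases ty
  · show D.ι (.T * .B) ∈ _
    rw [map_mul]; exact mul_mem (Y.ιX (by decide +kernel)) Y.bX
  · exact Y.bX

/-- `x̃^ρ` -/
abbrev u1 (ty : Bool) : G := Y.ρ * D.ι (U ty) * Y.ρ⁻¹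
/-- `x̃^{ρ²}` -/
abbrev u2 (ty : Bool) : G := Y.ρ * Y.u1 ty * Y.ρ⁻¹

theorem u1X (ty : Bool) : Y.u1 ty ∈ Y.X := Y.ρX (Y.uX ty)
theorem u2X (ty : Bool) : Y.u2 ty ∈ Y.X := Y.ρX (Y.u1X ty)

theorem u0t (ty : Bool) : D.ι (U ty) * D.ι .T * (D.ι (U ty))⁻¹ = D.ι (.T * .Z) :=
  cjι' D _ (by cases ty <;> decide +kernel)
theorem u1t (ty : Bool) : Y.u1 ty * D.ι .T * (Y.u1 ty)⁻¹ = D.ι (.T * .A) :=
  (Y.ρphi (by decide +kernel) (u0t ty)).trans (congrArg D.ι (by decide +kernel))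
theorem u2t (ty : Bool) : Y.u2 ty * D.ι .T * (Y.u2 ty)⁻¹ = D.ι (.T * (.A * .Z)) :=
  (Y.ρphi (by decide +kernel) (Y.u1t ty)).trans (congrArg D.ι (by decide +kernel))

theorem exists_ty : ∃ ty : Bool, ∃ b ∈ (M.sB : Subgroup (M false)),
    D.ι (U ty) * Y.u1 ty * Y.u2 ty = D.ι b := by
  have h1 := Y.phimul (Y.uX true) (u0t true) (by decide +kernel) (Y.u1t true)
  have h2 := Y.phimul (mul_mem (Y.uX true) (Y.u1X true)) (b := .Z * .A)
    (h1.trans (congrArg D.ι (mul_assoc _ _ _))) (by decide +kernel) (Y.u2t true)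
  obtain ⟨e, e1, e2⟩ := Y.mem_A (mul_mem (mul_mem (Y.uX true) (Y.u1X true)) (Y.u2X true))
    (h2.trans (congrArg D.ι (by decide +kernel)))
  have key : ∀ e : M false, e ∈ (M.sA : Subgroup (M false)) → e ∈ (M.sB : Subgroup (M false)) ∨
      .T * (.T * .Z) * (.T * .Z * .A) * e ∈ (M.sB : Subgroup (M false)) := by decide +kernel
  rcases key e e1 with k | k
  · exact ⟨true, e, k, e2⟩
  · refine ⟨false, _, k, ?_⟩
    have a0 : D.ι (U false) = D.ι .T * D.ι (U true) := map_mul D.ι _ _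
    have a : ∀ y : G, Y.ρ * (D.ι .T * y) * Y.ρ⁻¹ = D.ι .T * (Y.ρ * y * Y.ρ⁻¹) := fun y => by
      conv_rhs => rw [← Y.ρt]
      group
    have a1 : Y.u1 false = D.ι .T * Y.u1 true := by rw [u1, a0, a]
    have a2 : Y.u2 false = D.ι .T * Y.u2 true := by rw [u2, a1, a]
    rw [a0, a1, a2, map_mul D.ι _ e, map_mul D.ι (M.T * (M.T * M.Z)), map_mul D.ι M.T (M.T * M.Z), ← e2, ← h1,
      ← u0t true]
    generalize Y.u1 true = x
    generalize Y.u2 true = y
    group

theorem u1_sq (ty : Bool) : Y.u1 ty * Y.u1 ty = D.ι (rh (U ty * U ty)) := by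
  rw [← Y.ρA _ (by cases ty <;> decide +kernel), map_mul]; simp only [u1]; group

theorem u2_sq (ty : Bool) : Y.u2 ty * Y.u2 ty = D.ι (rh (rh (U ty * U ty))) := by
  rw [← Y.ρA _ (by cases ty <;> decide +kernel), ← Y.u1_sq]; simp only [u2]; group

variable {Y} {ty : Bool} {b : M false}

theorem xu (hb : b ∈ (M.sB : Subgroup (M false))) (h : D.ι (U ty) * Y.u1 ty * Y.u2 ty = D.ι b) :
    Y.u1 ty * D.ι (U ty) * (Y.u1 ty)⁻¹ = D.ι (U ty) := by
  have key : ∀ b : M false, b ∈ (M.sB : Subgroup (M false)) → b * b = 1 := by decide +kernel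
  refine cj1 (comm_of h (Y.cB' (Y.u2X ty) hb) (by rw [← map_mul, key b hb, map_one]) ?_)
  rw [Y.u1_sq, Y.u2_sq, ← map_mul, ← map_mul, ← map_mul, ← map_one D.ι]
  exact congrArg D.ι (by cases ty <;> decide +kernel)

theorem xb (hb : b ∈ (M.sB : Subgroup (M false))) (h : D.ι (U ty) * Y.u1 ty * Y.u2 ty = D.ι b) :
    Y.u1 ty * D.ι .B * (Y.u1 ty)⁻¹ = D.ι (.B * bp .A (!ty) * bp .Gm false) := by
  have h1 := xu hb h
  cases ty
  · have := cjm (Y.u1t false) h1
    rwa [show (.T * U false : M false) = .B by decide +kernel,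
      show (.T * .A * U false : M false) = .B * bp .A (!false) * bp .Gm false by decide +kernel] at this
  · exact h1.trans (congrArg D.ι (by decide +kernel))

theorem xw (hb : b ∈ (M.sB : Subgroup (M false))) (h : D.ι (U ty) * Y.u1 ty * Y.u2 ty = D.ι b) :
    ∃ i : Bool, ez D.ι (Y.u1 ty * D.ι .W * (Y.u1 ty)⁻¹)
      (.W * .B * (bif ty then .A else .T) * bp .Gm i) := by
  have h1 : (D.ι .W)⁻¹ * Y.u1 ty * D.ι .W ∈ Y.X := (mem_normalizer_iff''.1 Y.wN _).1 (Y.u1X ty)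
  have h2 : (D.ι .W)⁻¹ * Y.u1 ty * D.ι .W * D.ι .T * ((D.ι .W)⁻¹ * Y.u1 ty * D.ι .W)⁻¹ =
      D.ι (.T * (.A * .Z)) :=
    cjcomp (cjcomp (cjinv (cjι' D .W (m := .T * (.A * .Z)) (by decide +kernel))) (Y.u1t ty))
      (cjι' D .W (by decide +kernel))
  have h3 := Y.phimul h1 h2 (by decide +kernel) (Y.phiinv (Y.u1X ty) (Y.u1t ty) (by decide +kernel))
  rw [show (.T * (.A * .Z) * .A : M false) = .T * .Z by decide +kernel] at h3
  have h4 := Y.phimul (inv_mem Y.bX) (Y.phiinv Y.bX (u0t true) (by decide +kernel)) (by decide +kernel) h3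
  rw [show (.T * .Z * .Z : M false) = .T by decide +kernel] at h4
  obtain ⟨e, e1, e2⟩ := Y.mem_A (mul_mem (inv_mem Y.bX) (mul_mem h1 (inv_mem (Y.u1X ty)))) h4
  have h5 : Y.u1 ty * D.ι .W * (Y.u1 ty)⁻¹ = D.ι (.W * .B * e) := by
    rw [map_mul, map_mul, ← e2]
    generalize Y.u1 ty = x
    group
  have key : ∀ ty : Bool, ∀ e : M false, e ∈ (M.sA : Subgroup (M false)) →
      .W * .B * e * (.W * .B * e) = .Z → .W * .B * e * U ty = U ty * (.W * .B * e) →
      ∃ i : Bool, .W * .B * e = .W * .B * (bif ty then .A else .T) * bp .Gm i ∨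
        .W * .B * e = .W * .B * (bif ty then .A else .T) * bp .Gm i * .Z := by decide +kernel
  obtain ⟨i, hi⟩ := key ty e e1
    ((cje (cjm h5 h5) (Y.cB (Y.u1X ty) (m := .Z) (by decide +kernel))).1 (by decide +kernel))
    ((cjc h5 (xu hb h)).1 (by cases ty <;> decide +kernel))
  exact ⟨i, h5 ▸ D.ez_iff.2 hi⟩

theorem nα (hb : b ∈ (M.sB : Subgroup (M false)))
    (h : D.ι (U false) * Y.u1 false * Y.u2 false = D.ι b) {m : M false} (hm : m ∈ sU) : ¬ D.ct m := by
  intro hc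
  set x := Y.u1 false with hx
  set S := sU.map D.ι with hS
  have k1 : ∀ m : M false, m ∈ sU → bp (U false) m.t * m ∈ (M.sB : Subgroup (M false)) ∧
      m = bp (U false) m.t * (bp (U false) m.t * m) := by decide +kernel
  have k2 : ∀ m : M false, m ∈ sU → ∀ n : M false, n ∈ sU → m * n = n * m := by decide +kernel
  have h1 : S ≤ centralizer ({x} : Set G) := by
    rintro _ ⟨n, hn, rfl⟩
    have := cjm (cjb (xu hb h) n.t) (Y.cB (Y.u1X false) (k1 n hn).1)
    rw [← (k1 n hn).2] at this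
    exact mem_centralizer_singleton_iff.2 (cm this).symm
  have h2 : ∀ y ∈ S ⊔ zpowers x, S ⊔ zpowers x ≤ centralizer ({y} : Set G) := by
    have a1 : ∀ y ∈ S, S ⊔ zpowers x ≤ centralizer ({y} : Set G) := by
      rintro _ ⟨n, hn, rfl⟩
      refine sup_le ?_ (zpowers_le.2 (mem_centralizer_singleton_iff.2
        (mem_centralizer_singleton_iff.1 (h1 (D.mem_map.2 hn))).symm))
      rintro _ ⟨l, hl, rfl⟩
      exact mem_centralizer_singleton_iff.2 (D.comm_iff.2 (k2 l hl n hn))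
    have a2 : S ⊔ zpowers x ≤ centralizer ({x} : Set G) :=
      sup_le h1 (zpowers_le.2 (mem_centralizer_singleton_iff.2 rfl))
    intro y hy
    refine sup_le (fun s hs => ?_) (zpowers_le.2 ?_)
    · exact mem_centralizer_singleton_iff.2 (mem_centralizer_singleton_iff.1 (a1 s hs hy)).symm
    · exact mem_centralizer_singleton_iff.2 (mem_centralizer_singleton_iff.1 (a2 hy)).symm
  have h3 : S ⊔ zpowers x ≤ Y.X := by
    refine sup_le ?_ (zpowers_le.2 (Y.u1X false))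
    rintro _ ⟨n, hn, rfl⟩
    rw [(k1 n hn).2, map_mul]
    refine mul_mem ?_ (Y.ιX (BA _ (k1 n hn).1))
    cases n.t
    · simp [bp, Y.X.one_mem]
    · exact Y.uX false
  have h4 := D.no_ab32 (P := S ⊔ zpowers x) hc (Y.syl.isPGroup.to_le h3)
    (fun y hy => mem_centralizer_singleton_iff.1 (h2 _ (mem_sup_left (D.mem_map.2 hm)) hy))
    fun y hy z hz => mem_centralizer_singleton_iff.1 (h2 z hz hy)
  have h5 : Nat.card S = 16 := by rw [hS, D.card_map, M.card_sub]; decide +kernel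
  have h6 : 16 ∣ Nat.card (S ⊔ zpowers x : Subgroup G) := h5 ▸ card_dvd_of_le le_sup_left
  have h7 : 0 < Nat.card (S ⊔ zpowers x : Subgroup G) := Nat.card_pos
  have h8 : S = S ⊔ zpowers x := eq_of_le_of_card_ge le_sup_left (by omega)
  obtain ⟨n, hn, e⟩ : x ∈ S := h8 ▸ mem_sup_right (mem_zpowers x)
  have k3 : ∀ n : M false, n * .T * n⁻¹ ≠ .T * .A := by decide +kernel
  exact k3 n (D.inj (by rw [← cjι, e]; exact Y.u1t false))

theorem nβ (hb : b ∈ (M.sB : Subgroup (M false)))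
    (h : D.ι (U true) * Y.u1 true * Y.u2 true = D.ι b) (j : Bool) :
    ¬ D.ct (.B * .W * bp .Gm j) := by
  intro hc
  obtain ⟨i, hi⟩ := xw hb h
  have hc' := D.ct_mulz hc (by cases j <;> decide +kernel)
  have h1 := Y.cB (Y.u1X true) (m := .A * bp .Gm (i ^^ j)) (by cases i <;> cases j <;> decide +kernel)
  have h2 : ¬ D.ct (.A * bp .Gm (i ^^ j) * .W) := fun k =>
    not_ct_B D (by cases i <;> cases j <;> decide +kernel) (D.ct_cj k .Q)
  have key : ∀ i j : Bool, ∀ m : M false, (m = .W * .B * .A * bp .Gm i ∨ m = .W * .B * .A * bp .Gm i * .Z) →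
      .A * bp .Gm (i ^^ j) * m = .B * .W * bp .Gm j ∨
      .A * bp .Gm (i ^^ j) * m = .B * .W * bp .Gm j * .Z := by decide +kernel
  have fin : ∀ m : M false, Y.u1 true * D.ι .W * (Y.u1 true)⁻¹ = D.ι m →
      (m = .W * .B * .A * bp .Gm i ∨ m = .W * .B * .A * bp .Gm i * .Z) → False := fun m e k => by
    have e1 := cjinv (cjm h1 e)
    rcases key i j m k with a | a <;> rw [a] at e1
    · exact h2 (D.ct_of hc e1)
    · exact h2 (D.ct_of hc' e1)
  rcases hi with e | e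
  · exact fin _ e (Or.inl rfl)
  · exact fin _ e (Or.inr rfl)

theorem n1 (hb : b ∈ (M.sB : Subgroup (M false))) (h : D.ι (U ty) * Y.u1 ty * Y.u2 ty = D.ι b) :
    ¬ D.ct (bif ty then .B * .W else .T * .B) := by
  cases ty
  · exact nα hb h (by decide +kernel)
  · have := nβ hb h false
    rwa [show (.B * .W * bp .Gm false : M false) = .B * .W by decide +kernel] at this

theorem n2 (hb : b ∈ (M.sB : Subgroup (M false))) (h : D.ι (U ty) * Y.u1 ty * Y.u2 ty = D.ι b) :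
    ¬ D.ct ((bif ty then .B * .W else .T * .B) * .Gm) := by
  cases ty
  · exact nα hb h (by decide +kernel)
  · exact nβ hb h true

end XD

theorem xb_eqns : True := by
  have := @U.eq_1
  have := @sU.eq_1
  have := @XD.u1.eq_1.{0}
  have := @XD.u2.eq_1.{0}
  trivial

end Cfsg.Agent.H10.X2
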