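import Cfsg.Agent.H42.LTO1
import Cfsg.Agent.H96.Pc
import Cfsg.Agent.H89.PBasic
import Cfsg.Agent.Eqn.Cfsg_Agent_H96_RelL

/-! Actions on models of `2`-groups, the alignment lemma in a model, three models of `T₁`. -/

set_option autoImplicit false
set_option maxRecDepth 100000
set_option linter.unusedSimpArgs false

namespace Cfsg.Agent.H10.LA

open Subgroup Cfsg.Agent.H85 Cfsg.Agent.H93.LT Cfsg.Agent.H3.LTB Cfsg.Agent.H96

universe u

section Act

variable {M : Type} [Group M] {G : Type u} [Group G] {φ : M →* G} {g g' : G} {α β : M → M}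

/-- `g` acts on the image of `φ` as `α` -/
def Act (φ : M →* G) (g : G) (α : M → M) : Prop := ∀ u, cn (φ u) g = φ (α u)

/-- three times `α` followed by `β` -/
def d3 (α β : M → M) (u : M) : M := β (α (β (α (β (α u)))))

/-- the element `σ` of the alignment lemma -/
def sg (α β : M → M) (μ γ : M) : M := γ * β (α (μ * γ)) * β (α (β (α (μ * γ)))) * d3 α β μ

/-- the endomorphism with given images of the generators -/
noncomputable def ap {T : Pc} [T.OK] (ys : List T.G) (u : T.G) : T.G := word ys u.val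

theorem eqns_Act : True := by
  have := @Act.eq_1.{0}
  have := @d3.eq_1
  have := @sg.eq_1
  have := @ap.eq_1
  trivial

theorem Act.mul (A : Act φ g α) (B : Act φ g' β) : Act φ (g * g') fun u => β (α u) := fun u => by
  rw [cn_mul, A, B]

theorem Act.inner (φ : M →* G) (v : M) : Act φ (φ v) fun u => v⁻¹ * u * v := fun u => by
  simp only [cn, map_mul, map_inv]

theorem Act.N [Finite G] (A : Act φ g α) : g ∈ normalizer (φ.range : Set G) := mem_N (by
  rintro _ ⟨u, rfl⟩
  exact ⟨_, (A u).symm⟩)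

theorem Act.eq (A : Act φ g α) {u v : M} (e : α u = v) : cn (φ u) g = φ v := e ▸ A u

theorem map_word {X Y : Type*} [Group X] [Group Y] (ψ : X →* Y) :
    ∀ (ys : List X) (a : ℕ), ψ (word ys a) = word (ys.map ψ) a
  | [], _ => map_one ψ
  | y :: ys, a => by
    show ψ ((if a % 2 = 0 then 1 else y) * word ys (a / 2)) =
      (if a % 2 = 0 then 1 else ψ y) * word (ys.map ψ) (a / 2)
    rw [map_mul, map_word ψ ys]
    split_ifs <;> simp

theorem act_of {T : Pc} [T.OK] {xs : List G} (h : T.Rel xs) {ys : List T.G}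
    (e : xs.map (fun x => cn x g) = ys.map (Pc.lift xs h)) : Act (Pc.lift xs h) g (ap ys) :=
  fun u => by
    rw [ap, map_word, ← e, Pc.lift_apply]
    exact map_word (MonoidHom.mk' (fun x => cn x g) fun x y => cn_mul' x y g) xs u.val

theorem inj_of [Finite M] (pM : IsPGroup 2 M) (h : ∀ u, (∀ v, v * u = u * v) → φ u = 1 → u = 1) :
    Function.Injective φ := by
  rw [← MonoidHom.ker_eq_bot_iff]
  by_contra e
  exact H89.inf_center_ne_bot pM e (eq_bot_iff.2 fun u hu => h u (mem_center_iff.1 hu.2) hu.1)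

theorem rl {u x w w' : G} (h : cn u x = w) (e : w = w' := by simp only [mul_assoc]) :
    u * x = x * w' := by rw [← e, ← h]; simp only [cn]; group

theorem tail_mem {K : Subgroup G} {x : G} {xs : List G} {a : ℕ} (h : a % 2 = 0)
    (k : word xs (a / 2) ∈ K) : word (x :: xs) a ∈ K := by
  show (if a % 2 = 0 then 1 else x) * word xs (a / 2) ∈ K
  rwa [if_pos h, one_mul]

/-- multiplying `c` by an element of the model -/
theorem twist {m c : G} {τ ρ : M} (A : Act φ m α) (C : Act φ c β) (cc : c * c = φ τ)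
    (mc : cn m c = m * φ ρ) (v : M) : Act φ (φ v * c) (fun u => β (v⁻¹ * u * v)) ∧
      φ v * c * (φ v * c) = φ (v * τ * β v) ∧ cn m (φ v * c) = m * φ (ρ * β (α v⁻¹ * v)) := by
  refine ⟨(Act.inner φ v).mul C, ?_, ?_⟩
  · rw [map_mul, map_mul, ← cc, ← C]; simp only [cn]; group
  · have : cn m (φ v) = m * φ (α v⁻¹ * v) := by
      rw [map_mul, ← A, map_inv]; simp only [cn]; group
    rw [cn_mul, this, cn_mul', mc, C, map_mul, mul_assoc]

variable [Finite G]

/-- ALIGNMENT in a model -/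
theorem alignM (hk : KitStmt.{u}) (h : Hyp G) (pM : IsPGroup 2 M) (inj : Function.Injective φ)
    (h1 : h.T0 ≤ φ.range) (h2 : φ.range ≤ normalizer (h.T0 : Set G))
    (h3 : h.e ∈ normalizer (φ.range : Set G)) {t f : M} (et : φ t = h.t) (ef : φ f = h.f)
    (hC : ∀ u, t * u = u * t → φ u ∈ h.T0) {m : G} (A : Act φ m α) (B : Act φ g β) {μ γ : M}
    (mm : m * m = φ μ) (gg : g * g = φ γ) (u0 : M)
    (ht : u0⁻¹ * d3 α β (d3 α β t) * u0 = t) (hf : u0⁻¹ * d3 α β (d3 α β f) * u0 = f) :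
    ∃ (c : G) (τ : M), Act φ c (d3 α β) ∧ c * c = φ τ ∧ β (α τ) = τ ∧
      (∀ u, τ⁻¹ * u * τ = d3 α β (d3 α β u)) ∧ cn m c = m * φ (τ * (d3 α β (sg α β μ γ))⁻¹) := by
  have pQ : IsPGroup 2 φ.range := pM.of_surjective _ φ.rangeRestrict_surjective
  obtain ⟨O, o1, o2, o3, -, o5⟩ := H42.LT.o1 hk G h φ.range pQ h1 h2 (by
    rw [h.hT, closure_le]
    rintro v (rfl | rfl | rfl | rfl | rfl)
    exacts [le_normalizer (h1 (Z_T0 h (tZ h))), le_normalizer (h1 (Z_T0 h (fZ h))),
      le_normalizer (h1 (aT0 h)), le_normalizer (h1 (bT0 h)), h3])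
  have D1 := A.mul B
  have D2 : Act φ ((m * g) ^ 2) fun u => β (α (β (α u))) := by rw [pow_two]; exact D1.mul D1
  have D3 : Act φ ((m * g) ^ 3) (d3 α β) := by rw [pow_succ]; exact D2.mul D1
  have D6 : Act φ ((m * g) ^ 6) fun u => d3 α β (d3 α β u) := by
    rw [show 6 = 3 + 3 from rfl, pow_add]; exact D3.mul D3
  have D7 := D6.mul (Act.inner φ u0)
  obtain ⟨u, hu, o, ho, e⟩ := H42.LT.mem_T0O (hk G h) h1 o2 o5 (by
    rintro _ ⟨v, rfl⟩ hv
    exact hC v (inj (by rw [map_mul, map_mul, et]; exact hv.eq)))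
    (c := (m * g) ^ 6 * φ u0) (et ▸ comm_of_cn (D7.eq ht)) (ef ▸ comm_of_cn (D7.eq hf)) D7.N
  obtain ⟨v, rfl⟩ := h1 hu
  have e6 : (m * g) ^ 6 = φ (v * u0⁻¹) * o := by
    rw [map_mul, mul_assoc, (show φ u0⁻¹ * o = o * φ u0⁻¹ from o2 ho _ ⟨_, rfl⟩), ← mul_assoc, ← e,
      map_inv, mul_inv_cancel_right]
  obtain ⟨c, -, -, c1, c2, c3, c4, -⟩ := H42.LT.alignment pQ o1 o2 o3 A.N B.N (mm ▸ ⟨_, rfl⟩)
    (gg ▸ ⟨_, rfl⟩) ⟨_, rfl⟩ ho e6
  have C : Act φ c (d3 α β) := fun u => (c1 _ ⟨u, rfl⟩).trans (D3 u)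
  refine ⟨c, _, C, c2, inj ((D1 _).symm.trans c3), fun u => inj ?_, ?_⟩
  · rw [← Act.inner, ← c2, C.mul C]
  · rw [mm, gg, ← map_mul, D1, D2, D3, ← map_mul, ← map_mul, ← map_mul] at c4
    change cn c m = φ (sg α β μ γ) * c⁻¹ at c4
    rw [map_mul, map_inv, ← C, ← c2, eq_mul_inv_iff_mul_eq.1 c4 |>.symm]
    simp only [cn]; group

end Act

namespace MX

/-- The tables; bits 1, 2, 4, … are Y, y, t, b, a, f, z. -/
def T : Pc where
  w := 7
  m := 127
  L := [(0x7e786ac76684a84e18ab446088b05e38ebc5628cb86e582a466480a03ef968c36e94880e99a9406898901eb9e9c16a9c982ed928426c9080, 0x7e786ac76684a84e18ab446088b05e38ebc5628cb86e582a466480a03ef968c36e94880e99a9406898901eb9e9c16a9c982ed928426c9080),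
    (0x1e18a9c16088980e38e940628c903e5828c36480882e786842668480, 0x1e18a9c16088980e38e940628c903e5828c36480882e786842668480),
    (0x1e3868c16284880e182840608080, 0x1e3868c16284880e182840608080),
    (0x6180840e08280, 0x6180840e08280),
    (0x608080, 0x608080),
    (0x80, 0x80),
    (0x0, 0x0)]
  I := 0xfffbebc7768cb8af59af427ca8f01eb86ec962b4e8cf182e4478b0e0bf7ae9c37e9c98efd8ad4674b8d05e396ccd6aa4c88f992c4070a0c07ef9efcf66acf82e5bab4a6c88b09fba6ac17294a84e1a2a4c6890a03e78edcb6ebcd86edaa94e649890df3b68c57a84880e9b2848608080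

instance : T.OK := ⟨by decide +kernel⟩

/-- generator -/
def Y : T.G := ⟨1, by decide⟩
/-- generator -/
def y : T.G := ⟨2, by decide⟩
/-- generator -/
def t : T.G := ⟨4, by decide⟩
/-- generator -/
def b : T.G := ⟨8, by decide⟩
/-- generator -/
def a : T.G := ⟨16, by decide⟩
/-- generator -/
def f : T.G := ⟨32, by decide⟩
/-- generator -/
def z : T.G := ⟨64, by decide⟩

theorem rel_of {X : Type*} [Group X] {Y y t b a f z : X}
    (h0 : Y * Y = 1)
    (h1 : y * Y = Y * (y * z))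
    (h2 : t * Y = Y * (t * (f * z)))
    (h3 : b * Y = Y * b)
    (h4 : a * Y = Y * (a * f))
    (h5 : f * Y = Y * f)
    (h6 : z * Y = Y * z)
    (h7 : y * y = 1)
    (h8 : t * y = y * (t * f))
    (h9 : b * y = y * (b * (f * z)))
    (h10 : a * y = y * a)
    (h11 : f * y = y * f)
    (h12 : z * y = y * z)
    (h13 : t * t = 1)
    (h14 : b * t = t * b)
    (h15 : a * t = t * a)
    (h16 : f * t = t * f)
    (h17 : z * t = t * z)
    (h18 : b * b = 1)
    (h19 : a * b = b * (a * z))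
    (h20 : f * b = b * f)
    (h21 : z * b = b * z)
    (h22 : a * a = 1)
    (h23 : f * a = a * f)
    (h24 : z * a = a * z)
    (h25 : f * f = 1)
    (h26 : z * f = f * z)
    (h27 : z * z = 1) :
    T.Rel [Y, y, t, b, a, f, z] := by
  simp only [Pc.Rel, T, RelL, List.length_cons, List.length_nil, Fin.forall_fin_succ, IsEmpty.forall_iff,
    Fin.val_zero, Fin.val_succ, look, Nat.land_eq, Nat.shiftRight_eq, Nat.mul_eq, Nat.reduceAdd, Nat.reducePow,
    Nat.reduceMul, Nat.reduceShiftRight, Nat.reduceAnd, word, Nat.reduceMod, Nat.reduceDiv, Nat.zero_mod,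
    Nat.zero_div, Nat.reduceEqDiff, reduceIte, one_mul, mul_one, and_true, true_and, and_assoc, zero_add, pow_zero, mul_zero,
    Nat.shiftRight_zero, if_true, if_false, one_ne_zero]
  exact ⟨h0, h1, h2, h3, h4, h5, h6, h7, h8, h9, h10, h11, h12, h13, h14, h15, h16, h17, h18, h19, h20, h21, h22, h23, h24, h25, h26, h27⟩

theorem eqns : True := by
  have := @T.eq_1
  have := @Y.eq_1
  have := @y.eq_1
  have := @t.eq_1
  have := @b.eq_1
  have := @a.eq_1
  have := @f.eq_1
  have := @z.eq_1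
  trivial

section

variable {X : Type*} [Group X] {Y' y' t' b' a' f' z' : X} (h : T.Rel [Y', y', t', b', a', f', z'])

theorem gens : Pc.lift _ h Y = Y' ∧ Pc.lift _ h y = y' ∧ Pc.lift _ h t = t' ∧ Pc.lift _ h b = b' ∧ Pc.lift _ h a = a' ∧ Pc.lift _ h f = f' ∧ Pc.lift _ h z = z' :=
  ⟨word_two_pow [Y', y', t', b', a', f', z'] 0 (by simp), word_two_pow [Y', y', t', b', a', f', z'] 1 (by simp), word_two_pow [Y', y', t', b', a', f', z'] 2 (by simp), word_two_pow [Y', y', t', b', a', f', z'] 3 (by simp), word_two_pow [Y', y', t', b', a', f', z'] 4 (by simp), word_two_pow [Y', y', t', b', a', f', z'] 5 (by simp), word_two_pow [Y', y', t', b', a', f', z'] 6 (by simp)⟩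

theorem cen : ∀ u : T.G, (∀ v, v * u = u * v) → u = 1 ∨ u = z ∨ u = f ∨ u = z * f := by
  have : ∀ u : T.G, (∀ v ∈ [Y, y, t, b, a, f, z], v * u = u * v) → u = 1 ∨ u = z ∨ u = f ∨ u = z * f := by
    decide +kernel
  exact fun u k => this u fun v _ => k v

theorem inj (h1 : z' ≠ 1) (h2 : f' ≠ 1) (h3 : z' * f' ≠ 1) : Function.Injective (Pc.lift _ h) :=
  inj_of Pc.isPGroup fun u k e => by
    obtain ⟨-, -, -, -, -, ef, ez⟩ := gens h
    rcases cen u k with rfl | rfl | rfl | rfl
    exacts [rfl, absurd (ez ▸ e) h1, absurd (ef ▸ e) h2, absurd (by rwa [map_mul, ez, ef] at e) h3]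

theorem ct {K : Subgroup X} (k : ∀ v ∈ [t', b', a', f', z'], v ∈ K) (u : T.G) (e : t * u = u * t) :
    Pc.lift _ h u ∈ K := by
  have : ∀ u : T.G, t * u = u * t → u.val % 2 = 0 ∧ u.val / 2 % 2 = 0 := by decide +kernel
  exact tail_mem (this u e).1 (tail_mem (this u e).2 (word_mem _ k _))

end

end MX

namespace MA

/-- The tables; bits 1, 2, 4, … are x, t, b, a, f, z. -/
def T : Pc where
  w := 6
  m := 63
  L := [(0x3de35c2da2581d61540d20507ce74c6ca6485c65444c2440, 0x3de35c2da2581d61540d20507ce74c6ca6485c65444c2440),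
    (0x3ce34c2ca2481c61440c2040, 0x3ce34c2ca2481c61440c2040),
    (0xc60441c2140, 0xc60441c2140),
    (0xc2040, 0xc2040),
    (0x40, 0x40),
    (0x0, 0x0)]
  I := 0xfde75c6fae785f6d744f2c70bce34c2eaa681e69640e28607fef7ceda658dd6554cd24503eeb6caca2489c61448c2040

instance : T.OK := ⟨by decide +kernel⟩

/-- generator -/
def x : T.G := ⟨1, by decide⟩
/-- generator -/
def t : T.G := ⟨2, by decide⟩
/-- generator -/
def b : T.G := ⟨4, by decide⟩
/-- generator -/
def a : T.G := ⟨8, by decide⟩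
/-- generator -/
def f : T.G := ⟨16, by decide⟩
/-- generator -/
def z : T.G := ⟨32, by decide⟩

theorem rel_of {X : Type*} [Group X] {x t b a f z : X}
    (h0 : x * x = 1)
    (h1 : t * x = x * (t * z))
    (h2 : b * x = x * b)
    (h3 : a * x = x * a)
    (h4 : f * x = x * f)
    (h5 : z * x = x * z)
    (h6 : t * t = 1)
    (h7 : b * t = t * b)
    (h8 : a * t = t * a)
    (h9 : f * t = t * f)
    (h10 : z * t = t * z)
    (h11 : b * b = 1)
    (h12 : a * b = b * (a * z))
    (h13 : f * b = b * f)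
    (h14 : z * b = b * z)
    (h15 : a * a = 1)
    (h16 : f * a = a * f)
    (h17 : z * a = a * z)
    (h18 : f * f = 1)
    (h19 : z * f = f * z)
    (h20 : z * z = 1) :
    T.Rel [x, t, b, a, f, z] := by
  simp only [Pc.Rel, T, RelL, List.length_cons, List.length_nil, Fin.forall_fin_succ, IsEmpty.forall_iff,
    Fin.val_zero, Fin.val_succ, look, Nat.land_eq, Nat.shiftRight_eq, Nat.mul_eq, Nat.reduceAdd, Nat.reducePow,
    Nat.reduceMul, Nat.reduceShiftRight, Nat.reduceAnd, word, Nat.reduceMod, Nat.reduceDiv, Nat.zero_mod,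
    Nat.zero_div, Nat.reduceEqDiff, reduceIte, one_mul, mul_one, and_true, true_and, and_assoc, zero_add, pow_zero, mul_zero,
    Nat.shiftRight_zero, if_true, if_false, one_ne_zero]
  exact ⟨h0, h1, h2, h3, h4, h5, h6, h7, h8, h9, h10, h11, h12, h13, h14, h15, h16, h17, h18, h19, h20⟩

theorem eqns : True := by
  have := @T.eq_1
  have := @x.eq_1
  have := @t.eq_1
  have := @b.eq_1
  have := @a.eq_1
  have := @f.eq_1
  have := @z.eq_1
  trivial

section

variable {X : Type*} [Group X] {x' t' b' a' f' z' : X} (h : T.Rel [x', t', b', a', f', z'])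

theorem gens : Pc.lift _ h x = x' ∧ Pc.lift _ h t = t' ∧ Pc.lift _ h b = b' ∧ Pc.lift _ h a = a' ∧ Pc.lift _ h f = f' ∧ Pc.lift _ h z = z' :=
  ⟨word_two_pow [x', t', b', a', f', z'] 0 (by simp), word_two_pow [x', t', b', a', f', z'] 1 (by simp), word_two_pow [x', t', b', a', f', z'] 2 (by simp), word_two_pow [x', t', b', a', f', z'] 3 (by simp), word_two_pow [x', t', b', a', f', z'] 4 (by simp), word_two_pow [x', t', b', a', f', z'] 5 (by simp)⟩

theorem cen : ∀ u : T.G, (∀ v, v * u = u * v) → u = 1 ∨ u = z ∨ u = f ∨ u = z * f := by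
  have : ∀ u : T.G, (∀ v ∈ [x, t, b, a, f, z], v * u = u * v) → u = 1 ∨ u = z ∨ u = f ∨ u = z * f := by
    decide +kernel
  exact fun u k => this u fun v _ => k v

theorem inj (h1 : z' ≠ 1) (h2 : f' ≠ 1) (h3 : z' * f' ≠ 1) : Function.Injective (Pc.lift _ h) :=
  inj_of Pc.isPGroup fun u k e => by
    obtain ⟨-, -, -, -, ef, ez⟩ := gens h
    rcases cen u k with rfl | rfl | rfl | rfl
    exacts [rfl, absurd (ez ▸ e) h1, absurd (ef ▸ e) h2, absurd (by rwa [map_mul, ez, ef] at e) h3]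

theorem ct {K : Subgroup X} (k : ∀ v ∈ [t', b', a', f', z'], v ∈ K) (u : T.G) (e : t * u = u * t) :
    Pc.lift _ h u ∈ K := by
  have : ∀ u : T.G, t * u = u * t → u.val % 2 = 0 := by decide +kernel
  exact tail_mem (this u e) (word_mem _ k _)

end

end MA

namespace MB

/-- The tables; bits 1, 2, 4, … are y, x, t, b, a, f, z. -/
def T : Pc where
  w := 7
  m := 127
  L := [(0x3eb86bc36a84b82e982b426880b01ef8eac16e8ca80ed8aa406c88a07e3969c76294986e1929466090905e79e8c5669c884e59a844649880, 0x3eb86bc36a84b82e982b426880b01ef8eac16e8ca80ed8aa406c88a07e3969c76294986e1929466090905e79e8c5669c884e59a844649880),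
    (0x1e7869c16684980e5829406480903e38e8c3628c882e18a842608880, 0x1e7869c16684980e5829406480903e38e8c3628c882e18a842608880),
    (0x1e3868c16284880e182840608080, 0x1e3868c16284880e182840608080),
    (0x6180840e08280, 0x6180840e08280),
    (0x608080, 0x608080),
    (0x80, 0x80),
    (0x0, 0x0)]
  I := 0x7ff8ebcb6e9cb8eedaaf427cb8f0deba6ec17ab4e8ce9a2e4078b0e03f79e9cf668c98ae5bad4674a8d09e3b6cc572a4c88e1b2c4470a0c0fefaefc37ebcf86fd8ab4a6c98b05fb86ac96a94a84f982a486890a0be7bedc776acd82f59a94e6488901f3968cd6284880f19284c608080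

instance : T.OK := ⟨by decide +kernel⟩

/-- generator -/
def y : T.G := ⟨1, by decide⟩
/-- generator -/
def x : T.G := ⟨2, by decide⟩
/-- generator -/
def t : T.G := ⟨4, by decide⟩
/-- generator -/
def b : T.G := ⟨8, by decide⟩
/-- generator -/
def a : T.G := ⟨16, by decide⟩
/-- generator -/
def f : T.G := ⟨32, by decide⟩
/-- generator -/
def z : T.G := ⟨64, by decide⟩

theorem rel_of {X : Type*} [Group X] {y x t b a f z : X}
    (h0 : y * y = 1)
    (h1 : x * y = y * (x * (f * z)))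
    (h2 : t * y = y * (t * f))
    (h3 : b * y = y * b)
    (h4 : a * y = y * a)
    (h5 : f * y = y * f)
    (h6 : z * y = y * z)
    (h7 : x * x = 1)
    (h8 : t * x = x * (t * z))
    (h9 : b * x = x * b)
    (h10 : a * x = x * a)
    (h11 : f * x = x * f)
    (h12 : z * x = x * z)
    (h13 : t * t = 1)
    (h14 : b * t = t * b)
    (h15 : a * t = t * a)
    (h16 : f * t = t * f)
    (h17 : z * t = t * z)
    (h18 : b * b = 1)
    (h19 : a * b = b * (a * z))
    (h20 : f * b = b * f)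
    (h21 : z * b = b * z)
    (h22 : a * a = 1)
    (h23 : f * a = a * f)
    (h24 : z * a = a * z)
    (h25 : f * f = 1)
    (h26 : z * f = f * z)
    (h27 : z * z = 1) :
    T.Rel [y, x, t, b, a, f, z] := by
  simp only [Pc.Rel, T, RelL, List.length_cons, List.length_nil, Fin.forall_fin_succ, IsEmpty.forall_iff,
    Fin.val_zero, Fin.val_succ, look, Nat.land_eq, Nat.shiftRight_eq, Nat.mul_eq, Nat.reduceAdd, Nat.reducePow,
    Nat.reduceMul, Nat.reduceShiftRight, Nat.reduceAnd, word, Nat.reduceMod, Nat.reduceDiv, Nat.zero_mod,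
    Nat.zero_div, Nat.reduceEqDiff, reduceIte, one_mul, mul_one, and_true, true_and, and_assoc, zero_add, pow_zero, mul_zero,
    Nat.shiftRight_zero, if_true, if_false, one_ne_zero]
  exact ⟨h0, h1, h2, h3, h4, h5, h6, h7, h8, h9, h10, h11, h12, h13, h14, h15, h16, h17, h18, h19, h20, h21, h22, h23, h24, h25, h26, h27⟩

theorem eqns : True := by
  have := @T.eq_1
  have := @y.eq_1
  have := @x.eq_1
  have := @t.eq_1
  have := @b.eq_1
  have := @a.eq_1
  have := @f.eq_1
  have := @z.eq_1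
  trivial

section

variable {X : Type*} [Group X] {y' x' t' b' a' f' z' : X} (h : T.Rel [y', x', t', b', a', f', z'])

theorem gens : Pc.lift _ h y = y' ∧ Pc.lift _ h x = x' ∧ Pc.lift _ h t = t' ∧ Pc.lift _ h b = b' ∧ Pc.lift _ h a = a' ∧ Pc.lift _ h f = f' ∧ Pc.lift _ h z = z' :=
  ⟨word_two_pow [y', x', t', b', a', f', z'] 0 (by simp), word_two_pow [y', x', t', b', a', f', z'] 1 (by simp), word_two_pow [y', x', t', b', a', f', z'] 2 (by simp), word_two_pow [y', x', t', b', a', f', z'] 3 (by simp), word_two_pow [y', x', t', b', a', f', z'] 4 (by simp), word_two_pow [y', x', t', b', a', f', z'] 5 (by simp), word_two_pow [y', x', t', b', a', f', z'] 6 (by simp)⟩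

theorem cen : ∀ u : T.G, (∀ v, v * u = u * v) → u = 1 ∨ u = z ∨ u = f ∨ u = z * f := by
  have : ∀ u : T.G, (∀ v ∈ [y, x, t, b, a, f, z], v * u = u * v) → u = 1 ∨ u = z ∨ u = f ∨ u = z * f := by
    decide +kernel
  exact fun u k => this u fun v _ => k v

theorem inj (h1 : z' ≠ 1) (h2 : f' ≠ 1) (h3 : z' * f' ≠ 1) : Function.Injective (Pc.lift _ h) :=
  inj_of Pc.isPGroup fun u k e => by
    obtain ⟨-, -, -, -, -, ef, ez⟩ := gens h
    rcases cen u k with rfl | rfl | rfl | rfl
    exacts [rfl, absurd (ez ▸ e) h1, absurd (ef ▸ e) h2, absurd (by rwa [map_mul, ez, ef] at e) h3]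

theorem ct {K : Subgroup X} (k : ∀ v ∈ [t', b', a', f', z'], v ∈ K) (u : T.G) (e : t * u = u * t) :
    Pc.lift _ h u ∈ K := by
  have : ∀ u : T.G, t * u = u * t → u.val % 2 = 0 ∧ u.val / 2 % 2 = 0 := by decide +kernel
  exact tail_mem (this u e).1 (tail_mem (this u e).2 (word_mem _ k _))

end

end MB

end Cfsg.Agent.H10.LA
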