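import Cfsg.Agent.H10.LTBr1

/-! From the normal section with Sylow subgroup `D₈` to the explicit Sylow subgroup of `C(t)`. -/

set_option autoImplicit false
set_option linter.unusedSectionVars false

namespace Cfsg.Agent.H10.LT

open Subgroup Cfsg.Agent.H85 Cfsg.Agent.H93.LT

universe u

variable {G : Type u} [Group G]

local notation "C[" A "]" => Subgroup.centralizer (SetLike.coe A)
local notation "N[" A "]" => Subgroup.normalizer (SetLike.coe A)
local notation "C1[" x "]" => Subgroup.centralizer (Singleton.singleton x : Set _)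

theorem sup_zp {A : Subgroup G} {t y : G} (ht : t * t = 1) (hn : t ∈ N[A]) (hy : y ∈ A ⊔ zpowers t) :
    ∃ v ∈ A, y = v ∨ y = v * t := by
  obtain ⟨v, hv, w, hw, rfl⟩ := (mem_sup_of_le_normalizer (zpowers_le.2 hn)).1 hy
  exact ⟨v, hv, (mem_zp ht hw).imp (fun e => by rw [e, mul_one]) fun e => by rw [e]⟩

namespace Cx

variable [Finite G] {h : H93.LT.Top G} {T D : Subgroup G} {a b z r s f e : G} (x : Cx h T D a b z)
include x

theorem fixC {u : G} (hu : u ∈ T) (h1 : cn a u = a) (h2 : cn b u = b) : u ∈ T ⊓ C[D] :=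
  ⟨hu, x.d8.cen (of_cn h1).symm (of_cn h2).symm⟩

theorem exf (hr : Sd h.K (T ⊓ C[D]) a z r) :
    ∃ f ∈ T ⊓ C[D], r * f = f * r ∧ f ∉ zpowers h.t := by
  by_contra H
  push Not at H
  obtain ⟨a2, z2, z1, ab, -, az, a1, -⟩ := x.d8.rel
  have za := x.d8.zc x.d8.aD
  have ta := x.tc (x.DT x.d8.aD)
  have tz := x.tc (x.DT x.d8.zD)
  have n1 : a ∈ N[zpowers z] := zp_n za.symm
  have n2 : h.t ∈ N[(zpowers z ⊔ zpowers a : Subgroup G)] := zpowers_le.1
    (le_normalizer_sup (zpowers_le.2 (zp_n tz.symm)) (zpowers_le.2 (zp_n ta.symm)))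
  have mV : ∀ y ∈ zpowers z ⊔ zpowers a, y = 1 ∨ y = z ∨ y = a ∨ y = z * a := fun y hy => by
    obtain ⟨v, hv, e⟩ := sup_zp a2 n1 hy
    rcases mem_zp z2 hv with rfl | rfl <;> rcases e with rfl | rfl <;> simp
  have cA : Nat.card ↥((zpowers z ⊔ zpowers a) ⊔ zpowers h.t) = 8 := by
    rw [H81.card_sup_zpowers (p := 2) (by rw [pow_two, h.tt]) (fun ht => ?_) n2,
      H81.card_sup_zpowers (p := 2) (by rw [pow_two, a2]) (fun ha => (mem_zp z2 ha).elim a1 az) n1,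
      Nat.card_zpowers, orderOf_eq_prime (p := 2) (by rw [pow_two, z2]) z1]
    rcases mV _ ht with e | e | e | e
    · exact h.t1 e
    · exact x.zt hr (e ▸ mem_zpowers _)
    · exact x.at' hr (e ▸ mem_zpowers _)
    · have := cn_of (x.rt hr (mem_zpowers _)).symm
      rw [e, za, x.azr hr, eq_comm, mul_eq_right] at this
      exact a1 this
  set A := (zpowers z ⊔ zpowers a) ⊔ zpowers h.t with hA
  have zA : z ∈ A := mem_sup_left (mem_sup_left (mem_zpowers z))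
  have aA : a ∈ A := mem_sup_left (mem_sup_right (mem_zpowers a))
  have tA : zpowers h.t ≤ A := le_sup_right
  have AT : A ≤ T := sup_le (sup_le (zpowers_le.2 (x.DT x.d8.zD)) (zpowers_le.2 (x.DT x.d8.aD)))
    (zpowers_le.2 x.tT)
  obtain ⟨S, hS, TS⟩ := exists_isSyl_ge x.sT.isPGroup le_top
  have ST : S ⊓ C1[h.t] = T := x.sT.eq_of_le hS.isPGroup.to_inf_left (le_inf TS x.sT.le) inf_le_right
  refine h.X5 (H2.Sec.sectional (k := 4) ((H2.Sec.of_sylow hS.toSylowTop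
    (H2.SC.sec (S := S) hS.isPGroup (A := A.subgroupOf S) ⟨?_, fun y hy => Subtype.ext ?_, fun y hy => ?_⟩)).subgroup _))
  · exact (Nat.card_congr (subgroupOfEquivOfLe (AT.trans TS)).toEquiv).trans cA
  · obtain ⟨v, hv, e⟩ := sup_zp (y := (y : G)) h.tt n2 hy
    have v2 : v * v = 1 := by
      rcases mV v hv with rfl | rfl | rfl | rfl
      exacts [mul_one 1, z2, a2, by rw [mul_assoc, ← mul_assoc a, ← za, mul_assoc, a2, mul_one, z2]]
    change (y : G) * y = 1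
    rcases e with e | e <;> rw [e]
    · exact v2
    · rw [mul_assoc, ← mul_assoc h.t, ← x.tc (AT (mem_sup_left hv)), mul_assoc, h.tt, mul_one, v2]
  · have yT : (y : G) ∈ T := ST.le ⟨y.2, c1.2 (congrArg Subtype.val (hy ⟨h.t, TS x.tT⟩
      (tA (mem_zpowers _))).eq)⟩
    have ya : cn a y = a := cn_of (congrArg Subtype.val (hy ⟨a, TS (AT aA)⟩ aA).eq).symm
    obtain ⟨d, hd, ⟨e1, e2⟩ | ⟨e1, -⟩⟩ := (x.d8.adj (x.TN yT)).2
    · have hc := x.fixC (T.mul_mem yT (x.DT hd)) e1 e2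
      rw [cn_cn, ya] at e1
      have dA : d ∈ A := by
        rcases x.d8.cenA hd (of_cn e1).symm with rfl | rfl | rfl | rfl
        exacts [A.one_mem, zA, aA, A.mul_mem aA zA]
      refine (A.mul_mem_cancel_right dA).1 ?_
      rcases hr.fix _ hc with k | k
      · exact tA (H _ hc k)
      · exact (A.mul_mem_cancel_right zA).1 (tA (H _ (mul_mem hc x.zC) k))
    · rw [cn_cn, ya] at e1
      exact absurd e1 (x.d8.nab hd)

section F

variable (hr : Sd h.K (T ⊓ C[D]) a z r) (hs : Sd h.K (T ⊓ C[D]) b z s) (hf : f ∈ T ⊓ C[D])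
  (fr : r * f = f * r) (ft : f ∉ zpowers h.t)
include hr hs hf fr ft

theorem fs : s * (f * z) = f * z * s := (hs.fix f hf).resolve_left fun k => ft (x.iso hr hs hf fr k)

theorem ff : f * f ∈ zpowers h.t := x.iso hr hs (mul_mem hf hf)
  ((show Commute r f from fr).mul_right fr).eq (by
    have := ((show Commute s (f * z) from x.fs hr hs hf fr ft).mul_right (x.fs hr hs hf fr ft)).eq
    rwa [mul_assoc f z, ← mul_assoc z, x.cz hf, mul_assoc f z, x.d8.rel.2.1, mul_one] at this)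

theorem mixed {c : G} (hc : c ∈ T ⊓ C[D]) (h1 : r * (c * z) = c * z * r) (h2 : s * c = c * s) :
    c * z * f⁻¹ ∈ zpowers h.t := x.iso hr hs (mul_mem (mul_mem hc x.zC) (inv_mem hf))
  ((show Commute r (c * z) from h1).mul_right (show Commute r f from fr).inv_right).eq (by
    have := ((show Commute s c from h2).mul_right
      (show Commute s (f * z) from x.fs hr hs hf fr ft).inv_right).eq
    rwa [mul_inv_rev, inv_eq_of_mul_eq_one_right x.d8.rel.2.1, ← mul_assoc c] at this)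

theorem str {c : G} (hc : c ∈ T ⊓ C[D]) : ∃ w ∈ zpowers h.t ⊔ zpowers z, c = w ∨ c = w * f := by
  have z2 := x.d8.rel.2.1
  have k : ∀ y, y * z ∈ zpowers h.t → y ∈ zpowers h.t ⊔ zpowers z := fun y hy =>
    (Subgroup.mul_mem_cancel_right _ (mem_sup_right (mem_zpowers z))).1 (mem_sup_left hy)
  rcases hr.fix c hc with h1 | h1 <;> rcases hs.fix c hc with h2 | h2
  · exact ⟨c, mem_sup_left (x.iso hr hs hc h1 h2), Or.inl rfl⟩
  · have := x.mixed hr hs hf fr ft (mul_mem hc x.zC) (by rwa [mul_assoc c, z2, mul_one]) h2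
    rw [mul_assoc c z z, z2, mul_one] at this
    exact ⟨_, mem_sup_left this, Or.inr (inv_mul_cancel_right c f).symm⟩
  · have := x.mixed hr hs hf fr ft hc h1 h2
    rw [mul_assoc, x.cz (inv_mem hf), ← mul_assoc] at this
    exact ⟨_, k _ this, Or.inr (inv_mul_cancel_right c f).symm⟩
  · exact ⟨c, k _ (x.iso hr hs (mul_mem hc x.zC) h1 h2), Or.inl rfl⟩

omit hr hs hf fr ft in
theorem mW {w : G} (hw : w ∈ zpowers h.t ⊔ zpowers z) : ∃ v ∈ zpowers h.t, w = v ∨ w = v * z :=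
  sup_zp x.d8.rel.2.1 (zp_n (x.tc (x.DT x.d8.zD))) hw

omit hr hs hf fr ft in
theorem cW {w y : G} (hw : w ∈ zpowers h.t ⊔ zpowers z) (h1 : y * h.t = h.t * y) (h2 : z * y = y * z) :
    w * y = y * w := c1.1 ((sup_le (zpowers_le.2 (c1.2 h1.symm)) (zpowers_le.2 (c1.2 h2)) : _ ≤ C1[y]) hw)

omit hs in
theorem fW : f ∉ zpowers h.t ⊔ zpowers z := fun hw => by
  obtain ⟨v, hv, rfl | rfl⟩ := x.mW hw
  · exact ft hv
  · have := cn_of fr.symm
    rw [cn_mul, cn_of (x.rt hr hv).symm, hr.zr, mul_right_inj] at this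
    exact x.d8.rel.2.2.2.2.2.1 this

theorem nil {k : G} (hk : k ∈ C1[h.t] ⊓ C[D]) (hn : k ∈ N[(T ⊓ C[D] : Subgroup G)])
    (hS : IsSyl 2 (T ⊓ C[D]) (C1[h.t] ⊓ C[D])) : k ∈ C[(T ⊓ C[D] : Subgroup G)] := by
  have key : ∀ y, y * h.t = h.t * y → z * y = y * z → f * y = y * f → y ∈ C[(T ⊓ C[D] : Subgroup G)] :=
    fun y h1 h2 h3 c hc => by
      obtain ⟨w, hw, rfl | rfl⟩ := x.str hr hs hf fr ft hc
      · exact x.cW hw h1 h2
      · rw [mul_assoc, h3, ← mul_assoc, x.cW hw h1 h2, mul_assoc]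
  have fC := key f (x.tc hf.1) (x.cz hf) rfl
  have kt := c1.1 hk.1
  have kz := hk.2 z x.d8.zD
  refine odd_trick hS hk hn (fun c hc => key c (x.tc hc.1) (x.cz hc) (fC c hc).symm)
    (key _ ((show Commute k h.t from kt).mul_left kt).eq ((show Commute z k from kz).mul_right kz).eq
      (of_cn ?_))
  obtain ⟨w, hw, e | e⟩ := x.str hr hs hf fr ft (cn_mem hn hf)
  · refine absurd ?_ (x.fW hr hf fr ft)
    rwa [← cn_inv e, ← x.cW hw kt kz, mul_inv_cancel_right]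
  · rw [cn_cn, e, cn_mul, e, cn_of (x.cW hw kt kz), ← mul_assoc, mul_eq_right]
    obtain ⟨v, hv, e' | e'⟩ := x.mW hw <;> rw [e'] <;> rcases mem_zp h.tt hv with rfl | rfl
    · exact mul_one 1
    · exact h.tt
    · rw [one_mul, x.d8.rel.2.1]
    · rw [mul_assoc, ← mul_assoc z, x.tc (x.DT x.d8.zD), mul_assoc, x.d8.rel.2.1, mul_one, h.tt]

theorem exL : ∃ L : Subgroup G, h.K ≤ L ∧ L ≤ C1[h.t] ∧ C1[h.t] ≤ N[L] ∧ L ⊓ T = D ∧
    ∀ c ∈ C1[h.t], ∃ l ∈ L, ∃ u ∈ T, c = l * u := by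
  have sN : IsSyl 2 T (C1[h.t] ⊓ N[D]) := x.sT.of_le (le_inf x.sT.le x.TN) inf_le_left
  have l1 : C1[h.t] ⊓ C[D] ≤ C1[h.t] ⊓ N[D] := inf_le_inf_left _ (centralizer_le_normalizer _)
  have n1 : C1[h.t] ⊓ N[D] ≤ N[(C1[h.t] ⊓ C[D] : Subgroup G)] := le_normalizer_inf
    (inf_le_left.trans le_normalizer) (inf_le_right.trans (normalizer_le_normalizer_centralizer D))
  have sC := sN.inf_of_le_normalizer l1 n1
  rw [← inf_assoc, inf_eq_left.2 x.sT.le] at sC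
  obtain ⟨O, o1, o2⟩ := twoNil sC fun k hk hn => x.nil hr hs hf fr ft hk hn sC
  have OC : O ≤ C1[h.t] ⊓ C[D] := fun o ho => ((o1 o).1 ho).1
  have nO : C1[h.t] ⊓ N[D] ≤ N[O] := fun n hn => mem_normalizer_fintype fun o ho => (o1 _).2
    ⟨(mem_normalizer_iff.1 (n1 hn) o).1 (OC ho), by
      rw [← MulAut.conj_apply, MulEquiv.orderOf_eq]; exact ((o1 o).1 ho).2⟩
  have fH := x.sD.frattini h.KC h.Kn
  have DN : D ≤ C1[h.t] ⊓ N[D] := x.DT.trans sN.le
  have n2 : C1[h.t] ⊓ N[D] ≤ N[(C1[h.t] ⊓ C[D] ⊔ D : Subgroup G)] := le_normalizer_sup n1 inf_le_right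
  have fN := sN.sup_eq_of_pquot (sup_le l1 DN) n2 fun n hn => ⟨1, by
    obtain ⟨d, hd, e⟩ := (x.d8.adj hn.2).2
    have m1 : n * d * (n * d) ∈ C1[h.t] ⊓ C[D] := ⟨(mul_mem (mul_mem hn (DN hd)) (mul_mem hn (DN hd))).1, by
      rcases e with ⟨e1, e2⟩ | ⟨e1, e2⟩ <;>
        exact x.d8.cen (of_cn (by rw [cn_cn]; simp only [e1, e2])).symm
          (of_cn (by rw [cn_cn]; simp only [e1, e2])).symm⟩
    rw [pow_one, pow_two, show n * n = n * d * (n * d) * (d⁻¹ * cn d⁻¹ n) by simp only [cn]; group]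
    exact mul_mem_sup m1 (mul_mem (inv_mem hd) (cn_mem hn.2 (inv_mem hd)))⟩
  rw [sup_assoc, sup_eq_right.2 x.DT] at fN
  have OK : O ≤ N[h.K] := (OC.trans inf_le_left).trans h.Kn
  refine ⟨h.K ⊔ O, le_sup_left, sup_le h.KC (OC.trans inf_le_left), fH.ge.trans
    (sup_le (le_sup_left.trans le_normalizer) (le_normalizer_sup (inf_le_left.trans h.Kn) nO)),
    le_antisymm (fun y hy => x.TD.le ⟨hy.2, ?_⟩) (le_inf (x.sD.le.trans le_sup_left) x.DT),
    fun c hc => ?_⟩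
  · obtain ⟨k, hk, o, ho, rfl⟩ := (mem_sup_of_le_normalizer OK).1 hy.1
    have := pow_mem_of hk (OK ho) (orderOf o)
    rw [pow_orderOf_eq_one, inv_one, mul_one] at this
    obtain ⟨n, hn⟩ := x.sT.isPGroup ⟨_, hy.2⟩
    exact mem_of_pow_mem_of_coprime (Nat.Coprime.coprime_dvd_left (orderOf_dvd_of_pow_eq_one
      (congrArg Subtype.val hn)) ((Nat.coprime_two_left.2 ((o1 o).1 ho).2).pow_left n)) this
  · obtain ⟨k, hk, n, hn, rfl⟩ := (mem_sup_of_le_normalizer (inf_le_left.trans h.Kn)).1 (fH.ge hc)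
    obtain ⟨m, hm, u, hu, rfl⟩ := (mem_sup_of_le_normalizer (sN.le.trans n1)).1 (fN.ge hn)
    obtain ⟨o, ho, v, hv, rfl⟩ := o2 m hm
    exact ⟨k * o, mul_mem_sup hk ho, v * u, T.mul_mem hv.1 hu, by group⟩

theorem fin (he : e ∈ T) (h1 : e = 1 ∨ (cn a e = b ∧ cn b e = a ∧ (cn f e = f * z ∨ cn f e = f * z * h.t) ∧
      (e * e = 1 ∨ e * e = h.t)))
    (h2 : ∀ u ∈ T, cn a u = b → cn b u = a → cn a e = b ∧ cn b e = a) :
    ∃ p : Pre G, p.toBase = h.toBase ∧ p.a ∈ h.K ∧ p.b ∈ h.K ∧ p.r ∈ h.K ∧ p.s ∈ h.K ∧ h.K ≤ p.L := by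
  obtain ⟨L, l1, l2, l3, l4, l5⟩ := x.exL hr hs hf fr ft
  have aD := x.d8.aD
  have bD := x.d8.symm.aD
  have nL : ∀ c ∈ T ⊓ C[D], c ∈ L → c ∈ zpowers z := fun c hc hl => by
    rcases x.d8.zen (l4.le ⟨hl, hc.1⟩) (hc.2 a aD).symm (hc.2 b bD).symm with rfl | rfl
    exacts [one_mem _, mem_zpowers _]
  have hT : T = closure {h.t, f, a, b, e} := by
    refine le_antisymm (fun u hu => ?_) ((closure_le _).2 (by
      simp only [Set.insert_subset_iff, Set.singleton_subset_iff, SetLike.mem_coe]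
      exact ⟨x.tT, hf.1, x.DT aD, x.DT bD, he⟩))
    have m : ({h.t, f, a, b, e} : Set G) ⊆ closure {h.t, f, a, b, e} := subset_closure
    generalize closure ({h.t, f, a, b, e} : Set G) = U at m
    simp only [Set.insert_subset_iff, Set.singleton_subset_iff, SetLike.mem_coe] at m
    obtain ⟨m1, m2, m3, m4, m5⟩ := m
    have DU : D ≤ U := x.d8.eq_closure.trans_le ((closure_le _).2 (Set.pair_subset m3 m4))
    have CU : T ⊓ C[D] ≤ U := fun c hc => by
      obtain ⟨w, hw, e⟩ := x.str hr hs hf fr ft hc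
      have := sup_le (zpowers_le.2 m1) (zpowers_le.2 (DU x.d8.zD)) hw
      rcases e with rfl | rfl
      exacts [this, mul_mem this m2]
    obtain ⟨d, hd, ⟨e1, e2⟩ | ⟨e1, e2⟩⟩ := (x.d8.adj (x.TN hu)).2 <;>
      refine (U.mul_mem_cancel_right (DU hd)).1 ?_
    · exact CU (x.fixC (T.mul_mem hu (x.DT hd)) e1 e2)
    · have ud := T.mul_mem hu (x.DT hd)
      obtain ⟨e3, e4⟩ := h2 _ ud e1 e2
      refine (U.mul_mem_cancel_right (inv_mem m5)).1 (CU (x.fixC (T.mul_mem ud (T.inv_mem he)) ?_ ?_))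
      · rw [cn_cn, e1, ← e3, ← cn_cn, mul_inv_cancel]; simp [cn]
      · rw [cn_cn, e2, ← e4, ← cn_cn, mul_inv_cancel]; simp [cn]
  refine ⟨⟨h.toBase, L, T, f, a, b, z, e, r, s, x.d8.rel.1, x.d8.symm.rel.1, x.d8.rel.2.1,
    x.d8.rel.2.2.1, x.d8.rel.2.2.2.1, x.d8.zc aD, x.d8.zc bD, (x.tc (x.DT aD)).symm,
    (x.tc (x.DT bD)).symm, (x.tc hf.1).symm, (x.tc he).symm, (hf.2 a aD).symm, (hf.2 b bD).symm,
    mem_zp h.tt (x.ff hr hs hf fr ft), h1, hT, x.sT, l2, l3, l4.trans x.d8.eq_closure,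
    fun k => ?_, fun k => x.fW hr hf fr ft (mem_sup_right (nL _ hf k)), fun k => x.fW hr hf fr ft
      ((Subgroup.mul_mem_cancel_left _ (mem_sup_left (mem_zpowers _))).1
        (mem_sup_right (nL _ (mul_mem x.tC hf) k))), l5, x.rt hr (mem_zpowers _), fr, hr.zr, hr.ar,
    hr.odd, x.symm.rt hs (mem_zpowers _), x.fs hr hs hf fr ft, hs.zr, hs.ar, hs.odd⟩, rfl,
    x.sD.le aD, x.sD.le bD, hr.mem, hs.mem, l1⟩
  exact (mem_zp x.d8.rel.2.1 (nL _ x.tC k)).elim h.t1 fun e => x.zt hr (e ▸ mem_zpowers _)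

end F

theorem sdc (hr : Sd h.K (T ⊓ C[D]) a z r) (he : e ∈ T) (e1 : cn a e = b) :
    Sd h.K (T ⊓ C[D]) b z (cn r e) := by
  have ez := (x.d8.adj (x.TN he)).1
  have k : ∀ y, cn (cn y e) (cn r e) = cn (cn y r) e := fun y => by simp only [cn]; group
  refine ⟨cn_mem (x.TK he) hr.mem, ?_, by rw [← e1, ← hr.zr, ← k, ez], by
    rw [← e1, k, hr.ar, cn_mul, ez], fun c hc => ?_⟩
  · rw [show cn r e = MulAut.conj e⁻¹ r by simp [cn], MulEquiv.orderOf_eq]; exact hr.odd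
  · have hn : e ∈ N[(T ⊓ C[D] : Subgroup G)] := le_normalizer_inf le_normalizer
      (x.TN.trans (normalizer_le_normalizer_centralizer D)) he
    obtain ⟨c, rfl⟩ : ∃ c', c = cn c' e := ⟨cn c e⁻¹, by simp [cn, mul_assoc]⟩
    rw [← ez, ← cn_mul, ← cn_mul, ← cn_mul, ← cn_mul, ← cn_mul]
    exact (hr.fix c ((mem_normalizer_iff''.1 hn c).2 hc)).imp (fun k => by rw [k]) fun k => by rw [k]

theorem main : ∃ p : Pre G, p.toBase = h.toBase ∧ p.a ∈ h.K ∧ p.b ∈ h.K ∧ p.r ∈ h.K ∧ p.s ∈ h.K ∧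
    h.K ≤ p.L := by
  obtain ⟨r, hr⟩ := x.side
  obtain ⟨f, hf, fr, ft⟩ := x.exf hr
  by_cases H : ∃ e ∈ T, cn a e = b ∧ cn b e = a
  swap
  · obtain ⟨s, hs⟩ := x.symm.side
    exact x.fin hr hs hf fr ft T.one_mem (Or.inl rfl) fun u hu h1 h2 => absurd ⟨u, hu, h1, h2⟩ H
  obtain ⟨e, he, e1, e2⟩ := H
  have hs := x.sdc hr he e1
  have z2 := x.d8.rel.2.1
  have ez := (x.d8.adj (x.TN he)).1
  have hn : e ∈ N[(T ⊓ C[D] : Subgroup G)] := le_normalizer_inf le_normalizer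
    (x.TN.trans (normalizer_le_normalizer_centralizer D)) he
  have gC := cn_mem hn hf
  have gs : cn r e * cn f e = cn f e * cn r e := by rw [← cn_mul, fr, cn_mul]
  have ft' := x.tc hf.1
  have zt' := x.tc (x.DT x.d8.zD)
  have fz := x.cz hf
  have k1 : cn f e = f * z ∨ cn f e = f * z * h.t := by
    have := x.mixed hr hs hf fr ft gC ((hr.fix _ gC).resolve_left fun k => ft
      ((mem_normalizer_iff''.1 (zp_n (x.tc he)) f).2 (x.iso hr hs gC k gs))) gs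
    refine (mem_zp h.tt this).imp (fun k => ?_) fun k => ?_ <;> rw [mul_inv_eq_iff_eq_mul,
      ← eq_mul_inv_iff_mul_eq, inv_eq_of_mul_eq_one_right z2] at k <;> rw [k]
    · rw [one_mul]
    · rw [← ft', mul_assoc, mul_assoc, zt']
  have k2 : e * e ∈ zpowers h.t ⊔ zpowers z := by
    obtain ⟨w, hw, k | k⟩ := x.str hr hs hf fr ft (x.fixC (T.mul_mem he he) (by rw [cn_cn, e1, e2])
      (by rw [cn_cn, e2, e1]))
    · exact k ▸ hw
    · have := cn_of (mul_assoc e e e)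
      rw [k, cn_mul, cn_of (x.cW hw (x.tc he) (of_cn ez)), mul_right_inj] at this
      rcases k1 with k1 | k1 <;> rw [k1] at this
      · exact absurd (mul_eq_left.1 this) x.d8.rel.2.2.1
      · rw [mul_assoc, mul_eq_left, mul_eq_one_iff_eq_inv] at this
        exact absurd (this ▸ inv_mem (mem_zpowers _)) (x.zt hr)
  obtain ⟨v, hv, k | k⟩ := x.mW k2
  · exact x.fin hr hs hf fr ft he (Or.inr ⟨e1, e2, k1, mem_zp h.tt (k ▸ hv)⟩) fun _ _ _ _ => ⟨e1, e2⟩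
  have e3 : cn a (e * f) = b := by rw [cn_cn, e1, cn_of (hf.2 b x.d8.symm.aD)]
  have e4 : cn b (e * f) = a := by rw [cn_cn, e2, cn_of (hf.2 a x.d8.aD)]
  have f1 : cn (f * z) f = f * z := cn_of (by rw [mul_assoc, fz])
  refine x.fin hr hs hf fr ft (T.mul_mem he hf.1) (Or.inr ⟨e3, e4, k1.imp (fun k => ?_) fun k => ?_,
    mem_zp h.tt ?_⟩) fun _ _ _ _ => ⟨e3, e4⟩
  · rw [cn_cn, k, f1]
  · rw [cn_cn, k, cn_mul, f1, cn_of ft'.symm]
  · have f2 := x.ff hr hs hf fr ft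
    have f3 : v * z * (f * z) = v * f := by rw [← fz, mul_assoc, ← mul_assoc z, z2, one_mul]
    rw [show e * f * (e * f) = e * e * cn f e * f by simp only [cn]; group, k]
    rcases k1 with k1 | k1 <;> rw [k1]
    · rw [f3, mul_assoc]; exact mul_mem hv f2
    · rw [← mul_assoc, f3, mul_assoc, ← ft', ← mul_assoc, mul_assoc v]
      exact mul_mem (mul_mem hv f2) (mem_zpowers _)

end Cx

theorem bridge : BridgeStmt.{u} := fun G _ _ h => by
  obtain ⟨D, hD, ⟨e⟩⟩ := h.dih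
  obtain ⟨a, b, z, d8⟩ := exists_D8 e
  obtain ⟨T, hT, l⟩ := exists_isSyl_ge hD.isPGroup (hD.le.trans h.KC)
  exact Cx.main ⟨d8, hD, hT, l⟩

end Cfsg.Agent.H10.LT
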