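import Cfsg.Agent.H10.LTXX3

/-! Type HH: the element `p` (piece HB). -/

set_option autoImplicit false
set_option maxRecDepth 100000
set_option linter.unusedSimpArgs false
set_option linter.style.haveILetI false

namespace Cfsg.Agent.H10.LA

open Subgroup Cfsg.Agent.H85 Cfsg.Agent.H93.LT Cfsg.Agent.H3.LTB Cfsg.Agent.H96

universe u

variable {G : Type u} [Group G]

theorem cn_inv' (x g : G) : cn x⁻¹ g = (cn x g)⁻¹ := by simp only [cn]; group

theorem calc3 {t k m f ν r : G} (h1 : cn t ν = t * k * f) (h2 : cn k ν = k) (h3 : cn m ν = m)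
    (h4 : cn f ν = f) (h5 : cn t r = t) (h6 : cn f r = f) (h7 : cn k r = m)
    (h8 : cn m r = (k * m)⁻¹) (ff : f * f = 1) (fm : f * m = m * f) :
    cn t (ν * r * (ν * r) * (ν * r)) = t * f := by
  have : t * k * f * m * f * (k * m)⁻¹ * f = t * f := by
    rw [mul_assoc _ f m, fm, ← mul_assoc, mul_assoc _ f f, ff]; group
  calc _ = cn (cn (cn (cn (cn (cn t ν) r) ν) r) ν) r := by simp only [cn_mul]
    _ = cn (t * k * f * m * f * (k * m)⁻¹ * f) r := by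
      congr 1
      simp only [cn_mul', cn_inv', h1, h2, h3, h4, h5, h6, h7, h8]
    _ = _ := by rw [this, cn_mul', h5, h6]

theorem xz' (h : TT G) : Commute h.x h.z := comm_z h.toHyp h.xa h.xb
theorem yz' (h : TT G) : Commute h.y h.z := comm_z h.toHyp h.ya h.yb

theorem aRel (h : TT G) : MA.T.Rel [h.x, h.t, h.b, h.a, h.f, h.z] :=
  MA.rel_of h.xx (rl h.tx) h.xb.symm h.xa.symm h.xf.symm (xz' h).symm h.tt h.tb.symm h.ta.symm
    h.tf.symm (tz h.toHyp).symm h.bb (rl h.ab) h.fb h.zb h.aa h.fa h.za h.ff (fz h.toHyp).symm h.zz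

theorem bRel (h : HH G) (hy : h.y ≠ 1) (ty : cn h.t h.y = h.t * h.f) :
    MB.T.Rel [h.y, h.x, h.t, h.b, h.a, h.f, h.z] :=
  MB.rel_of h.yy (rl (h.xy hy)) (rl ty) h.yb.symm h.ya.symm h.yf.symm (yz' h.toTT).symm
    h.xx (rl h.tx) h.xb.symm h.xa.symm h.xf.symm (xz' h.toTT).symm h.tt h.tb.symm h.ta.symm
    h.tf.symm (tz h.toHyp).symm h.bb (rl h.ab) h.fb h.zb h.aa h.fa h.za h.ff (fz h.toHyp).symm h.zz

theorem bm' (h : HH G) : cn h.b h.m = h.b * h.x * h.t * h.a := by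
  have : cn h.b h.m = h.b * (cn h.m h.b)⁻¹ * h.m := by simp only [cn]; group
  rw [this, h.mb, ← h.mm]; group

variable [Finite G]

theorem xN (h : TT G) : h.x ∈ normalizer (h.T0 : Set G) :=
  N_T0 h.toHyp (h.tx ▸ mul_mem (Z_T0 h.toHyp (tZ _)) (Z_T0 h.toHyp (zZ _))) h.xf h.xa
    ((cn_comm h.xb.symm).symm ▸ bT0 h.toHyp)

theorem aN (h : TT G) : (Pc.lift _ (aRel h)).range ≤ normalizer (h.T0 : Set G) := by
  rw [Pc.range_lift, closure_le]
  intro v hv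
  rcases List.mem_cons.1 hv with rfl | hv
  exacts [xN h, le_normalizer (t0_mem h.toHyp v hv)]

theorem bN (h : HH G) (hy : h.y ≠ 1) (ty : cn h.t h.y = h.t * h.f) :
    (Pc.lift _ (bRel h hy ty)).range ≤ normalizer (h.T0 : Set G) := by
  rw [Pc.range_lift, closure_le]
  intro v hv
  rcases List.mem_cons.1 hv with rfl | hv
  · exact N_T0 h.toHyp (ty ▸ mul_mem (Z_T0 h.toHyp (tZ _)) (Z_T0 h.toHyp (fZ _))) h.yf h.ya
      ((cn_comm h.yb.symm).symm ▸ bT0 h.toHyp)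
  rcases List.mem_cons.1 hv with rfl | hv
  exacts [xN h.toTT, le_normalizer (t0_mem h.toHyp v hv)]

/-- the second alternative does not occur -/
theorem noAlt (sp : SPStmt.{u}) (h : HH G) (hy : h.y = 1) {ν : G} (h1 : cn h.z ν = h.z)
    (h2 : cn h.a ν = h.a) (h3 : cn h.f ν = h.f * h.z)
    (h4 : (h.t * (h.x * h.t) * h.f)⁻¹ * cn h.t ν ∈ h.V1)
    (h5 : (h.x * h.t)⁻¹ * cn (h.x * h.t) ν ∈ h.V1) (h6 : h.m⁻¹ * cn h.m ν ∈ h.V1) : False := by
  have zV := zV h.toHyp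
  have aV := aV h.toHyp
  have nV : ∀ g, cn h.z g ∈ h.V1 → cn h.a g ∈ h.V1 → g ∈ normalizer (h.V1 : Set G) :=
    fun g a b => mem_N_closure (by rintro v (rfl | rfl); exacts [a, b])
  have cV : ∀ g, Commute g h.z → Commute g h.a → g ∈ normalizer (h.V1 : Set G) := fun g a b =>
    nV g ((cn_comm a.symm).symm ▸ zV) ((cn_comm b.symm).symm ▸ aV)
  have tN := cV _ (tz h.toHyp) h.ta
  have fN := cV _ (fz h.toHyp) h.fa
  have kN := mul_mem (cV _ (xz' h.toTT) h.xa) tN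
  have mN := cV _ h.mz h.ma
  have νN := nV ν (h1.symm ▸ zV) (h2.symm ▸ aV)
  have rN := nV h.r (h.zr.symm ▸ aV) (h.ar.symm ▸ mul_mem aV zV)
  have key : (h.t * h.f)⁻¹ * cn h.t (ν * h.r * (ν * h.r) * (ν * h.r)) ∈ h.V1 := by
    let π := QuotientGroup.mk' (h.V1.subgroupOf (normalizer (h.V1 : Set G)))
    have E : ∀ u g w : normalizer (h.V1 : Set G), (w : G)⁻¹ * cn (u : G) g ∈ h.V1 →
        cn (π u) (π g) = π w := fun u g w e => by
      rw [cn, ← map_inv, ← map_mul, ← map_mul]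
      exact (QuotientGroup.eq.2 (mem_subgroupOf.2 e)).symm
    have := calc3 (t := π ⟨_, tN⟩) (k := π ⟨_, kN⟩) (m := π ⟨_, mN⟩) (f := π ⟨_, fN⟩)
      (ν := π ⟨_, νN⟩) (r := π ⟨_, rN⟩) (by rw [← map_mul, ← map_mul]; exact E _ _ _ h4)
      (E _ _ _ h5) (E _ _ _ h6) (E _ _ _ (by simpa [h3] using zV))
      (E _ _ _ (by simp [cn_comm h.rt.symm])) (E _ _ _ (by simp [cn_comm h.rf.symm]))
      (E _ _ _ (by simp [h.xr])) (by rw [← map_mul, ← map_inv]; exact E _ _ _ (by simp [h.mr]))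
      (by rw [← map_mul, ← map_one π]; exact congrArg π (Subtype.ext h.ff))
      (by rw [← map_mul, ← map_mul]; exact congrArg π (Subtype.ext h.mf.symm.eq))
    simp only [cn, ← map_mul, ← map_inv] at this
    exact mem_subgroupOf.1 (QuotientGroup.eq.1 this.symm)
  have VR : h.V1 ≤ h.R := closure_mono (by intro v; simp; tauto)
  have zR := VR zV
  have aR := VR aV
  have fR : h.f ∈ h.R := subset_closure (by simp)
  have xR : h.x ∈ h.R := subset_closure (by simp)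
  have mR : h.m ∈ h.R := subset_closure (by simp)
  have tR : h.t ∈ h.R := subset_closure (by simp)
  have nR : ∀ g, cn h.z g ∈ h.R → cn h.f g ∈ h.R → cn h.a g ∈ h.R → cn (h.x * h.t) g ∈ h.R →
      cn h.m g ∈ h.R → cn h.t g ∈ h.R → g ∈ normalizer (h.R : Set G) :=
    fun g a b c d e f => mem_N_closure (by
      rintro v (rfl | rfl | rfl | rfl | rfl | rfl | rfl)
      exacts [a, b, c, (mul_mem_cancel_right f).1 (cn_mul' _ _ g ▸ d), by simp [hy, cn], e, f])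
  have νR := nR ν (h1.symm ▸ zR) (h3.symm ▸ mul_mem fR zR) (h2.symm ▸ aR)
    ((mul_mem_cancel_left (inv_mem (mul_mem xR tR))).1 (VR h5))
    ((mul_mem_cancel_left (inv_mem mR)).1 (VR h6))
    ((mul_mem_cancel_left (inv_mem (mul_mem (mul_mem tR (mul_mem xR tR)) fR))).1 (VR h4))
  have rR := nR h.r (h.zr.symm ▸ aR) ((cn_comm h.rf.symm).symm ▸ fR) (h.ar.symm ▸ mul_mem aR zR)
    (h.xr.symm ▸ mR) (h.mr.symm ▸ inv_mem (mul_mem (mul_mem xR tR) mR))
    ((cn_comm h.rt.symm).symm ▸ tR)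
  have cR := mul_mem (mul_mem (mul_mem νR rR) (mul_mem νR rR)) (mul_mem νR rR)
  generalize ν * h.r * (ν * h.r) * (ν * h.r) = c at key cR
  obtain ⟨k, hk, v, hv, e⟩ := sp G h c cR (by
    have VW : h.V1 ≤ h.W1 := closure_mono (by intro v; simp; tauto)
    have := mul_mem (subset_closure (by simp) : h.f ∈ h.W1) (VW key)
    rwa [mul_inv_rev, mul_assoc, mul_inv_cancel_left] at this)
  have e1 : cn h.t v = h.t := cn_comm (ct.1 ((closure_le (centralizer {h.t})).2 (by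
    rintro w (rfl | rfl)
    exacts [ct.2 h.tb, ct.2 h.rt.symm]) hv))
  have e2 : k ∈ normalizer (h.V1 : Set G) ∧ Commute h.f k ∧ h.t⁻¹ * cn h.t k ∈ h.V1 := by
    clear e
    induction hk using closure_induction with
    | mem w hw =>
      rcases hw with rfl | rfl | rfl | rfl | rfl | rfl
      · exact ⟨le_normalizer zV, fz h.toHyp, by simp [cn_comm (tz h.toHyp)]⟩
      · exact ⟨fN, Commute.refl _, by simp [cn_comm h.tf]⟩
      · exact ⟨le_normalizer aV, h.fa, by simp [cn_comm h.ta]⟩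
      · refine ⟨kN, h.xf.symm.mul_right h.tf.symm, ?_⟩
        rw [cn_mul, h.tx, cn_comm ((Commute.refl _).mul_left (tz h.toHyp).symm)]
        simpa using zV
      · exact ⟨mN, h.mf.symm, by simpa [h.tm] using aV⟩
      · simp [TT.κ, hy, cn]
    | one => simp [cn]
    | mul a b _ _ ha hb =>
      refine ⟨mul_mem ha.1 hb.1, ha.2.1.mul_right hb.2.1, ?_⟩
      have := mul_mem hb.2.2 (cn_mem hb.1 ha.2.2)
      convert this using 1
      simp only [cn]; group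
    | inv a _ ha =>
      refine ⟨inv_mem ha.1, ha.2.1.inv_right, ?_⟩
      have := inv_mem (cn_mem (inv_mem ha.1) ha.2.2)
      convert this using 1
      simp only [cn]; group
  have e3 := cn_mem e2.1 key
  rw [cn_mul', ← cn_mul, e _ (Z_E1 h.toHyp (tZ _)), e1, cn_inv', cn_mul', cn_comm e2.2.1] at e3
  have e4 := inv_mem (mul_mem e3 e2.2.2)
  have VL : h.V1 ≤ h.L := (closure_le _).2 (by
    rintro w (rfl | rfl)
    exacts [zL h.toHyp, (h.LiT.ge (subset_closure (by simp))).1])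
  exact h.fL (VL (by convert e4 using 1; group))

theorem pOf (hk : KitStmt.{u}) (h : HH G) {M : Type} [Group M] {φ : M →* G} (pM : IsPGroup 2 M)
    (inj : Function.Injective φ) {x t b a f z : M} (ex : φ x = h.x) (et : φ t = h.t)
    (eb : φ b = h.b) (ea : φ a = h.a) (ef : φ f = h.f) (ez : φ z = h.z)
    (h2 : φ.range ≤ normalizer (h.T0 : Set G)) (hC : ∀ u, t * u = u * t → φ u ∈ h.T0)
    {α β : M → M} (A : Act φ h.m α) (B : Act φ h.e β) (ee : h.e * h.e = 1) (κ κ' : M)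
    (k : x⁻¹ * d3 α β (d3 α β t) * x = t ∧ x⁻¹ * d3 α β (d3 α β f) * x = f ∧
      ∀ τ, (∀ u ∈ [κ, x, t, b, a], τ⁻¹ * u * τ = d3 α β (d3 α β u)) → β (α τ) = τ →
      ∃ v ∈ [f * t * x, t * x], (∀ u ∈ [z, a, b, x * t], d3 α β (v⁻¹ * u * v) = u) ∧
        d3 α β (v⁻¹ * f * v) = f * z ∧ d3 α β (v⁻¹ * t * v) = t * (x * t) ∧
        d3 α β (v⁻¹ * κ * v) = κ' ∧ v * τ * d3 α β v = (x * t)⁻¹ ∧
        τ * (d3 α β (sg α β a 1))⁻¹ * d3 α β (α v⁻¹ * v) ∈ [1, z]) :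
    ∃ p, Commute p h.z ∧ Commute p h.a ∧ Commute p h.b ∧ Commute p (h.x * h.t) ∧
      cn h.f p = h.f * h.z ∧ cn h.t p = h.t * (h.x * h.t) ∧
      (cn h.m p = h.m ∨ cn h.m p = h.m * h.z) ∧ cn (φ κ) p = φ κ' ∧ p * p = (h.x * h.t)⁻¹ := by
  have h1 : h.T0 ≤ φ.range := (closure_le _).2 (by
    rintro v (rfl | rfl | rfl | rfl)
    exacts [⟨_, et⟩, ⟨_, ef⟩, ⟨_, ea⟩, ⟨_, eb⟩])
  obtain ⟨c, τ, C, c2, c3, c4, c5⟩ := alignM hk h.toHyp pM inj h1 h2 B.N et ef hC A B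
    (h.mm.trans ea.symm) (ee.trans (map_one φ).symm) x k.1 k.2.1
  obtain ⟨v, -, k1, k2, k3, k4, k5, k6⟩ := k.2.2 τ (fun u _ => c4 u) c3
  obtain ⟨P, p1, p2⟩ := twist A C c2 c5 v
  have cm : ∀ u ∈ [z, a, b, x * t], Commute (φ v * c) (φ u) := fun u hu =>
    Commute.symm (comm_of_cn (P.eq (k1 u hu)))
  simp only [List.forall_mem_cons, map_mul, ex, et, eb, ea, ez] at cm
  have q2 := P.eq k2
  have q3 := P.eq k3
  rw [k5] at p1
  simp only [map_mul, map_inv, ex, et, ef, ez] at q2 q3 p1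
  refine ⟨_, cm.1, cm.2.1, cm.2.2.1, cm.2.2.2.1, q2, q3, ?_, P.eq k4, p1⟩
  rcases List.mem_pair.1 k6 with e | e <;> rw [e] at p2
  exacts [Or.inl (by rwa [map_one, mul_one] at p2), Or.inr (ez ▸ p2)]

omit [Finite G] in
open MA in
theorem actA (h : HH G) : Act (Pc.lift _ (aRel h.toTT)) h.m
    (ap [x * a, t * a, b * x * t * a, a, f, z]) := by
  obtain ⟨ex, et, eb, ea, ef, ez⟩ := gens (aRel h.toTT)
  exact act_of _ (by
    simp only [List.map_cons, List.map_nil, map_mul, ex, et, eb, ea, ef, ez, h.xm, h.tm, bm' h,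
      cn_comm h.ma.symm, cn_comm h.mf.symm, cn_comm h.mz.symm])

open MA in
theorem hb2 (hk : KitStmt.{u}) (sp : SPStmt.{u}) (h : HH G) (hy : h.y = 1) (he : h.e = 1)
    (hg : h.g ≠ 1) (hx : cn h.x h.g = h.x * h.f ∨ cn h.x h.g = h.x * h.f * h.z) : False := by
  obtain ⟨ex, et, eb, ea, ef, ez⟩ := gens (aRel h.toTT)
  obtain ⟨n1, n2, n3⟩ := bb_ne h.toHyp
  have inj := inj (aRel h.toTT) n1 n2 n3
  have hN := aN h.toTT
  have hC := ct (aRel h.toTT) (t0_mem h.toHyp)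
  have A := actA h
  rcases h.alt with ⟨-, e, -⟩ | ⟨-, -, e1, e2, e3, e4, -⟩ | ⟨-, e, -⟩
  · exact hg (e.trans he)
  swap
  · exact hg (e.trans he)
  have e5 : cn h.z h.g = h.z := by
    have : cn h.z h.g = (cn h.a h.g)⁻¹ * cn (cn h.a h.g) (cn h.b h.g) := by
      rw [z_eq h.toHyp]; simp only [cn]; group
    rw [this, e1, e2, ba h.toHyp, inv_mul_cancel_left]
  have B : ∀ w, cn h.x h.g = Pc.lift _ (aRel h.toTT) w → Act (Pc.lift _ (aRel h.toTT)) h.g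
      (ap [w, t * f * z, a, b, f * z, z]) := fun w hw => act_of _ (by
    simp only [List.map_cons, List.map_nil, map_mul, et, eb, ea, ef, ez, hw, e1, e2, e3, e4, e5])
  generalize Pc.lift _ (aRel h.toTT) = φ at *
  have h1 : h.T0 ≤ φ.range := (closure_le _).2 (by
    rintro v (rfl | rfl | rfl | rfl)
    exacts [⟨_, et⟩, ⟨_, ef⟩, ⟨_, ea⟩, ⟨_, eb⟩])
  obtain ⟨γ, hγ⟩ : h.g * h.g ∈ φ.range := (closure_le _).2 (by
    rintro v (rfl | rfl | rfl | rfl | rfl | rfl)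
    exacts [⟨_, et⟩, ⟨_, ef⟩, ⟨_, ea⟩, ⟨_, eb⟩, ⟨_, ex⟩, hy ▸ one_mem _]) h.gg
  have zV := zV h.toHyp
  have aV := aV h.toHyp
  have hV : ∀ u ∈ [1, z, a, z * a], φ u ∈ h.V1 := by
    simp only [List.forall_mem_cons, map_one, map_mul, ez, ea]
    exact ⟨one_mem _, zV, aV, mul_mem zV aV, by simp⟩
  have key : ∀ w u0 v : T.G, cn h.x h.g = φ w →
      (let α := ap [x * a, t * a, b * x * t * a, a, f, z]
       let β := ap [w, t * f * z, a, b, f * z, z]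
       u0⁻¹ * d3 α β (d3 α β t) * u0 = t ∧ u0⁻¹ * d3 α β (d3 α β f) * u0 = f ∧
        d3 α β (v⁻¹ * z * v) = z ∧ d3 α β (v⁻¹ * a * v) = a ∧ d3 α β (v⁻¹ * f * v) = f * z ∧
        (t * (x * t) * f)⁻¹ * d3 α β (v⁻¹ * t * v) ∈ [1, z, a, z * a] ∧
        (x * t)⁻¹ * d3 α β (v⁻¹ * (x * t) * v) ∈ [1, z, a, z * a] ∧
        ∀ γ, β γ = γ → (∀ u ∈ [x, t, b, a], γ⁻¹ * u * γ = β (β u)) →
        ∀ τ, (∀ u ∈ [x, t, b, a], τ⁻¹ * u * τ = d3 α β (d3 α β u)) → β (α τ) = τ →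
          τ * (d3 α β (sg α β a γ))⁻¹ * d3 α β (α v⁻¹ * v) ∈ [1, z, a, z * a]) → False := by
    intro w u0 v hw ⟨k1, k2, k3, k4, k5, k6, k7, k8⟩
    have B := B w hw
    obtain ⟨c, τ, C, c2, c3, c4, c5⟩ := alignM hk h.toHyp Pc.isPGroup inj h1 hN
      (he ▸ one_mem _) et ef hC A B (h.mm.trans ea.symm) hγ.symm u0 k1 k2
    obtain ⟨P, -, p2⟩ := twist A C c2 c5 v
    have k9 := k8 γ (inj (by rw [← B, hγ]; simp only [cn]; group))
      (fun u _ => inj (by rw [← Act.inner, hγ, B.mul B])) τ (fun u _ => c4 u) c3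
    have q3 := P.eq k5
    have q4 := hV _ k6
    have q5 := hV _ k7
    rw [map_mul, ← P] at q4 q5
    simp only [map_mul, map_inv, ex, et, ef, ez] at q3 q4 q5
    exact noAlt sp h hy (ez ▸ P.eq k3) (ea ▸ P.eq k4) q3 q4 q5
      (by rw [p2, inv_mul_cancel_left]; exact hV _ k9)
  rcases hx with e | e
  · exact key (x * f) x b (by rw [e, map_mul, ex, ef]) (by decide +kernel)
  · exact key (x * f * z) 1 1 (by rw [e, map_mul, map_mul, ex, ef, ez]) (by decide +kernel)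

theorem hb (hk : KitStmt.{u}) (sp : SPStmt.{u}) : HBStmt.{u} := by
  intro G _ _ h
  rcases h.alt2 with ⟨ge, e1, ee, xe, ye⟩ | ⟨hy, he, hg, hx⟩
  swap
  · exact (hb2 hk sp h.toHH hy he hg hx).elim
  obtain ⟨n1, n2, n3⟩ := bb_ne h.toHyp
  obtain ⟨a1, a2, a3⟩ := e_of h.toHyp e1
  by_cases hy : h.y = 1
  · obtain ⟨ex, et, eb, ea, ef, ez⟩ := MA.gens (aRel h.toTT)
    open MA in
    obtain ⟨p, p1, p2, p3, p4, p5, p6, p7, -, p9⟩ := pOf hk h.toHH Pc.isPGroup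
      (inj (aRel h.toTT) n1 n2 n3) ex et eb ea ef ez (aN h.toTT)
      (ct (aRel h.toTT) (t0_mem h.toHyp)) (actA h.toHH) (β := ap [x, t, a, b, f * z, z])
      (act_of _ (by simp only [List.map_cons, List.map_nil, map_mul, ex, et, eb, ea, ef, ez, xe,
        cn_comm h.te, ze h.toHyp, a1, a2, a3])) ee 1 1 (by decide +kernel)
    exact ⟨⟨h.toHH, p, ge, e1, ye, p1, p2, p3, p4, p5, p6, p7, fun k => absurd hy k, p9⟩⟩
  have ty : cn h.t h.y = h.t * h.f := by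
    rcases h.alt with ⟨e, -⟩ | ⟨e, -⟩ | ⟨e, -⟩
    exacts [absurd e hy, absurd e hy, e]
  obtain ⟨ey, ex, et, eb, ea, ef, ez⟩ := MB.gens (bRel h.toHH hy ty)
  open MB in
  obtain ⟨p, p1, p2, p3, p4, p5, p6, p7, p8, p9⟩ := pOf hk h.toHH Pc.isPGroup
    (inj (bRel h.toHH hy ty) n1 n2 n3) ex et eb ea ef ez (bN h.toHH hy ty)
    (ct (bRel h.toHH hy ty) (t0_mem h.toHyp))
    (α := ap [y * a, x * a, t * a, b * x * t * a, a, f, z])
    (β := ap [x * y * t, x, t, a, b, f * z, z])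
    (act_of _ (by simp only [List.map_cons, List.map_nil, map_mul, ey, ex, et, eb, ea, ef, ez,
      h.ym hy, h.xm, h.tm, bm' h.toHH, cn_comm h.ma.symm, cn_comm h.mf.symm, cn_comm h.mz.symm]))
    (act_of _ (by simp only [List.map_cons, List.map_nil, map_mul, ey, ex, et, eb, ea, ef, ez, xe,
      ye hy, cn_comm h.te, ze h.toHyp, a1, a2, a3])) ee (y * t) ((y * t)⁻¹ * (x * t))
    (by decide +kernel)
  simp only [map_mul, map_inv, ey, ex, et] at p8
  exact ⟨⟨h.toHH, p, ge, e1, ye, p1, p2, p3, p4, p5, p6, p7, fun _ => p8, p9⟩⟩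

end Cfsg.Agent.H10.LA
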