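import Cfsg.Agent.H93.LT3Defs
import Cfsg.Agent.H44.HeM
import Cfsg.Agent.H44.Glue

/-! Every element of order five of the Held group centralises an involution. -/

set_option autoImplicit false
set_option maxRecDepth 100000

namespace Cfsg.Agent.H10.He5

open Subgroup Cfsg.Agent.H43 Cfsg.Agent.H44

theorem five {G : Type*} [Group G] [Finite G] (hc : (Nat.card G).factorization 5 = 2) {U V : G}
    (hU : U ^ 5 = 1) (hV : V ^ 5 = 1) (c : Commute U V) (U1 : U ≠ 1)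
    (n : ∀ k < 5, U ^ k * V ≠ 1) {u : G} {m : ℕ} (hu : u ^ 5 ^ m = 1) :
    ∃ g : G, ∃ j : ℕ, g * u * g⁻¹ = U ^ j ∨ ∃ k < 5, g * u * g⁻¹ = (U ^ k * V) ^ j := by
  classical
  have : Fact (Nat.Prime 5) := ⟨by norm_num⟩
  have oU : orderOf U = 5 := orderOf_eq_prime hU U1
  have oV : orderOf V = 5 := orderOf_eq_prime hV (by simpa using n 0)
  have pz : ∀ x : G, orderOf x = 5 → IsPGroup 5 (zpowers x) := fun x h =>
    IsPGroup.of_card (n := 1) (by rw [Nat.card_zpowers, h, pow_one])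
  have N : zpowers U ≤ normalizer (zpowers V : Set G) :=
    le_trans (zpowers_le.2 (mem_centralizer_iff.2 (by
      rintro _ ⟨k, rfl⟩
      exact (c.symm.zpow_left k).eq))) (centralizer_le_normalizer _)
  obtain ⟨Q, hQ⟩ := ((pz U oU).to_sup_of_normal_right' (pz V oV) N).exists_le_sylow
  obtain ⟨l, -, hl⟩ := (Nat.dvd_prime_pow (by norm_num)).1 (orderOf_dvd_of_pow_eq_one hu)
  obtain ⟨R, hR⟩ := (IsPGroup.of_card ((Nat.card_zpowers u).trans hl)).exists_le_sylow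
  obtain ⟨g, rfl⟩ := MulAction.exists_smul_eq G R Q
  have e : zpowers U ⊔ zpowers V = (g • R : Sylow 5 G) := by
    refine eq_of_le_of_card_ge hQ ?_
    have d1 := card_dvd_of_le hQ
    have d2 := card_dvd_of_le (le_sup_left : zpowers U ≤ zpowers U ⊔ zpowers V)
    rw [Sylow.card_eq_multiplicity, hc] at d1 ⊢
    rw [Nat.card_zpowers, oU] at d2
    obtain ⟨i, hi, e⟩ := (Nat.dvd_prime_pow (by norm_num)).1 d1
    rw [e] at d2 ⊢
    interval_cases i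
    · omega
    · have := eq_of_le_of_card_ge (le_sup_left : zpowers U ≤ zpowers U ⊔ zpowers V)
        (by rw [e, Nat.card_zpowers, oU, pow_one])
      obtain ⟨k, hk, e⟩ := Finset.mem_image.1 (mem_zpowers_iff_mem_range_orderOf.1
        (inv_mem (this.ge (mem_sup_right (mem_zpowers V)))))
      exact absurd (by rw [e, inv_mul_cancel]) (n k (oU ▸ Finset.mem_range.1 hk))
    · rfl
  have m : g * u * g⁻¹ ∈ zpowers U ⊔ zpowers V := e ▸ smul_mem_pointwise_smul _ (MulAut.conj g) _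
    (hR (mem_zpowers u))
  rw [← SetLike.mem_coe, coe_mul_of_left_le_normalizer_right _ _ N] at m
  obtain ⟨_, hx, _, hy, e⟩ := m
  obtain ⟨i, -, rfl⟩ := Finset.mem_image.1 (mem_zpowers_iff_mem_range_orderOf.1 hx)
  obtain ⟨j, hj, rfl⟩ := Finset.mem_image.1 (mem_zpowers_iff_mem_range_orderOf.1 hy)
  rw [oV, Finset.mem_range] at hj
  rcases Nat.eq_zero_or_pos j with rfl | h0
  · exact ⟨g, i, Or.inl (by simpa using e.symm)⟩
  obtain ⟨k, hk, e2⟩ : ∃ k < 5, k * j % 5 = i % 5 := by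
    have : ∀ j < 5, 0 < j → ∀ i < 5, ∃ k < 5, k * j % 5 = i := by decide
    exact this j hj h0 _ (Nat.mod_lt _ (by norm_num))
  refine ⟨g, j, Or.inr ⟨k, hk, ?_⟩⟩
  rw [(c.pow_left k).mul_pow, ← pow_mul, ← pow_mod_orderOf U, oU, e2, ← oU, pow_mod_orderOf, ← e]

/-- words: two elements of order five and six involutions -/
def W : List (List ℕ) := [[], [3, 4, 3, 4], [7, 4, 6, 2, 3, 4, 7, 5, 4, 6, 5, 3, 4, 7, 2, 3, 4, 3, 4, 2, 7, 4, 3, 5, 6, 4, 5, 7, 4, 3, 2, 6, 4, 7], [1], [7, 4, 6, 2, 3, 4, 7, 5, 4, 6, 5, 3, 4, 7, 2, 1, 2, 7, 4, 3, 5, 6, 4, 5, 7, 4, 3, 2, 6, 4, 7], [2, 7, 4, 3, 4, 7, 6, 4, 2, 3, 4, 7, 6, 4, 7, 5, 1, 2, 1, 2, 1, 5, 7, 4, 6, 7, 4, 3, 2, 4, 6, 7, 4, 3, 4, 7, 2], [1, 5, 4, 3, 2, 7, 4, 6, 5, 4, 3, 4, 6, 7, 4, 2, 3, 4, 7, 2, 1, 2, 7, 4, 3, 2, 4, 7, 6, 4, 3, 4, 5, 6, 4, 7, 2, 3, 4, 5, 1], [5, 4, 3, 2, 7, 4, 6, 5, 4, 3, 4, 6, 7, 4, 2, 3, 4, 7,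 2, 1, 2, 7, 4, 3, 2, 4, 7, 6, 4, 3, 4, 5, 6, 4, 7, 2, 3, 4, 5], [2, 7, 4, 5, 3, 4, 2, 3, 4, 6, 7, 4, 3, 4, 6, 7, 2, 1, 2, 7, 6, 4, 3, 4, 7, 6, 4, 3, 2, 4, 3, 5, 4, 7, 2]]

/-- the relators -/
def R : List (List ℕ) := [[1, 1, 1, 1, 1], [2, 2, 2, 2, 2], [1, 2, 1, 1, 1, 1, 2, 2, 2, 2], [2, 1, 1, 1, 1, 1, 2, 2, 2, 2], [3, 3], [4, 4], [5, 5], [6, 6], [7, 7], [8, 8], [3, 1, 3, 1, 1, 1, 1], [1, 3, 3, 1, 1, 1, 1], [4, 2, 4, 2, 2, 2, 2], [2, 4, 4, 2, 2, 2, 2], [5, 1, 2, 5, 2, 2, 2, 2, 1, 1, 1, 1], [1, 2, 5, 5, 2, 2, 2, 2, 1, 1, 1, 1], [6, 1, 1, 2, 6, 2, 2, 2, 2, 1, 1, 1], [1, 1, 2, 6, 6, 2, 2, 2, 2, 1, 1, 1], [7, 1, 1, 1, 2, 7, 2, 2, 2, 2, 1, 1], [1, 1, 1, 2, 7, 7, 2, 2, 2, 2, 1, 1], [8, 1, 1, 1, 1, 2, 8, 2, 2, 2, 2, 1], [1, 1, 1, 1, 2, 8, 8, 2, 2, 2, 2, 1]]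

theorem eqns : True := by
  have := @W.eq_1
  have := @R.eq_1
  trivial

theorem sat : Sat (wt He.gm W) R :=
  Gl.sat_wt (HeM.model.sat HeM.inj (by decide +kernel)
    (sat_of_satB (k := 12) (L := lab 2058 12) HeM.m_hn (det_lab HeM.m_hk _) HeM.E_ok le_rfl
      (by decide +kernel)))

theorem ne (l : List ℕ) (b : ℕ) (h : lettersIn 7 (Gl.fl W l) = true ∧ b < 2058 ∧ 9 ≠ b ∧
    ptL HeM.E HeM.code (Gl.fl W l) 9 b = true) : ev (wt He.gm W) l ≠ 1 := by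
  rw [Gl.ev_wt]
  exact Gl.ne_one HeM.model h.1 (by decide) h.2.1 h.2.2.1 h.2.2.2

theorem eqv (l r t : List ℕ) (h : l ++ t ∈ R ∧ r ++ t ∈ R) :
    ev (wt He.gm W) l = ev (wt He.gm W) r := by
  have := (sat _ h.1).trans (sat _ h.2).symm
  rwa [ev_append, ev_append, mul_left_inj] at this

theorem good (i b c : ℕ) (x y : List ℕ) (h : ([i, i] ∈ R ∧ [i] ++ x ++ i :: y ∈ R ∧
    x ++ [i] ++ i :: y ∈ R) ∧ (lettersIn 7 (Gl.fl W x) = true ∧ b < 2058 ∧ 9 ≠ b ∧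
    ptL HeM.E HeM.code (Gl.fl W x) 9 b = true) ∧ lettersIn 7 (Gl.fl W [i]) = true ∧ c < 2058 ∧
    9 ≠ c ∧ ptL HeM.E HeM.code (Gl.fl W [i]) 9 c = true) : ev (wt He.gm W) x ≠ 1 ∧
      ∃ j : Cfsg.Spor.He, j ≠ 1 ∧ j * j = 1 ∧ Commute j (ev (wt He.gm W) x) :=
  ⟨ne x b h.2.1, ev (wt He.gm W) [i], ne [i] c h.2.2, (ev_append _ [i] [i]).symm.trans (sat _ h.1.1),
    (ev_append _ _ _).symm.trans ((eqv _ _ _ h.1.2).trans (ev_append _ _ _))⟩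

/-- a `5`-element of the Held group has order at most five and centralises an involution -/
theorem main (u : Cfsg.Spor.He) {m : ℕ} (hu : u ^ 5 ^ m = 1) :
    u ^ 5 = 1 ∧ ∃ i : Cfsg.Spor.He, i ≠ 1 ∧ i * i = 1 ∧ Commute i u := by
  have := HeM.finite
  have hU := sat [1, 1, 1, 1, 1] (by decide)
  have hV := sat [2, 2, 2, 2, 2] (by decide)
  have c := eqv [1, 2] [2, 1] [1, 1, 1, 1, 2, 2, 2, 2] (by decide)
  have g0 := good 3 12 29 [1] [1, 1, 1, 1] (by decide +kernel)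
  have g1 := good 4 782 32 [2] [2, 2, 2, 2] (by decide +kernel)
  have g2 := good 5 1232 859 [1, 2] [2, 2, 2, 2, 1, 1, 1, 1] (by decide +kernel)
  have g3 := good 6 473 1174 [1, 1, 2] [2, 2, 2, 2, 1, 1, 1] (by decide +kernel)
  have g4 := good 7 515 751 [1, 1, 1, 2] [2, 2, 2, 2, 1, 1] (by decide +kernel)
  have g5 := good 8 870 126 [1, 1, 1, 1, 2] [2, 2, 2, 2, 1] (by decide +kernel)
  generalize wt He.gm W = h at *
  simp only [ev_cons, ev_nil, mul_one] at hU hV c g0 g1 g2 g3 g4 g5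
  replace hU : h 1 ^ 5 = 1 := by simpa only [pow_succ', pow_zero, mul_one] using hU
  replace hV : h 2 ^ 5 = 1 := by simpa only [pow_succ', pow_zero, mul_one] using hV
  have k : ∀ k < 5, h 1 ^ k * h 2 ≠ 1 ∧
      ∃ j : Cfsg.Spor.He, j ≠ 1 ∧ j * j = 1 ∧ Commute j (h 1 ^ k * h 2) := by
    intro k hk
    interval_cases k <;> simp only [pow_succ', pow_zero, mul_one, one_mul, mul_assoc]
    exacts [g1, g2, g3, g4, g5]
  have fin : ∀ (x g : Cfsg.Spor.He) (j : ℕ), x ^ 5 = 1 → (∃ i, i ≠ 1 ∧ i * i = 1 ∧ Commute i x) →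
      g * u * g⁻¹ = x ^ j → u ^ 5 = 1 ∧ ∃ i, i ≠ 1 ∧ i * i = 1 ∧ Commute i u := by
    rintro x g j h5 ⟨i, i1, i2, i3⟩ e
    obtain rfl : u = g⁻¹ * x ^ j * g⁻¹⁻¹ := by rw [← e]; group
    exact ⟨by rw [conj_pow, ← pow_mul, mul_comm j, pow_mul, h5, one_pow, mul_one, mul_inv_cancel],
      g⁻¹ * i * g⁻¹⁻¹, mt conj_eq_one_iff.1 i1, by rw [conj_mul, i2, mul_one, mul_inv_cancel],
      (i3.pow_right j).conj _⟩
  obtain ⟨g, j, e | ⟨l, hl, e⟩⟩ := five (by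
    rw [HeM.card, show 4030387200 = 5 ^ 2 * 161215488 from rfl,
      Nat.factorization_mul_apply_of_coprime (by norm_num), Nat.factorization_pow_self (by norm_num),
      Nat.factorization_eq_zero_of_not_dvd (by norm_num)]) hU hV c g0.1 (fun l hl => (k l hl).1) hu
  · exact fin _ g j hU g0.2 e
  · exact fin _ g j (by
      rw [(Commute.pow_left c l).mul_pow, ← pow_mul, mul_comm l, pow_mul, hU, hV, one_pow, one_mul])
      (k l hl).2 e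

theorem he5 : H93.LT.He5Stmt := fun u hu =>
  (main u (m := 1) (by rw [pow_one, ← hu, pow_orderOf_eq_one])).2

theorem he25 (u : Cfsg.Spor.He) : orderOf u ≠ 25 := fun hu => by
  have := orderOf_dvd_of_pow_eq_one (main u (m := 2) (by
    rw [show 5 ^ 2 = 25 from rfl, ← hu, pow_orderOf_eq_one])).1
  rw [hu] at this
  omega

end Cfsg.Agent.H10.He5
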