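import Cfsg.Agent.H10.LTAct

/-! Type XX: the element `c` (piece XX3). -/

set_option autoImplicit false
set_option maxRecDepth 100000
set_option linter.unusedSimpArgs false

namespace Cfsg.Agent.H10.LA

open Subgroup Cfsg.Agent.H85 Cfsg.Agent.H93.LT Cfsg.Agent.H3.LTB Cfsg.Agent.H96

universe u

variable {G : Type u} [Group G]

theorem bb_ne (h : Hyp G) : h.z ≠ 1 ∧ h.f ≠ 1 ∧ h.z * h.f ≠ 1 :=
  ⟨h.z1, fun e => h.fL (e ▸ one_mem _), fun e => h.fL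
    ((mul_mem_cancel_left (zL h)).1 (e ▸ one_mem _))⟩

theorem t0_mem (h : Hyp G) : ∀ v ∈ [h.t, h.b, h.a, h.f, h.z], v ∈ h.T0 := by
  simp only [List.forall_mem_cons, List.not_mem_nil, false_imp_iff, implies_true, and_true]
  exact ⟨Z_T0 h (tZ h), bT0 h, aT0 h, Z_T0 h (fZ h), Z_T0 h (zZ h)⟩

theorem xxRel (h : XX G) : MX.T.Rel [h.Y, h.y, h.t, h.b, h.a, h.f, h.z] :=
  MX.rel_of h.YY (rl h.yY) (rl h.tY) h.Yb.symm (rl h.aY) h.Yf.symm h.Yz.symm h.yy (rl h.ty)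
    (rl h.by) h.ya.symm h.yf.symm h.yz.symm h.tt h.tb.symm h.ta.symm h.tf.symm (tz h.toHyp).symm
    h.bb (rl h.ab) h.fb h.zb h.aa h.fa h.za h.ff (fz h.toHyp).symm h.zz

variable [Finite G]

theorem xxN (h : XX G) : (Pc.lift _ (xxRel h)).range ≤ normalizer (h.T0 : Set G) := by
  have m := t0_mem h.toHyp
  simp only [List.forall_mem_cons] at m
  obtain ⟨mt, mb, ma, mf, mz, -⟩ := m
  rw [Pc.range_lift, closure_le]
  intro v hv
  simp only [List.mem_cons, List.not_mem_nil, or_false, Set.mem_ofPred_eq] at hv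
  rcases hv with rfl | rfl | rfl | rfl | rfl | rfl | rfl
  · refine mem_N_closure ?_
    rintro v (rfl | rfl | rfl | rfl)
    exacts [h.tY ▸ mul_mem (mul_mem mt mf) mz, (cn_comm h.Yf.symm).symm ▸ mf,
      h.aY ▸ mul_mem ma mf, (cn_comm h.Yb.symm).symm ▸ mb]
  · exact N_T0 h.toHyp (h.ty ▸ mul_mem mt mf) h.yf h.ya (h.by ▸ mul_mem (mul_mem mb mf) mz)
  exacts [le_normalizer mt, le_normalizer mb, le_normalizer ma, le_normalizer mf, le_normalizer mz]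

open MX in
theorem xx3 (hk : KitStmt.{u}) : XX3Stmt.{u} := by
  intro G _ _ h he
  obtain ⟨eY, ey, et, eb, ea, ef, ez⟩ := gens (xxRel h)
  obtain ⟨n1, n2, n3⟩ := bb_ne h.toHyp
  have inj := inj (xxRel h) n1 n2 n3
  have hN := xxN h
  have hC := ct (xxRel h) (t0_mem h.toHyp)
  have A : ∀ w, cn h.b h.m = Pc.lift _ (xxRel h) w → Act (Pc.lift _ (xxRel h)) h.m
      (ap [Y, a * y, t * f * a, w, a, f, z * f]) := fun w hw => act_of _ (by
    simp only [List.map_cons, List.map_nil, map_mul, eY, ey, et, ea, ef, ez, hw, h.ym, h.tm, h.zm,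
      cn_comm h.mY.symm, cn_comm h.ma.symm, cn_comm h.mf.symm])
  obtain ⟨e1, e2, e3⟩ := e_of h.toHyp he
  have B : ∀ w, cn h.Y h.e = Pc.lift _ (xxRel h) w → Act (Pc.lift _ (xxRel h)) h.e
      (ap [w, Y, t, a, b, f * z, z]) := fun w hw => act_of _ (by
    simp only [List.map_cons, List.map_nil, map_mul, eY, et, eb, ea, ef, ez, hw, e1, e2, e3,
      (h.ye he).1, cn_comm h.te, ze h.toHyp])
  generalize Pc.lift _ (xxRel h) = φ at *
  have h1 : h.T0 ≤ φ.range := (closure_le _).2 (by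
    rintro v (rfl | rfl | rfl | rfl)
    exacts [⟨_, et⟩, ⟨_, ef⟩, ⟨_, ea⟩, ⟨_, eb⟩])
  have hY : ∀ γ, h.e * h.e = φ γ → cn h.Y h.e = φ (γ⁻¹ * y * γ) := fun γ e => by
    rw [← (h.ye he).1, ← cn_mul, e, ← ey, Act.inner]
  have key : ∀ w γ u0 τ ρ ia ib it iy iY : T.G, cn h.b h.m = φ w → h.e * h.e = φ γ →
      (let α := ap [Y, a * y, t * f * a, w, a, f, z * f]
       let β := ap [γ⁻¹ * y * γ, Y, t, a, b, f * z, z]
       u0⁻¹ * d3 α β (d3 α β t) * u0 = t ∧ u0⁻¹ * d3 α β (d3 α β f) * u0 = f ∧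
        (∀ τ', (∀ u ∈ [Y, y, t, b, a], τ'⁻¹ * u * τ' = d3 α β (d3 α β u)) → β (α τ') = τ' →
          τ' = τ) ∧ α ρ = τ * (d3 α β (sg α β 1 γ))⁻¹ ∧ d3 α β z = z ∧ d3 α β f = f ∧
          d3 α β a = ia ∧ d3 α β b = ib ∧ d3 α β t = it ∧ d3 α β y = iy ∧ d3 α β Y = iY) →
      ∃ c, Commute c h.z ∧ Commute c h.f ∧ c * c = φ τ ∧ cn h.a c = φ ia ∧ cn h.b c = φ ib ∧
        cn h.t c = φ it ∧ cn h.y c = φ iy ∧ cn h.Y c = φ iY ∧ cn h.m c = φ ρ * h.m := by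
    intro w γ u0 τ ρ ia ib it iy iY hw hγ ⟨k1, k2, k3, k4, k5, k6, k7, k8, k9, k10, k11⟩
    obtain ⟨c, τ', C, c2, c3, c4, c5⟩ := alignM hk h.toHyp Pc.isPGroup inj h1 hN
      (B _ (hY γ hγ)).N et ef hC (A w hw) (B _ (hY γ hγ)) (h.mm.trans (map_one φ).symm) hγ u0 k1 k2
    obtain rfl := k3 τ' (fun u _ => c4 u) c3
    refine ⟨c, Commute.symm (ez ▸ comm_of_cn (C.eq k5)), Commute.symm (ef ▸ comm_of_cn (C.eq k6)),
      c2, ea ▸ C.eq k7, eb ▸ C.eq k8, et ▸ C.eq k9, ey ▸ C.eq k10, eY ▸ C.eq k11, ?_⟩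
    rw [c5, ← k4, ← A w hw, cn, ← mul_assoc, mul_inv_cancel_left]
  rcases (h.he.resolve_left he).2.2.2 with e | e <;> rcases h.bm with m | m
  · obtain ⟨c, c1, c2, k⟩ := key (b * Y) 1 1 1 1 Y y (z * a * b * t * y * Y) b a
      (by rw [m, map_mul, eb, eY]) (e.trans (map_one φ).symm) (by decide +kernel)
    simp only [map_mul, map_one, one_mul, eY, ey, et, eb, ea, ef, ez] at k
    exact ⟨⟨h, c, he, c1, c2, Or.inl ⟨e, m, k⟩⟩, rfl⟩
  · obtain ⟨c, c1, c2, k⟩ := key (f * b * Y) 1 (y * Y) (z * f * t * y * Y) (z * f * t * y * Y)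
      (z * Y) (f * y) (z * f * a * b * t * y * Y) (z * b) (z * f * a)
      (by rw [m, map_mul, map_mul, ef, eb, eY]) (e.trans (map_one φ).symm) (by decide +kernel)
    simp only [map_mul, map_one, one_mul, eY, ey, et, eb, ea, ef, ez] at k
    exact ⟨⟨h, c, he, c1, c2, Or.inr (Or.inl ⟨e, m, k⟩)⟩, rfl⟩
  · obtain ⟨c, c1, c2, k⟩ := key (b * Y) t (y * Y) (t * y * Y) (z * a * Y)
      (z * f * Y) (z * f * y) (a * b * t * y * Y) b (z * a)
      (by rw [m, map_mul, eb, eY]) (e.trans et.symm) (by decide +kernel)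
    simp only [map_mul, map_one, one_mul, eY, ey, et, eb, ea, ef, ez] at k
    exact ⟨⟨h, c, he, c1, c2, Or.inr (Or.inr (Or.inl ⟨e, m, k⟩))⟩, rfl⟩
  · obtain ⟨c, c1, c2, k⟩ := key (f * b * Y) t 1 1 (f * a * t * y)
      (f * Y) (z * y) (f * a * b * t * y * Y) (z * b) (f * a)
      (by rw [m, map_mul, map_mul, ef, eb, eY]) (e.trans et.symm) (by decide +kernel)
    simp only [map_mul, map_one, one_mul, eY, ey, et, eb, ea, ef, ez] at k
    exact ⟨⟨h, c, he, c1, c2, Or.inr (Or.inr (Or.inr ⟨e, m, k⟩))⟩, rfl⟩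

end Cfsg.Agent.H10.LA
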