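import Cfsg.Agent.H48.M2Defs

/-! Every involution of the centralizer of an ark lies in `Q_u A` for a singular `u`. -/

set_option autoImplicit false

namespace Cfsg.Agent.H48.M2

open Cfsg Subgroup Cfsg.Agent.H48 Cfsg.Agent.H48.Rec Cfsg.Agent.H49 Cfsg.Agent.H95.Par
open Cfsg.Agent.H97.Gr (DD ZZ)
open Cfsg.Agent.H97.Yt (M)

theorem tr0_of (pf : PfStmt) (t1 : Tr1Stmt) (t5 : Tr5Stmt) : Tr0Stmt := by
  intro A p hA hp hpp
  have F := pf A hA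
  obtain ⟨w, wA, wZ⟩ := F.ex
  obtain ⟨w', wA', wZ', np⟩ := F.ex' w wA wZ
  obtain ⟨p1, h1, p2, h2, a, ha, rfl⟩ := F.pd w wA wZ w' wA' wZ' np p hp
  by_cases e1 : p1 ∈ A
  · exact ⟨w', wA', wZ', mul_mem (mul_mem (mem_sup_right e1) (mem_sup_left h2.1)) (mem_sup_right ha)⟩
  by_cases e2 : p2 ∈ A
  · exact ⟨w, wA, wZ, mul_mem (mul_mem (mem_sup_left h1.1) (mem_sup_right e2)) (mem_sup_right ha)⟩
  have c1 : p1 * p2 * p1⁻¹ * p2⁻¹ ∈ Qz w := by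
    have := (mem_normalizer_iff.1 (n_Qz wZ (h2.2 w wA).symm) _).1 (inv_mem h1.1)
    simpa only [mul_assoc] using (Qz w).mul_mem h1.1 this
  have c2 : p1 * p2 * p1⁻¹ * p2⁻¹ ∈ Qz w' :=
    mul_mem ((mem_normalizer_iff.1 (n_Qz wZ' (h1.2 w' wA').symm) _).1 h2.1) (inv_mem h2.1)
  have s0 : p1 * p2 * (p1 * p2) = 1 := by
    have := mul_mem h1.2 h2.2 a ha
    rwa [mul_assoc _ a, ← mul_assoc a, this, mul_assoc (p1 * p2) a, F.el a ha, mul_one] at hpp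
  have s1 := (lx wZ).toXS.sq h1.1
  have k : p1 * p1 * p2 = p2 * (p1 * p1) := by
    rcases s1 with e | e <;> rw [e]
    · rw [one_mul, mul_one]
    · exact h2.2 w wA
  have s3 : p1 * p2 * p1⁻¹ * p2⁻¹ * (p1 * p1) * (p2 * p2) = 1 := by
    calc _ = p1 * p2 * p1⁻¹ * p2⁻¹ * (p1 * p1 * p2) * p2 := by group
      _ = p1 * p2 * (p1 * p2) := by rw [k]; group
      _ = 1 := s0
  have q2 : p2 * p2 = 1 := ((lx wZ').toXS.sq h2.1).resolve_right fun e => np (by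
    rw [← e, eq_inv_of_mul_eq_one_right s3]
    exact inv_mem (mul_mem c1 (mul_mem h1.1 h1.1)))
  rw [q2, mul_one] at s3
  have q1 : p1 * p1 = 1 := s1.resolve_right fun e => np (sym wZ' wZ (by
    rw [← e, eq_inv_of_mul_eq_one_right s3]
    exact inv_mem c2))
  rw [q1, mul_one, mul_inv_eq_one, mul_inv_eq_iff_eq_mul] at s3
  have S1 : Sp A w p1 := ⟨mem_sup_left h1.1, h1.2, q1, e1⟩
  have S2 : Sp A w' p2 := ⟨mem_sup_left h2.1, h2.2, q2, e2⟩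
  have h8 := t5 A w w' p1 p2 hA wA wZ wA' wZ' np S1 S2 s3
  obtain ⟨u, hu, u1⟩ := ((Us A p1 ⊓ Us A p2).bot_or_exists_ne_one).resolve_left fun e => by
    rw [e, card_bot] at h8; omega
  have T1 := t1 A w p1 hA wA wZ S1
  have T2 := t1 A w' p2 hA wA' wZ' S2
  exact ⟨u, T1.2.1 hu.1, (T1.2.2.1 u hu.1 u1).1, mul_mem (mul_mem (T1.2.2.2.1 u hu.1 u1)
    (T2.2.2.2.1 u hu.2 u1)) (mem_sup_right ha)⟩

end Cfsg.Agent.H48.M2
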