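import Cfsg.Agent.H78.McDefs

/-! Project MC, piece IND. -/

set_option autoImplicit false

namespace Cfsg.Agent.H10.McInd

open Subgroup Cfsg.Agent.H78.Mc

universe u

theorem fixp {Q : Type u} [Group Q] [Finite Q] {p : ℕ} [Fact p.Prime] (hQ : IsPGroup p Q)
    (Z : Subgroup Q) [Z.Normal] (Z0 : Z ≠ ⊥) : ∃ x ∈ Z, orderOf x = p ∧ x ∈ center Q := by
  let _ : MulAction Q Z := MulAction.compHom Z (MulAut.conjNormal (H := Z))
  have pZ : IsPGroup p Z := hQ.to_subgroup Z
  have : Nontrivial Z := (nontrivial_iff_ne_bot Z).2 Z0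
  obtain ⟨n, n0, hn⟩ := pZ.nontrivial_iff_card.1 this
  obtain ⟨b, hb, b1⟩ := hQ.exists_fixed_point_of_prime_dvd_card_of_fixed_point Z
    (hn ▸ dvd_pow_self p n0.ne') (a := 1) (fun g => map_one (MulAut.conjNormal g))
  have bc : (b : Q) ∈ center Q := mem_center_iff.2 fun a => by
    have : a * b * a⁻¹ = b := congrArg Subtype.val (hb a)
    exact mul_inv_eq_iff_eq_mul.1 this
  obtain ⟨k, hk⟩ := IsPGroup.iff_orderOf.1 pZ b
  have k0 : k ≠ 0 := fun e => b1 (by rw [e, pow_zero, orderOf_eq_one_iff] at hk; exact hk.symm)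
  have o2 : orderOf (b ^ (orderOf b / p)) = p :=
    orderOf_pow_orderOf_div (orderOf_pos b).ne' (hk ▸ dvd_pow_self p k0)
  exact ⟨(b : Q) ^ (orderOf b / p), pow_mem b.2 _, by rw [← coe_pow, orderOf_coe, o2],
    pow_mem bc _⟩

theorem cen {G : Type u} [Group G] [Finite G] {p : ℕ} [Fact p.Prime] (P : Sylow p G)
    (N : Subgroup G) [N.Normal] (h : p ∣ Nat.card N) :
    ∃ z ∈ (P : Subgroup G), z ∈ N ∧ orderOf z = p ∧ ∀ g ∈ (P : Subgroup G), g * z = z * g := by
  have ne : N.subgroupOf P ≠ ⊥ := fun e => by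
    have h1 : N.relIndex P = Nat.card (P : Subgroup G) := by rw [relIndex, e, index_bot]
    obtain ⟨k, hk⟩ := relIndex_dvd_index_of_normal N (P : Subgroup G)
    have h2 := N.index_mul_card.trans (P : Subgroup G).index_mul_card.symm
    rw [hk, h1, mul_comm (P : Subgroup G).index, mul_assoc] at h2
    exact P.not_dvd_index (Nat.eq_of_mul_eq_mul_left Nat.card_pos h2 ▸ Dvd.dvd.mul_left h k)
  obtain ⟨z, hz, o, c⟩ := fixp P.isPGroup' (N.subgroupOf P) ne
  exact ⟨z, z.2, hz, by rw [orderOf_coe, o], fun g hg =>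
    congrArg Subtype.val (mem_center_iff.1 c ⟨g, hg⟩)⟩

theorem rel {G : Type u} [Group G] [Finite G] (Z S : Subgroup G) (x : G) (hZ : Z ≤ center G)
    (h : ∀ g ∈ S, g * x * g⁻¹ * x⁻¹ ∈ Z) : (centralizer {x}).relIndex S ∣ Nat.card Z := by
  let c : S →* Z := MonoidHom.mk' (fun g => ⟨_, h g g.2⟩) fun a b => Subtype.ext (by
    have e := mem_center_iff.1 (hZ (h b b.2))
    show (a * b : G) * x * (a * b : G)⁻¹ * x⁻¹ = a * x * (a : G)⁻¹ * x⁻¹ * (b * x * (b : G)⁻¹ * x⁻¹)
    calc (a * b : G) * x * (a * b : G)⁻¹ * x⁻¹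
        = a * ((b * x * (b : G)⁻¹ * x⁻¹) * (x * (a : G)⁻¹ * x⁻¹)) := by group
      _ = _ := by rw [← e]; group)
  have : c.ker = (centralizer {x}).subgroupOf S := by
    ext g
    rw [MonoidHom.mem_ker, Subtype.ext_iff, mem_subgroupOf, mem_centralizer_singleton_iff]
    show g * x * (g : G)⁻¹ * x⁻¹ = 1 ↔ _
    rw [mul_inv_eq_one, mul_inv_eq_iff_eq_mul]
  rw [relIndex, ← this, index_ker]
  exact card_subgroup_dvd_card _

theorem step (p : ℕ) [hp : Fact p.Prime] : ∀ (n : ℕ) (G : Type u) [Group G] [Finite G],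
    Nat.card G = n → ∀ (P : Sylow p G) (N : Subgroup G) [N.Normal], ∀ x ∈ (P : Subgroup G),
    Nat.card ↥((P : Subgroup G) ⊓ N ⊓ centralizer {x}) ≤ p →
    ¬ p ^ 2 ∣ Nat.card ↥(N ⊓ centralizer {x}) := by
  intro n
  induction n using Nat.strong_induction_on with
  | _ n ih =>
  intro G _ _ hn P N _ x hx hc hd
  have p1 := hp.out.one_lt
  obtain ⟨z, zP, zN, zo, zc⟩ := cen P N
    ((dvd_pow_self p two_ne_zero).trans (hd.trans (card_dvd_of_le inf_le_left)))
  -- a `p`-subgroup of order at least `p ^ 2` centralising `x` and `z`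
  have zm : z ∈ N ⊓ centralizer {x} := ⟨zN, mem_centralizer_singleton_iff.2 (zc x hx).symm⟩
  have hD : p ^ 2 ∣ Nat.card ↥((centralizer {z}).subgroupOf (N ⊓ centralizer {x})) := by
    have pz : IsPGroup p (zpowers (⟨z, zm⟩ : ↥(N ⊓ centralizer {x}))) :=
      IsPGroup.of_card (n := 1) (by rw [Nat.card_zpowers, ← orderOf_coe, zo, pow_one])
    obtain ⟨D, hD⟩ := pz.exists_le_sylow
    have d2 : p ^ 2 ∣ Nat.card (D : Subgroup ↥(N ⊓ centralizer {x})) := by
      rw [D.card_eq_multiplicity]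
      exact pow_dvd_pow p ((hp.out.pow_dvd_iff_le_factorization Nat.card_pos.ne').1 hd)
    let z' : (D : Subgroup ↥(N ⊓ centralizer {x})) := ⟨⟨z, zm⟩, hD (mem_zpowers _)⟩
    have zo' : orderOf z' = p := by rw [← orderOf_coe, ← orderOf_coe, zo]
    have key : p ^ 2 ∣ Nat.card (centralizer {z'}) := by
      obtain ⟨k, hk⟩ := IsPGroup.iff_card.1 (D.isPGroup'.to_subgroup (centralizer {z'}))
      by_contra h
      have k1 : k ≤ 1 := by
        by_contra h'
        exact h (hk ▸ pow_dvd_pow p (by omega))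
      have e : zpowers z' = centralizer {z'} := eq_of_le_of_card_ge
        (zpowers_le.2 (mem_centralizer_singleton_iff.2 rfl)) (by
          rw [hk, Nat.card_zpowers, zo']
          exact (Nat.pow_le_pow_right p1.le k1).trans (pow_one p).le)
      obtain ⟨w, -, wo, wc⟩ := fixp D.isPGroup' ⊤ (fun e => by
        have : z' ∈ (⊥ : Subgroup _) := e ▸ mem_top _
        rw [mem_bot.1 this, orderOf_one] at zo'; omega)
      have e2 : zpowers w = zpowers z' := eq_of_le_of_card_ge
        (zpowers_le.2 (e ▸ mem_centralizer_singleton_iff.2 (mem_center_iff.1 wc z').symm))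
        (by rw [Nat.card_zpowers, Nat.card_zpowers, wo, zo'])
      have zc' : z' ∈ center _ := (zpowers_le.2 wc) (e2 ▸ mem_zpowers z')
      have : centralizer {z'} = ⊤ := eq_top_iff.2 fun g _ =>
        mem_centralizer_singleton_iff.2 (mem_center_iff.1 zc' g)
      exact h (by rw [this, card_top]; exact d2)
    refine key.trans (card_dvd_of_injective
      (((D : Subgroup _).subtype.comp (centralizer {z'}).subtype).codRestrict _ fun g => ?_) ?_)
    · exact mem_subgroupOf.2 (mem_centralizer_singleton_iff.2 (congrArg (fun t => t.1.1)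
        (mem_centralizer_singleton_iff.1 g.2)))
    · intro a b e
      exact Subtype.ext (Subtype.ext (congrArg Subtype.val e :))
  have PG : (P : Subgroup G) ≤ centralizer {z} := fun g hg =>
    mem_centralizer_singleton_iff.2 (zc g hg)
  let z1 : centralizer ({z} : Set G) := ⟨z, PG zP⟩
  let x1 : centralizer ({z} : Set G) := ⟨x, PG hx⟩
  have Zc : zpowers z1 ≤ center _ := zpowers_le.2 (mem_center_iff.2 fun g =>
    Subtype.ext (mem_centralizer_singleton_iff.1 g.2))
  have nZ : (zpowers z1).Normal := ⟨fun a ha g => by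
    rwa [mem_center_iff.1 (Zc ha) g, mul_inv_cancel_right]⟩
  have cZ : Nat.card (zpowers z1) = p := by rw [Nat.card_zpowers, ← orderOf_coe, zo]
  let π := QuotientGroup.mk' (zpowers z1)
  have sπ := QuotientGroup.mk'_surjective (zpowers z1)
  let Pb := (P.subtype PG).mapSurjective sπ
  let Nb := (N.subgroupOf (centralizer {z})).map π
  have nN : Nb.Normal := Normal.map inferInstance π sπ
  have xb : π x1 ∈ (Pb : Subgroup _) := mem_map_of_mem π hx
  have cc : ∀ S : Subgroup (centralizer ({z} : Set G) ⧸ zpowers z1),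
      Nat.card (S.comap π) = p * Nat.card S := fun S => by
    rw [← cZ]
    exact QuotientGroup.card_preimage_mk (zpowers z1)
      (S : Set (centralizer ({z} : Set G) ⧸ zpowers z1))
  have back : ∀ S : Subgroup G, z ∈ S → ∀ g : centralizer ({z} : Set G),
      π g ∈ (S.subgroupOf (centralizer {z})).map π → (g : G) ∈ S := fun S hS g hg => by
    have : g ∈ ((S.subgroupOf (centralizer {z})).map π).comap π := hg
    rw [comap_map_eq_self (by
      rw [QuotientGroup.ker_mk']; exact zpowers_le.2 hS)] at this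
    exact this
  have rl : ∀ S : Subgroup (centralizer ({z} : Set G) ⧸ zpowers z1), S ≤ centralizer {π x1} →
      (centralizer {x1}).relIndex (S.comap π) ∣ p := fun S hS =>
    cZ ▸ rel (zpowers z1) _ x1 Zc fun g hg => (QuotientGroup.eq_one_iff _).1 (by
      show π _ = 1
      rw [map_mul, map_mul, map_mul, map_inv, map_inv, mem_centralizer_singleton_iff.1 (hS hg)]
      group)
  have b1 : Nat.card ((centralizer {x1}).subgroupOf
      (((Pb : Subgroup _) ⊓ Nb ⊓ centralizer {π x1}).comap π)) ≤ p :=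
    le_trans (Nat.card_le_card_of_injective
      (β := ↥((P : Subgroup G) ⊓ N ⊓ centralizer {x})) (fun g => ⟨g.1.1.1, ⟨back _ zP _ g.1.2.1.1,
      back _ zN _ g.1.2.1.2⟩, mem_centralizer_singleton_iff.2 (congrArg Subtype.val
        (mem_centralizer_singleton_iff.1 (mem_subgroupOf.1 g.2)))⟩)
      fun a b e => Subtype.ext (Subtype.ext (Subtype.ext (congrArg Subtype.val e :)))) hc
  have b2 : p ^ 2 ∣ Nat.card ((centralizer {x1}).subgroupOf ((Nb ⊓ centralizer {π x1}).comap π)) := by
    refine hD.trans (dvd_of_eq (Nat.card_congr ⟨fun g => ⟨⟨⟨g.1.1, g.2⟩, mem_map_of_mem π g.1.2.1,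
      mem_centralizer_singleton_iff.2 ?_⟩, mem_subgroupOf.2 (mem_centralizer_singleton_iff.2
      (Subtype.ext (mem_centralizer_singleton_iff.1 g.1.2.2)))⟩,
      fun g => ⟨⟨g.1.1.1, back _ zN _ g.1.2.1, mem_centralizer_singleton_iff.2 (congrArg Subtype.val
        (mem_centralizer_singleton_iff.1 (mem_subgroupOf.1 g.2)))⟩, g.1.1.2⟩,
      fun _ => rfl, fun _ => rfl⟩))
    rw [← map_mul, ← map_mul]
    exact congrArg π (Subtype.ext (mem_centralizer_singleton_iff.1 g.1.2.2))
  have e1 := ((centralizer {x1}).subgroupOf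
    (((Pb : Subgroup _) ⊓ Nb ⊓ centralizer {π x1}).comap π)).index_mul_card
  have e2 := ((centralizer {x1}).subgroupOf ((Nb ⊓ centralizer {π x1}).comap π)).index_mul_card
  rw [cc] at e1 e2
  rcases (Nat.dvd_prime hp.out).1 (rl (Nb ⊓ centralizer {π x1}) inf_le_right) with r | r
  · have r' : (centralizer {x1}).relIndex
        (((Pb : Subgroup _) ⊓ Nb ⊓ centralizer {π x1}).comap π) = 1 :=
      relIndex_eq_one.2 ((comap_mono (inf_le_inf_right _ inf_le_right)).trans (relIndex_eq_one.1 r))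
    rw [relIndex] at r r'
    rw [r, one_mul] at e2
    rw [r', one_mul] at e1
    rw [e2, pow_two] at b2
    obtain ⟨w, wP, wN, wo, wc⟩ := cen Pb Nb
      ((Nat.dvd_of_mul_dvd_mul_left hp.out.pos b2).trans (card_dvd_of_le inf_le_left))
    have wm : w ∈ (Pb : Subgroup _) ⊓ Nb ⊓ centralizer {π x1} :=
      ⟨⟨wP, wN⟩, mem_centralizer_singleton_iff.2 (wc _ xb).symm⟩
    have := Nat.le_of_dvd Nat.card_pos (Subgroup.orderOf_dvd_natCard _ wm)
    rw [wo] at this
    rw [e1] at b1
    nlinarith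
  · rw [relIndex] at r
    rw [r] at e2
    refine ih _ ?_ _ rfl Pb Nb _ xb ?_ (Nat.eq_of_mul_eq_mul_left hp.out.pos e2 ▸ b2)
    · have h1 := (zpowers z1).index_mul_card
      have h2 : Nat.card (centralizer ({z} : Set G)) ≤ n := hn ▸ card_le_card_group _
      have h3 : 0 < (zpowers z1).index := Nat.pos_of_ne_zero index_ne_zero_of_finite
      rw [cZ] at h1
      show (zpowers z1).index < n
      nlinarith
    · have := Nat.le_of_dvd hp.out.pos (rl ((Pb : Subgroup _) ⊓ Nb ⊓ centralizer {π x1}) inf_le_right)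
      rw [relIndex] at this
      exact Nat.le_of_mul_le_mul_left (e1 ▸ Nat.mul_le_mul this b1) hp.out.pos

theorem ind : IndStmt.{u} := by
  intro G _ _ p hp P N hN hr x hx xN hc
  have p1 := hp.out.one_lt
  have a1 : Nat.card ↥((P : Subgroup G) ⊓ N ⊓ centralizer {x}) ≤ p := by
    have le : (P : Subgroup G) ⊓ N ⊓ centralizer {x} ≤ (P : Subgroup G) ⊓ centralizer {x} :=
      inf_le_inf_right _ inf_le_left
    obtain ⟨k, k2, hk⟩ := (Nat.dvd_prime_pow hp.out).1 (hc ▸ card_dvd_of_le le)
    have : k ≠ 2 := fun e => xN (by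
      have := eq_of_le_of_card_ge le (by rw [hc, hk, e])
      have m : x ∈ (P : Subgroup G) ⊓ N ⊓ centralizer {x} :=
        this ▸ ⟨hx, mem_centralizer_singleton_iff.2 rfl⟩
      exact m.1.2)
    rw [hk]
    exact (Nat.pow_le_pow_right p1.le (by omega : k ≤ 1)).trans (pow_one p).le
  have a2 := step p _ G rfl P N x hx a1
  have a3 : ¬ p ^ 2 ∣ N.index := fun h => by
    have e := (P.mapSurjective (QuotientGroup.mk'_surjective N)).card_eq_multiplicity
    have e' : Nat.card ((P : Subgroup G).map (QuotientGroup.mk' N)) = p := by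
      rw [← relIndex_ker, QuotientGroup.ker_mk', hr]
    have := (hp.out.pow_dvd_iff_le_factorization Nat.card_pos.ne').1 h
    have e3 : p ^ 1 = p ^ (Nat.card (G ⧸ N)).factorization p := by rw [pow_one, ← e]; exact e'.symm
    have := Nat.pow_right_injective p1 e3
    omega
  have a4 : ¬ p ^ 2 ∣ N.relIndex (centralizer {x}) := fun h =>
    a3 (h.trans (relIndex_dvd_index_of_normal _ _))
  have e := (N.subgroupOf (centralizer {x})).index_mul_card
  have e' : Nat.card (N.subgroupOf (centralizer {x})) = Nat.card ↥(N ⊓ centralizer {x}) := by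
    rw [← inf_subgroupOf_right]
    exact Nat.card_congr (subgroupOfEquivOfLe inf_le_right).toEquiv
  have i0 : (N.subgroupOf (centralizer {x})).index ≠ 0 := index_ne_zero_of_finite
  have lo : 2 ≤ (Nat.card (centralizer ({x} : Set G))).factorization p :=
    (hp.out.pow_dvd_iff_le_factorization Nat.card_pos.ne').1 (hc ▸ card_dvd_of_le inf_le_right)
  rw [relIndex, hp.out.pow_dvd_iff_le_factorization i0] at a4
  rw [hp.out.pow_dvd_iff_le_factorization Nat.card_pos.ne', ← e'] at a2
  rw [← e, Nat.factorization_mul i0 Nat.card_pos.ne', Finsupp.add_apply] at lo ⊢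
  omega

end Cfsg.Agent.H10.McInd
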