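import Cfsg.Agent.H89.OlDefs
import Cfsg.Agent.H45.FiGrp2

/-!
# Automorphisms of odd order of small `2`-groups: the pieces `GA0`, `GAI`, `GA3`
-/

set_option autoImplicit false

namespace Cfsg.Agent.H10.OlGa

open Subgroup Cfsg.Agent.H26.K64 Cfsg.Agent.H89.Ol

universe u

/-- **GA0** -/
theorem ga0 : GA0Stmt.{u} := by
  intro A _ _ I hA hc h32 hI
  have : Fact (Nat.Prime 2) := ⟨Nat.prime_two⟩
  let O : Subgroup A :=
    { carrier := {a | a * a = 1}
      one_mem' := mul_one 1
      mul_mem' := fun {a b} ha hb => by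
        change a * b * (a * b) = 1
        rw [(show Commute b a from hc b a).mul_mul_mul_comm, ha, hb, mul_one]
      inv_mem' := fun {a} ha => by
        change a⁻¹ * a⁻¹ = 1
        rw [← mul_inv_rev, ha, inv_one] }
  have hO : ∀ (σ : MulAut A) (a : O), σ a ∈ O := fun σ a => by
    change σ a * σ a = 1
    rw [← map_mul, a.2, map_one]
  let ρ : MulAut A →* MulAut O :=
    { toFun := fun σ =>
        { toFun := fun a => ⟨σ a, hO σ a⟩
          invFun := fun a => ⟨σ⁻¹ a, hO σ⁻¹ a⟩
          left_inv := fun a => Subtype.ext (σ.symm_apply_apply a)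
          right_inv := fun a => Subtype.ext (σ.apply_symm_apply a)
          map_mul' := fun a b => Subtype.ext (map_mul σ a.1 b.1) }
      map_one' := rfl
      map_mul' := fun _ _ => rfl }
  have inj : Function.Injective (ρ.comp I.subtype) := by
    rw [injective_iff_map_eq_one]
    intro σ h
    refine Subtype.ext (eq_one_of_fix_invol hA hc (fun d => hI (d.trans ?_)) fun a ha => ?_)
    · rw [Subgroup.orderOf_coe]
      exact orderOf_dvd_natCard σ
    · exact congrArg Subtype.val (DFunLike.congr_fun h ⟨a, ha⟩)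
  have d := card_dvd_of_injective _ inj
  obtain ⟨n, hn⟩ := (hA.to_subgroup O).exists_card_eq
  rw [H45.card_mulAut_elem Nat.prime_two (fun a b => Subtype.ext (hc a b))
    (fun a => Subtype.ext (by rw [sq]; exact a.2)) hn] at d
  have n5 : n ≤ 5 := by
    have := (card_le_card_group O).trans h32
    rw [hn] at this
    exact (Nat.pow_le_pow_iff_right (by norm_num : 1 < 2)).1 this
  have d2 : Nat.card I ∣ 2 ^ 10 * 9765 := d.trans (by interval_cases n <;> decide)
  exact Nat.Coprime.dvd_of_dvd_mul_left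
    (Nat.Coprime.pow_right _ ((Nat.Prime.coprime_iff_not_dvd Nat.prime_two).2 hI).symm) d2

/-- **GAI** -/
theorem gai : GAIStmt.{u} := by
  intro A _ _ σ r hA hr r2 ho
  have : Fact (Nat.Prime 2) := ⟨Nat.prime_two⟩
  have : Fact r.Prime := ⟨hr⟩
  have hP : IsPGroup r (zpowers σ) := IsPGroup.of_card (n := 1) (by rw [Nat.card_zpowers, ho, pow_one])
  have h1 := hP.card_modEq_card_fixedPoints A
  have e : MulAction.fixedPoints (zpowers σ) A = (fx σ : Set A) := by
    ext a
    refine ⟨fun h => h ⟨σ, mem_zpowers σ⟩, fun h g => ?_⟩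
    exact (zpowers_le.2 (show σ ∈ MulAction.stabilizer (MulAut A) a from h)) g.2
  rw [e] at h1
  change _ ≡ Nat.card (fx σ) [MOD r] at h1
  obtain ⟨n, hn⟩ := hA.exists_card_eq
  obtain ⟨m, hm⟩ := (hA.to_subgroup (fx σ)).exists_card_eq
  have lt : Nat.card (fx σ) < Nat.card A := by
    refine lt_of_le_of_ne (card_le_card_group _) fun h => ?_
    have h2 := eq_top_of_card_eq _ h
    have h3 : σ = 1 := by
      ext a
      exact mem_fx.1 (h2 ▸ mem_top a)
    rw [h3, orderOf_one] at ho
    exact hr.one_lt.ne ho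
  rw [hn, hm] at h1 lt ⊢
  obtain ⟨j, rfl⟩ := Nat.exists_eq_add_of_le ((Nat.pow_lt_pow_iff_right (by norm_num)).1 lt).le
  refine ⟨j, Nat.pos_of_ne_zero fun h => by simp [h] at lt, (pow_add 2 m j).symm, ?_⟩
  rw [pow_add] at h1
  have h4 : 2 ^ j ≡ 1 [MOD r] := Nat.ModEq.cancel_left_of_coprime (c := 2 ^ m)
    (Nat.Coprime.pow_right _ ((Nat.coprime_primes hr Nat.prime_two).2 r2)) (by rwa [mul_one])
  exact Eq.trans h4 (Nat.mod_eq_of_lt hr.one_lt)

/-- **GA3** -/
theorem ga3 : GA3Stmt.{u} := by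
  classical
  intro A _ _ I hA h9
  have := Fintype.ofFinite A
  have : Finite (MulAut A) := Finite.of_injective _ DFunLike.coe_injective
  have := Fintype.ofFinite (MulAut A)
  have p9 : ∀ σ ∈ I, σ ^ 9 = 1 := fun σ hσ => orderOf_dvd_iff_pow_eq_one.1
    ((I.orderOf_dvd_natCard hσ).trans h9)
  have four : ∀ σ ∈ I, σ ≠ 1 → 4 * Nat.card (fx σ) ≤ Nat.card A := fun σ hσ h1 => by
    have k : ∀ τ : MulAut A, τ ≠ 1 → τ ^ 3 = 1 → 4 * Nat.card (fx τ) ≤ Nat.card A := fun τ h1 h3 => by
      have : Fact (Nat.Prime 3) := ⟨Nat.prime_three⟩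
      obtain ⟨j, j0, e, h⟩ := gai A τ 3 hA Nat.prime_three (by norm_num) (orderOf_eq_prime h3 h1)
      have j2 : 2 ≤ j := by
        by_contra hj
        obtain rfl : j = 1 := by omega
        norm_num at h
      rw [← e, mul_comm]
      exact Nat.mul_le_mul_left _ (Nat.pow_le_pow_right (by norm_num : 0 < 2) j2)
    by_cases h3 : σ ^ 3 = 1
    · exact k σ h1 h3
    · refine le_trans (Nat.mul_le_mul_left _ (card_le_of_le fun a ha => ?_))
        (k (σ ^ 3) h3 (by rw [← pow_mul]; exact p9 σ hσ))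
      exact pow_mem (show σ ∈ MulAction.stabilizer (MulAut A) a from ha) 3
  by_contra! h
  obtain ⟨σ0, m0, -, n0⟩ := h 1
  have a4 : 4 ≤ Nat.card A := le_trans (Nat.le_mul_of_pos_right 4 Nat.card_pos) (four σ0 m0 n0)
  have key := Finset.card_mul_le_card_mul (s := (Finset.univ : Finset A).erase 1)
    (t := (Finset.univ.filter (· ∈ I)).erase 1) (m := 2) (n := Nat.card A / 4 - 1)
    (fun u (σ : MulAut A) => σ u = u) (fun u _ => by
      obtain ⟨σ, m, f, n⟩ := h u
      refine Finset.one_lt_card.2 ⟨σ, ?_, σ⁻¹, ?_, fun e => n ?_⟩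
      · simp [m, f, n]
      · have : σ⁻¹ u = u := inv_mem (show σ ∈ MulAction.stabilizer (MulAut A) u from f)
        simp only [Finset.mem_bipartiteAbove, Finset.mem_erase, Finset.mem_filter, Finset.mem_univ,
          inv_mem_iff, m, this, and_true]
        exact inv_ne_one.2 n
      · have e2 : σ ^ 2 = 1 := by rw [sq]; nth_rw 1 [e]; exact inv_mul_cancel σ
        rw [← p9 σ m, show 9 = 2 * 4 + 1 from rfl, pow_succ, pow_mul, e2, one_pow, one_mul])
    fun σ hσ => by
      simp only [Finset.mem_erase, Finset.mem_filter, Finset.mem_univ, true_and] at hσ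
      have h1 := four σ hσ.2 hσ.1
      have h2 : ((Finset.univ : Finset A).erase 1).bipartiteBelow
          (fun u (σ : MulAut A) => σ u = u) σ = (Finset.univ.filter (· ∈ fx σ)).erase 1 := by
        ext a
        simp [mem_fx]
      rw [h2, Finset.card_erase_of_mem (by simp [one_mem]), ← Fintype.card_subtype,
        ← Nat.card_eq_fintype_card]
      omega
  rw [Finset.card_erase_of_mem (Finset.mem_univ _), Finset.card_erase_of_mem (by simp [one_mem]),
    Finset.card_univ, ← Fintype.card_subtype, ← Nat.card_eq_fintype_card,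
    ← Nat.card_eq_fintype_card] at key
  have h8 : Nat.card I - 1 ≤ 8 := by have := Nat.le_of_dvd (by norm_num) h9; omega
  have := key.trans (Nat.mul_le_mul_right _ h8)
  omega

end Cfsg.Agent.H10.OlGa
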