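import Cfsg.Agent.H42.PcDefs

/-! Project PC, piece W: a chief factor at the top of a normal `2`-subgroup. -/

set_option autoImplicit false

namespace Cfsg.Agent.H10.PcW

open Subgroup Cfsg.Agent.H42.Pc

universe u

theorem fixp {Q : Type u} [Group Q] [Finite Q] (U Z : Subgroup Q) [hZ : Z.Normal]
    (pU : IsPGroup 2 U) (ZU : Z ≤ U) (Z0 : Z ≠ ⊥) :
    ∃ x ∈ Z, x ≠ 1 ∧ x ∈ centralizer (U : Set Q) ∧ x * x = 1 := by
  let _ : MulAction U Z := MulAction.compHom Z ((MulAut.conjNormal (H := Z)).comp U.subtype)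
  have pZ : IsPGroup 2 Z := pU.to_le ZU
  have : Nontrivial Z := (nontrivial_iff_ne_bot Z).2 Z0
  obtain ⟨n, n0, hn⟩ := pZ.nontrivial_iff_card.1 this
  obtain ⟨b, hb, b1⟩ := pU.exists_fixed_point_of_prime_dvd_card_of_fixed_point Z
    (hn ▸ dvd_pow_self 2 n0.ne') (a := 1) (fun g => map_one (MulAut.conjNormal (g : Q)))
  have bc : (b : Q) ∈ centralizer (U : Set Q) := fun a ha => by
    have : a * b * a⁻¹ = b := congrArg Subtype.val (hb ⟨a, ha⟩)
    exact mul_inv_eq_iff_eq_mul.1 this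
  obtain ⟨k, hk⟩ := IsPGroup.iff_orderOf.1 pZ b
  have k0 : k ≠ 0 := fun e => b1 (by rw [e, pow_zero, orderOf_eq_one_iff] at hk; exact hk.symm)
  have o2 : orderOf (b ^ (orderOf b / 2)) = 2 :=
    orderOf_pow_orderOf_div (orderOf_pos b).ne' (hk ▸ dvd_pow_self 2 k0)
  refine ⟨(b : Q) ^ (orderOf b / 2), pow_mem b.2 _, fun e => ?_, pow_mem bc _, ?_⟩
  · rw [show b ^ (orderOf b / 2) = 1 from Subtype.ext e, orderOf_one] at o2
    omega
  · have := pow_orderOf_eq_one (b ^ (orderOf b / 2))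
    rw [o2, pow_two] at this
    exact congrArg Subtype.val this

theorem ww : WStmt.{u} := by
  intro G _ _ U Z hU hZ pU ZU Z0
  obtain ⟨W, ⟨nW, WZ, ZW⟩, mx⟩ := (wellFounded_gt (α := Subgroup G)).has_min
    {W | W.Normal ∧ W ≤ Z ∧ ¬ Z ≤ W} ⟨⊥, inferInstance, bot_le, fun h => Z0 (le_bot_iff.1 h)⟩
  refine ⟨W, nW, WZ, ZW, ?_⟩
  let π := QuotientGroup.mk' W
  have sπ := QuotientGroup.mk'_surjective W
  have nU : (U.map π).Normal := hU.map π sπ
  have nZ : (Z.map π).Normal := hZ.map π sπ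
  have one : ∀ g : G, π g = 1 ↔ g ∈ W := fun g => QuotientGroup.eq_one_iff g
  let D : Subgroup (G ⧸ W) :=
    { carrier := {x | x ∈ Z.map π ∧ x ∈ centralizer (U.map π : Set (G ⧸ W)) ∧ x * x = 1}
      one_mem' := ⟨one_mem _, one_mem _, one_mul _⟩
      mul_mem' := fun {a b} ha hb => ⟨mul_mem ha.1 hb.1, mul_mem ha.2.1 hb.2.1, by
        rw [show a * b * (a * b) = a * (b * a) * b by group, ha.2.1 b (map_mono ZU hb.1),
          show a * (a * b) * b = a * a * (b * b) by group, ha.2.2, hb.2.2, one_mul]⟩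
      inv_mem' := fun {a} ha => ⟨inv_mem ha.1, inv_mem ha.2.1, by
        rw [← mul_inv_rev, ha.2.2, inv_one]⟩ }
  have nD : D.Normal := ⟨fun a ha g => ⟨nZ.conj_mem _ ha.1 g,
    (normal_centralizer (H := U.map π)).conj_mem _ ha.2.1 g, by
      rw [show g * a * g⁻¹ * (g * a * g⁻¹) = g * (a * a) * g⁻¹ by group, ha.2.2]; group⟩⟩
  obtain ⟨_, ⟨x, hx, rfl⟩, x1, xc⟩ := fixp (U.map π) (Z.map π) (pU.map π) (map_mono ZU)
    fun e => ZW fun z hz => (one z).1 (mem_bot.1 (e ▸ mem_map_of_mem π hz))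
  have ZD : Z ≤ D.comap π := by
    by_contra h
    refine mx (D.comap π) ⟨nD.comap π, fun g hg => ?_, h⟩ (lt_of_le_of_ne (fun g hg => ?_) fun e => ?_)
    · obtain ⟨z, hz, e⟩ := hg.1
      have : z⁻¹ * g ∈ W := (one _).1 (by rw [map_mul, map_inv, e, inv_mul_cancel])
      have := mul_mem hz (WZ this)
      rwa [mul_inv_cancel_left] at this
    · show π g ∈ D
      rw [(one g).2 hg]; exact one_mem _
    · exact x1 ((one x).2 (e ▸ (show x ∈ D.comap π from ⟨mem_map_of_mem π hx, xc⟩)))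
  intro z hz
  obtain ⟨-, c, q⟩ := ZD hz
  refine ⟨(one _).1 (by rw [map_mul]; exact q), fun a ha => (one _).1 ?_⟩
  rw [map_mul, map_mul, map_mul, map_inv, map_inv, c _ (mem_map_of_mem π ha)]
  group

end Cfsg.Agent.H10.PcW
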