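import Cfsg.Agent.H58.Q4K

/-! Project Q4, piece F6N: the normal complement in the three-point stabiliser. -/

set_option autoImplicit false

namespace Cfsg.Agent.H10.Q4N

open Subgroup Cfsg.Agent.H58.Q4
open scoped commutatorElement

universe u

/-- Burnside's transfer theorem, elementwise. -/
theorem burn {X : Type u} [Group X] [Finite X] {p : ℕ} [hp : Fact p.Prime] (P : Sylow p X)
    (h : normalizer (P : Set X) ≤ centralizer (P : Set X)) :
    ∃ O : Subgroup X, (∀ g, g ∈ O ↔ (orderOf g).Coprime p) ∧ ∀ g, ∃ o ∈ O, ∃ r ∈ P, g = o * r := by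
  refine ⟨(MonoidHom.transferSylow P h).ker, fun g => ⟨fun hg => ?_, fun hg => ?_⟩, fun g => ?_⟩
  · exact Nat.Coprime.coprime_dvd_left (orderOf_dvd_natCard _ hg)
      ((Nat.Prime.coprime_iff_not_dvd hp.out).2 (MonoidHom.not_dvd_card_ker_transferSylow P h)).symm
  · obtain ⟨n, hn⟩ := IsPGroup.iff_orderOf.1 P.2 (MonoidHom.transferSylow P h g)
    rw [MonoidHom.mem_ker, ← orderOf_eq_one_iff]
    exact Nat.eq_one_of_dvd_coprimes (hg.pow_right n) (orderOf_map_dvd _ g) (hn ▸ dvd_rfl)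
  · obtain ⟨⟨a, b⟩, e, -⟩ := (MonoidHom.ker_transferSylow_isComplement' P h).existsUnique g
    exact ⟨a, a.2, b, b.2, e.symm⟩

theorem comm_of_zpowers {Q : Type u} [Group Q] {a : Q} (h : ∀ g, g * a * g⁻¹ ∈ zpowers a) :
    ⁅(⊤ : Subgroup Q), ⊤⁆ ≤ centralizer {a} := by
  refine commutator_le.2 fun g _ k _ => ?_
  obtain ⟨i, hi⟩ := h g⁻¹
  obtain ⟨j, hj⟩ := h k⁻¹
  simp only at hi hj
  have e : (g * k)⁻¹ * a * (g * k) = (k * g)⁻¹ * a * (k * g) := by
    calc (g * k)⁻¹ * a * (g * k) = k⁻¹ * (g⁻¹ * a * g⁻¹⁻¹) * k⁻¹⁻¹ := by group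
      _ = a ^ (j * i) := by rw [← hi, ← conj_zpow, ← hj, zpow_mul]
      _ = g⁻¹ * (k⁻¹ * a * k⁻¹⁻¹) * g⁻¹⁻¹ := by rw [← hj, ← conj_zpow, ← hi, mul_comm, zpow_mul]
      _ = _ := by group
  rw [mem_centralizer_singleton_iff, commutatorElement_def]
  calc g * k * g⁻¹ * k⁻¹ * a = (g * k) * ((k * g)⁻¹ * a * (k * g)) * (k * g)⁻¹ := by group
    _ = a * (g * k * g⁻¹ * k⁻¹) := by rw [← e]; group

/-- A group that is perfect modulo the normal `Z`-group `C` centralizes the `p`-quotient of `C`, where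
`p` is the smallest prime divisor of the order of `C`. -/
theorem central {X : Type u} [Group X] [Finite X] (C : Subgroup X) [hC : C.Normal] [IsZGroup C] {p : ℕ}
    [Fact p.Prime] (hp : (Nat.card C).minFac = p) (hperf : ⊤ ≤ ⁅(⊤ : Subgroup X), ⊤⁆ ⊔ C) :
    ∃ (Q : Type u) (_ : Group Q) (π : X →* Q), (∀ g, π g = 1 → (orderOf g).Coprime p) ∧
      ∀ x ∈ C, ∀ g, Commute (π x) (π g) := by
  obtain ⟨R⟩ : Nonempty (Sylow p C) := inferInstance
  have cyc : IsCyclic R := inferInstance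
  obtain ⟨O, h1, h2⟩ := burn R (cyc.normalizer_le_centralizer hp)
  have mem : ∀ g, g ∈ O.map C.subtype ↔ g ∈ C ∧ (orderOf g).Coprime p := fun g =>
    ⟨fun ⟨x, hx, e⟩ => e ▸ ⟨x.2, by simpa using (h1 x).1 hx⟩,
      fun h => ⟨⟨g, h.1⟩, (h1 _).2 (by simpa using h.2), rfl⟩⟩
  have : (O.map C.subtype).Normal := ⟨fun x hx g => (mem _).2
    ⟨hC.conj_mem x ((mem x).1 hx).1 g, by rw [orderOf_conj']; exact ((mem x).1 hx).2⟩⟩
  let π := QuotientGroup.mk' (O.map C.subtype)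
  obtain ⟨a, ha⟩ := cyc.exists_generator
  have gen : ∀ x ∈ C, π x ∈ zpowers (π a.1.1) := fun x hx => by
    obtain ⟨o, ho, r, hr, e⟩ := h2 ⟨x, hx⟩
    obtain ⟨i, hi⟩ := ha ⟨r, hr⟩
    have e1 : x = o.1 * r.1 := congrArg Subtype.val e
    have e2 : a.1.1 ^ i = r.1 := congrArg (fun z : R => z.1.1) hi
    have e3 : π o.1 = 1 := (QuotientGroup.eq_one_iff _).2 ⟨o, ho, rfl⟩
    exact ⟨i, by simp only [e1, ← e2, map_mul, e3, one_mul, map_zpow]⟩
  have cm := comm_of_zpowers (a := π a.1.1) fun g => by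
    obtain ⟨g, rfl⟩ := QuotientGroup.mk'_surjective _ g
    have := gen _ (hC.conj_mem _ a.1.2 g)
    simpa only [map_mul, map_inv] using this
  have all : (⊤ : Subgroup X) ≤ (centralizer {π a.1.1}).comap π := hperf.trans (sup_le
    (by
      rw [← map_le_iff_le_comap, map_commutator]
      exact (commutator_mono le_top le_top).trans cm)
    fun x hx => by
      obtain ⟨i, hi⟩ := gen x hx
      rw [mem_comap, ← hi, mem_centralizer_singleton_iff]
      exact ((Commute.refl _).zpow_left i).eq)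
  refine ⟨_, inferInstance, π, fun g hg => ((mem g).1 ((QuotientGroup.eq_one_iff _).1 hg)).2,
    fun x hx g => ?_⟩
  obtain ⟨i, hi⟩ := gen x hx
  rw [← hi]
  exact (Commute.symm (mem_centralizer_singleton_iff.1 (all (mem_top g)))).zpow_left i

theorem commute_of_index {X Q : Type u} [Group X] [Group Q] (π : X →* Q) (C D : Subgroup X) [C.Normal]
    (h3 : C.relIndex D = 3) (hc : ∀ x ∈ C, ∀ g, Commute (π x) (π g)) :
    ∀ a ∈ D, ∀ b ∈ D, Commute (π a) (π b) := by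
  have : Fact (Nat.Prime 3) := ⟨Nat.prime_three⟩
  have cyc : IsCyclic (D ⧸ C.subgroupOf D) := isCyclic_of_prime_card (p := 3) h3
  obtain ⟨g, hg⟩ := cyc.exists_generator
  obtain ⟨g, rfl⟩ := QuotientGroup.mk_surjective g
  have dec : ∀ a ∈ D, ∃ i : ℤ, ∃ x ∈ C, a = g.1 ^ i * x := fun a ha => by
    obtain ⟨i, hi⟩ := hg (QuotientGroup.mk ⟨a, ha⟩)
    simp only at hi
    rw [← QuotientGroup.mk_zpow, QuotientGroup.eq, mem_subgroupOf] at hi
    exact ⟨i, _, hi, by simp⟩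
  intro a ha b hb
  obtain ⟨i, x, hx, rfl⟩ := dec a ha
  obtain ⟨j, y, hy, rfl⟩ := dec b hb
  refine Commute.symm ?_
  rw [map_mul]
  refine Commute.mul_left ?_ (hc y hy _)
  rw [map_mul, map_zpow, map_zpow]
  exact Commute.mul_right (Commute.zpow_zpow_self _ _ _) (by rw [← map_zpow]; exact (hc x hx _).symm)

/-- the normal complement -/
theorem compl {G : Type u} [Group G] [Finite G] {p : ℕ} [hp : Fact p.Prime] (Y D : Subgroup G) (s : G)
    (hsY : s ∈ Y) (hsD : s ∈ D) (hs : IsPGroup p (zpowers s))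
    (h1 : ∀ g ∈ Y, g * s * g⁻¹ ∈ D → g ∈ D)
    (h2 : ∀ a ∈ D, ∀ b ∈ D, a ∈ Y → b ∈ Y → (orderOf ⁅a, b⁆).Coprime p) :
    ∃ O ≤ Y, ∀ g ∈ Y, g ∈ O ↔ (orderOf g).Coprime p := by
  have hs' : IsPGroup p (zpowers (⟨s, hsY⟩ : Y)) := by
    obtain ⟨n, hn⟩ := hs ⟨s, mem_zpowers s⟩
    exact H90.isPGroup_zpowers (k := n) (Subtype.ext (congrArg (fun z : zpowers s => z.1) hn))
  obtain ⟨P, hP⟩ := hs'.exists_le_sylow
  have sP : (⟨s, hsY⟩ : Y) ∈ P := hP (mem_zpowers _)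
  have PD : ∀ x ∈ P, x.1 ∈ D := by
    have nil : Group.IsNilpotent P := P.2.isNilpotent
    let S : Subgroup P := D.comap (Y.subtype.comp P.1.subtype)
    have : S = ⊤ := by
      by_contra hne
      obtain ⟨x, hx, hx'⟩ := SetLike.exists_of_lt
        (Group.normalizerCondition_of_isNilpotent S (lt_top_iff_ne_top.2 hne))
      exact hx' (h1 _ x.1.2 ((mem_normalizer_iff.1 hx ⟨_, sP⟩).1 hsD))
    intro x hx
    have : (⟨x, hx⟩ : P) ∈ S := this ▸ mem_top _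
    exact this
  obtain ⟨O, hO, -⟩ := burn P fun g hg => mem_centralizer_iff.2 fun x hx => by
    have gD : g.1 ∈ D := h1 _ g.2 (PD _ ((mem_normalizer_iff.1 hg _).1 sP))
    have m : ⁅g, x⁆ ∈ P := P.1.mul_mem ((mem_normalizer_iff.1 hg x).1 hx) (P.1.inv_mem hx)
    obtain ⟨n, hn⟩ := IsPGroup.iff_orderOf.1 P.2 ⟨_, m⟩
    have c := h2 _ gD _ (PD x hx) g.2 x.2
    have e : orderOf ⁅g.1, x.1⁆ = p ^ n := by
      rw [← hn, orderOf_mk, ← orderOf_coe]; rfl
    rw [e] at c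
    have : orderOf ⁅g.1, x.1⁆ = 1 := by
      rw [e]; exact Nat.eq_one_of_dvd_coprimes (c.pow_right n) dvd_rfl dvd_rfl
    exact Subtype.ext (commutatorElement_eq_one_iff_mul_comm.1 (orderOf_eq_one_iff.1 this)).symm
  refine ⟨O.map Y.subtype, map_subtype_le _, fun g hg => ⟨?_, fun h => ⟨⟨g, hg⟩, (hO _).2 ?_, rfl⟩⟩⟩
  · rintro ⟨x, hx, rfl⟩
    simpa using (hO x).1 hx
  · simpa using h

theorem f6n (hC : CfStmt.{u}) (hO : OrdStmt.{u}) (hR : F6rStmt.{u}) :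
    F6nStmt.{u} := by
  intro G Ω _ _ _ _ K P hE F hF T hT hT3 c hc hcK ho h6
  have fr := hE.fr F hF
  have pr : (orderOf c).Prime := ho ▸ Nat.minFac_prime fun h1 =>
    fr.ne_top (le_antisymm fr.le (relIndex_eq_one.1 h1))
  have : Fact (orderOf c).Prime := ⟨pr⟩
  obtain ⟨hl, h2, -, h4⟩ := hC G Ω K P hE F hF c hc hcK pr
  have FΦ : F ⊆ F1 Ω c := fun x hx => mem_St.1 hc x hx
  obtain ⟨-, cp, -⟩ := h2 F FΦ hF
  have NC := h4 ho h6.ge
  have crd := hO G Ω _ _ hl.inv hl.tr F FΦ hF T hT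
  have cN : c ∈ Nm (zpowers c) := le_normalizer (mem_zpowers c)
  have nm : ∀ g : G, g * c * g⁻¹ ∈ zpowers c → g ∈ Nm (zpowers c) := fun g hg =>
    mem_Nm_of_finite fun _ ⟨i, hi⟩ => by
      rw [← hi, ← conj_zpow]; exact zpow_mem hg i
  have hR' := hR G Ω K P hE F hF T hT hT3 c hc hcK
  obtain ⟨-, cp2, cp3, -, cp5, -⟩ := cp
  have sh := hl.sharp (by omega) F FΦ hF
  have pf := hl.perf h6.ge
  have iv := hl.inv
  generalize Nm (zpowers c) = N at *
  rw [h6, hT3, show Nat.descFactorial (6 - 3) (4 - 3) = 3 from rfl] at crd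
  have eC : N ⊓ St G (F1 Ω c) = N ⊓ St G F :=
    le_antisymm (inf_le_inf_left _ (St_anti FΦ)) (le_inf inf_le_left sh)
  have CD : N ⊓ St G F ≤ N ⊓ St G T := inf_le_inf_left _ (St_anti hT)
  have nrm : ((N ⊓ St G F).subgroupOf N).Normal := ⟨fun x hx g => by
    rw [← eC, mem_subgroupOf] at hx ⊢
    refine ⟨(g * x * g⁻¹).2, mem_St.2 fun y hy => ?_⟩
    change (g.1 * x.1 * g.1⁻¹) • y = y
    rw [mul_smul, mul_smul, mem_St.1 hx.2 _ (iv _ (inv_mem g.2) y hy), smul_inv_smul]⟩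
  let e := subgroupOfEquivOfLe (show N ⊓ St G F ≤ N from inf_le_left)
  have zg : IsZGroup ((N ⊓ St G F).subgroupOf N) := IsZGroup.of_injective (f := e.toMonoidHom) e.injective
  have ix : ((N ⊓ St G F).subgroupOf N).relIndex ((N ⊓ St G T).subgroupOf N) = 3 := by
    rw [relIndex_subgroupOf inf_le_left]
    have := ((N ⊓ St G F).subgroupOf (N ⊓ St G T)).index_mul_card
    rw [Nat.card_congr (subgroupOfEquivOfLe CD).toEquiv, crd] at this
    exact Nat.eq_of_mul_eq_mul_right Nat.card_pos this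
  obtain ⟨Q, _, π, k1, k2⟩ := central ((N ⊓ St G F).subgroupOf N) (p := orderOf c)
    (by rw [Nat.card_congr e.toEquiv, cp2, ho]) (by
      rw [← map_le_map_iff_of_injective N.subtype_injective, Subgroup.map_sup, map_commutator,
        ← MonoidHom.range_eq_map, range_subtype, subgroupOf_map_subtype, inf_of_le_left inf_le_left,
        ← eC]
      exact pf)
  have cm := commute_of_index π _ _ ix k2
  have cube : ∀ a ∈ N ⊓ St G T, a ^ 3 ∈ N ⊓ St G F := fun a ha => by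
    have := pow_relIndex_mem ((N ⊓ St G F).subgroupOf N) (K := (N ⊓ St G T).subgroupOf N)
      (g := ⟨a, ha.1⟩) ha
    rwa [ix] at this
  have key : ∀ s ∈ N ⊓ St G T, IsPGroup (orderOf c) (zpowers s) →
      (∀ g ∈ St G T, g * s * g⁻¹ ∈ N ⊓ St G T → g * c * g⁻¹ ∈ zpowers c) →
      ∃ Y ≤ St G T, ∀ g ∈ St G T, g ∈ Y ↔ (orderOf g).Coprime (orderOf c) := fun s hs h1 h2 =>
    compl _ (N ⊓ St G T) s hs.2 hs h1 (fun g hg k => ⟨nm g (h2 g hg k), hg⟩) fun a ha b hb _ _ => by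
      have := k1 ⁅(⟨a, ha.1⟩ : N), ⟨b, hb.1⟩⁆ (by
        rw [map_commutatorElement]
        exact commutatorElement_eq_one_iff_commute.2 (cm _ ha _ hb))
      rwa [← orderOf_coe] at this
  have key2 : ∀ s ∈ N ⊓ St G F, IsPGroup (orderOf c) (zpowers s) → c ∈ zpowers (s ^ 3) →
      ∃ Y ≤ St G T, ∀ g ∈ St G T, g ∈ Y ↔ (orderOf g).Coprime (orderOf c) := fun s hs h1 ⟨i, hi⟩ =>
    key s (CD hs) h1 fun g _ k => cp5 _
      (by rw [← hi, ← conj_zpow, ← conj_pow]; exact zpow_mem (cube _ k) i)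
      (by rw [conj_pow, pow_orderOf_eq_one, mul_one, mul_inv_cancel])
  have pc : ∀ m : ℕ, IsPGroup (orderOf c) (zpowers (c ^ m)) := fun m =>
    H90.isPGroup_zpowers (k := 1) (by rw [pow_one, ← pow_mul, mul_comm, pow_mul, pow_orderOf_eq_one, one_pow])
  by_cases h3 : orderOf c = 3
  · by_cases h9 : 9 ∣ (K F).relIndex (St G F)
    · rw [← cp2] at h9
      have : Fact (Nat.Prime 3) := ⟨Nat.prime_three⟩
      obtain ⟨U, hU⟩ := Sylow.exists_subgroup_card_pow_prime (G := ↥(N ⊓ St G F)) 3 (n := 2) h9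
      have cyc : IsCyclic U := (IsPGroup.of_card hU).isCyclic_of_isZGroup
      obtain ⟨a, ha⟩ := cyc.exists_ofOrder_eq_natCard
      rw [hU, ← orderOf_coe, ← orderOf_coe] at ha
      have o3 : orderOf (a.1.1 ^ 3) = 3 := by rw [orderOf_pow' _ three_ne_zero, ha]; rfl
      have m := cp5 _ (pow_mem a.1.2 3) (by rw [h3.trans o3.symm, pow_orderOf_eq_one])
      have := eq_of_le_of_card_ge (zpowers_le.2 m) (by rw [Nat.card_zpowers, Nat.card_zpowers, o3, h3])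
      exact key2 _ a.1.2 (H90.isPGroup_zpowers (k := 2) (by rw [h3, ← ha, pow_orderOf_eq_one]))
        (this ▸ mem_zpowers c)
    · exact key c (CD ⟨cN, hc⟩) (H90.isPGroup_zpowers (k := 1) (by rw [pow_one, pow_orderOf_eq_one])) fun g _ k =>
        hR' h3 h6 h9 _ ⟨NC k.1, k.2⟩ (isConj_iff.2 ⟨g, rfl⟩)
  · obtain ⟨m, hm⟩ := exists_pow_eq_self_of_coprime (x := c) (n := 3)
      ((Nat.coprime_primes Nat.prime_three pr).2 (Ne.symm h3))
    exact key2 (c ^ m) (pow_mem (mem_inf.2 ⟨cN, hc⟩) m) (pc m)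
      (by rw [← pow_mul, mul_comm, pow_mul, hm]; exact mem_zpowers c)

end Cfsg.Agent.H10.Q4N
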