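import Cfsg.Agent.H58.Q4K

/-! Project Q4, piece K7D: the degree is `23`. -/

set_option autoImplicit false

namespace Cfsg.Agent.H10.Q4D

open Subgroup Equiv Function Cfsg.Agent.H58.Q4
open scoped commutatorElement Pointwise

universe u

theorem ncard_setOf {α : Type*} [Fintype α] (p : α → Prop) [DecidablePred p] :
    {a | p a}.ncard = (Finset.univ.filter p).card := by
  rw [← Set.ncard_coe_finset]; congr 1; ext; simp

theorem fib {α β : Type*} [Finite α] [Finite β] (s : Set α) (t : Set β) (R : α → β → Prop) (k : ℕ)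
    (h1 : ∀ a ∈ s, ∃ b ∈ t, R a b) (h2 : ∀ b ∈ t, {a | a ∈ s ∧ R a b}.ncard ≤ k) :
    s.ncard ≤ k * t.ncard := by
  classical
  rcases s.eq_empty_or_nonempty with rfl | ⟨a0, h0⟩
  · simp
  have : Nonempty β := ⟨(h1 a0 h0).choose⟩
  choose! f f1 f2 using h1
  rw [Set.ncard_eq_toFinset_card s, Set.ncard_eq_toFinset_card t]
  refine Finset.card_le_mul_card_image_of_maps_to (f := f) (fun a ha => by simpa using f1 a (by simpa using ha))
    k fun b hb => le_trans ?_ (h2 b (by simpa using hb))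
  rw [← Set.ncard_coe_finset]
  refine Set.ncard_le_ncard (fun a ha => ?_)
  simp only [Finset.coe_filter, Set.Finite.mem_toFinset, Set.mem_ofPred_eq] at ha
  exact ⟨ha.1, ha.2 ▸ f2 a ha.1⟩

set_option maxRecDepth 100000 in
theorem c15 : {σ : Perm (Fin 7) | σ 0 = 0 ∧ σ 1 = 1 ∧ (∀ i, σ (σ i) = i) ∧
    (Finset.univ.filter fun i => σ i = i).card = 3}.ncard = 15 := by
  rw [ncard_setOf]
  decide +kernel

theorem k7d (hO : OrdStmt.{u}) (hB : BlkStmt.{u}) (hA : K7aStmt.{u}) : K7dStmt.{u} := by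
  intro G Ω _ _ _ _ K P hE h7 hQ hP
  classical
  have e0 : Fx Ω (⊥ : Subgroup G) = Set.univ :=
    Set.eq_univ_of_forall fun x g hg => by rw [mem_bot.1 hg, one_smul]
  have big : 7 < Nat.card Ω := by have := hQ.big; rwa [e0, Set.ncard_univ] at this
  have le7 : ∀ w : G, w ≠ 1 → Tw w → (F1 Ω w).ncard ≤ 7 := fun w h1 h2 => by
    by_contra h
    have := hQ.max _ h2.isPGroup (by rw [Fx_zpowers]; omega)
    rw [card_bot, Nat.card_zpowers] at this
    exact h1 (orderOf_eq_one_iff.1 (le_antisymm this (orderOf_pos w)))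
  obtain ⟨F, -, hF⟩ := Set.exists_subset_card_eq (s := (Set.univ : Set Ω)) (n := 4)
    (by rw [Set.ncard_univ]; omega)
  obtain ⟨p2, -, FB, hl, -, HN, -, nm, -, same, -⟩ := hB G Ω K P hE F hF
  have m7 := hA G Ω K P hE h7 F hF
  obtain ⟨c16, st⟩ := hP F hF
  have b7 := h7 F hF
  -- divisibility
  have d20 : 20 ∣ (Nat.card Ω - 2) * (Nat.card Ω - 3) := by
    obtain ⟨S, SF, hS⟩ := Set.exists_subset_card_eq (s := F) (n := 2) (by omega)
    have k1 := hO G Ω _ _ hl.inv hl.tr F FB hF S SF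
    have k2 := hO G Ω ⊤ Set.univ (fun _ _ _ _ => trivial) hE.tr F (Set.subset_univ _) hF S SF
    rw [b7, hS, inf_of_le_right HN] at k1
    rw [Set.ncard_univ, hS, top_inf_eq, top_inf_eq] at k2
    have := card_dvd_of_le (show Nm (P F) ⊓ St G S ≤ St G S from inf_le_right)
    rw [k1, k2, Nat.mul_dvd_mul_iff_right Nat.card_pos] at this
    simpa [Nat.descFactorial, mul_comm, Nat.sub_sub] using this
  have fz : ∀ z ∈ P F, z ≠ 1 → F1 Ω z = Fx Ω (P F) := fun z hz h1 =>
    (Set.eq_of_subset_of_ncard_le (show Fx Ω (P F) ⊆ F1 Ω z from fun x hx => hx z hz) (b7 ▸ le7 z h1 (Tw.of_mem p2 hz))).symm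
  generalize hBB : Fx Ω (P F) = B at *
  have cc := Set.ncard_add_ncard_compl B
  have d16 : 16 ∣ Bᶜ.ncard := c16 ▸ card_dvd_of_semi
    (fun r hr x hx h => hx (by
      have := smul_mem_Fx (le_normalizer (inv_mem hr)) (hBB ▸ h : r • x ∈ Fx Ω (P F))
      rwa [inv_smul_smul, hBB] at this))
    fun r hr x hx h => by_contra fun h1 => hx (fz r hr h1 ▸ h)
  let q := Finite.equivFinOfCardEq (α := B) (n := 7) b7
  let e : Fin 7 → Ω := fun i => q.symm i
  have ei : Injective e := Subtype.val_injective.comp q.symm.injective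
  have er : Set.range e = B := by
    ext x
    exact ⟨fun ⟨i, h⟩ => h ▸ (q.symm i).2, fun h => ⟨q ⟨x, h⟩, by simp [e]⟩⟩
  have eB : ∀ i, e i ∈ B := fun i => er ▸ Set.mem_range_self i
  obtain ⟨ρ, hρ, -⟩ := hl.co 7 e ei er
  clear_value e
  let W : Set G := {w | w ∈ Nm (P F) ∧ w * w = 1 ∧ w ≠ 1 ∧ w • e 0 = e 0 ∧ w • e 1 = e 1 ∧
    (F1 Ω w ∩ B).ncard = 3}
  have c4 : ∀ w ∈ W, Nat.card ↥(P F ⊓ Ce w) = 4 := fun w hw => by
    have := (m7.half w hw.1 (Tw.of_sq hw.2.1) (hBB ▸ hw.2.2.2.2.2)).1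
    rw [c16] at this
    exact Nat.pow_left_injective two_ne_zero this
  have w60 : W.ncard ≤ 4 * 15 := by
    rw [← c15]
    refine fib W _ (fun w σ => ∀ i, w • e i = e (σ i)) 4 (fun w hw => ?_) fun σ _ => ?_
    · have k := hρ ⟨w, hw.1⟩
      refine ⟨ρ ⟨w, hw.1⟩, ⟨ei ((k 0).symm.trans hw.2.2.2.1), ei ((k 1).symm.trans hw.2.2.2.2.1),
        fun i => ei ?_, ?_⟩, k⟩
      · rw [← k, ← k, ← mul_smul, hw.2.1, one_smul]
      · rw [← ncard_setOf, ← Set.ncard_image_of_injective _ ei]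
        refine Eq.trans ?_ hw.2.2.2.2.2
        congr 1
        ext x
        constructor
        · rintro ⟨i, hi, rfl⟩
          exact ⟨(k i).trans (congrArg e hi), eB i⟩
        · rintro ⟨h1, h2⟩
          obtain ⟨i, rfl⟩ : x ∈ Set.range e := er ▸ h2
          exact ⟨i, ei ((k i).symm.trans h1), rfl⟩
    · rcases Set.eq_empty_or_nonempty {w | w ∈ W ∧ ∀ i, w • e i = e (σ i)} with h | ⟨w, hw, k⟩
      · rw [h]; simp
      rw [← c4 w hw, ← SetLike.coe_sort_coe, Nat.card_coe_set_eq]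
      refine Set.ncard_le_ncard_of_injOn (fun w' => w' * w⁻¹) (fun w' ⟨hw', k'⟩ => ?_)
        fun a _ b _ h => mul_right_cancel h
      have m : w' * w⁻¹ ∈ P F := by
        rw [← st, mem_St]
        intro x hx
        obtain ⟨i, hi⟩ : w⁻¹ • x ∈ Set.range e := er ▸ hl.inv _ (inv_mem hw.1) x hx
        rw [mul_smul, ← hi, k', ← k, hi, smul_inv_smul]
      refine ⟨m, mem_Ce.2 ?_⟩
      have i1 := inv_eq_of_mul_eq_one_right hw.2.1
      have i2 := inv_eq_of_mul_eq_one_right hw'.2.1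
      have i3 := inv_eq_of_mul_eq_one_right (m7.sq _ m)
      rw [mul_inv_rev, i1, i1, i2] at i3
      rw [i1]
      exact Commute.mul_left i3.symm (Commute.refl w)
  have main : (Bᶜ ×ˢ ((P F : Set G) \ {1})).ncard ≤ 12 * W.ncard := by
    refine fib _ W (fun a w => w • a.1 = a.1 ∧ Commute a.2 w) 12 ?_ fun w hw => ?_
    · rintro ⟨x, z⟩ ⟨hx : x ∉ B, hz : z ∈ P F, z1 : z ≠ 1⟩
      have zz := m7.sq z hz
      have f := fz z hz z1
      have hx' : z • x ∉ B := fun h => hx (by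
        have := hl.inv z (le_normalizer hz) _ h
        rwa [← mul_smul, zz, one_smul] at this)
      have h4 : ({e 0, e 1, x, z • x} : Set Ω).ncard = 4 :=
        Set.ncard_eq_four.2 ⟨e 0, e 1, x, z • x, fun h => absurd (ei h) (by decide),
          fun h => hx (h ▸ eB 0), fun h => hx' (h ▸ eB 0), fun h => hx (h ▸ eB 1),
          fun h => hx' (h ▸ eB 1), fun h => hx (f ▸ h.symm), rfl⟩
      have zF : z • ({e 0, e 1, x, z • x} : Set Ω) = {e 0, e 1, x, z • x} := smul_eq_of_mapsTo (by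
        rintro y (rfl | rfl | rfl | rfl)
        · exact Or.inl (show _ ∈ F1 Ω z from f ▸ eB 0)
        · exact Or.inr (Or.inl (show _ ∈ F1 Ω z from f ▸ eB 1))
        · exact Or.inr (Or.inr (Or.inr rfl))
        · exact Or.inr (Or.inr (Or.inl (by rw [← mul_smul, zz, one_smul]))))
      obtain ⟨q2, -, FB', -, -, -, -, -, cj, -⟩ := hB G Ω K P hE _ h4
      obtain ⟨w, hw, w1, ww, hc⟩ := exists_fix_invol (Tw.of_sq zz).isPGroup q2 (hE.P_ne _ h4)
        (zpowers_le.2 (mem_Nm_of_finite fun a ha => zF ▸ ((cj z).2 a).1 ha))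
      have zw := hc z (mem_zpowers z)
      have wB : ∀ y ∈ B, w • y ∈ B := fun y hy => f ▸ smul_mem_F1 zw.symm (f ▸ hy)
      have f0 : w • e 0 = e 0 := FB' (by simp) w hw
      have f1 : w • e 1 = e 1 := FB' (by simp) w hw
      have fx : w • x = x := FB' (by simp) w hw
      refine ⟨w, ⟨(nm w).2 (smul_eq_of_mapsTo wB), ww, w1, f0, f1, ?_⟩, fx, zw⟩
      have u3 : (F1 Ω w ∩ B).ncard ≤ 3 := by
        by_contra h
        obtain ⟨F', h1, h2⟩ := Set.exists_subset_card_eq (s := F1 Ω w ∩ B) (n := 4) (by omega)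
        have m : w ∈ P F' := (hE.memP F' h2 w).2 ⟨mem_St.2 fun y hy => (h1 hy).1, Tw.of_sq ww⟩
        rw [(same F' (fun y hy => (h1 hy).2) h2).1] at m
        exact hx (fz w m w1 ▸ fx)
      have l2 : 2 ≤ (F1 Ω w ∩ B).ncard := by
        rw [← Set.ncard_pair (show e 0 ≠ e 1 from fun h => absurd (ei h) (by decide))]
        refine Set.ncard_le_ncard ?_
        rintro y (rfl | rfl)
        exacts [⟨f0, eB 0⟩, ⟨f1, eB 1⟩]
      have o2 : orderOf w = 2 := orderOf_eq_prime (by rw [pow_two, ww]) w1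
      have two : ∀ r ∈ zpowers w, r = 1 ∨ r = w := fun r hr => by
        rw [mem_zpowers_iff_mem_range_orderOf, o2] at hr
        obtain ⟨i, hi, rfl⟩ := Finset.mem_image.1 hr
        rw [Finset.mem_range] at hi
        interval_cases i <;> simp
      have par := card_dvd_of_semi (R := zpowers w) (S := B \ F1 Ω w)
        (fun r hr y hy => by
          rcases two r hr with rfl | rfl
          · rwa [one_smul]
          · exact ⟨wB y hy.1, fun h => hy.2 (smul_left_cancel r h)⟩)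
        fun r hr y hy h => (two r hr).resolve_right fun e => hy.2 (e ▸ h)
      have := Set.ncard_inter_add_ncard_sdiff_eq_ncard B (F1 Ω w)
      rw [Nat.card_zpowers, o2] at par
      rw [Set.inter_comm] at this
      omega
    · have k1 : (F1 Ω w \ B).ncard ≤ 4 := by
        have := Set.ncard_inter_add_ncard_sdiff_eq_ncard (F1 Ω w) B
        have := le7 w hw.2.2.1 (Tw.of_sq hw.2.1)
        have := hw.2.2.2.2.2
        omega
      have k2 : (((P F ⊓ Ce w : Subgroup G) : Set G) \ {1}).ncard = 3 := by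
        rw [Set.ncard_sdiff_singleton_of_mem (one_mem _), ← Nat.card_coe_set_eq, SetLike.coe_sort_coe,
          c4 w hw]
      refine le_trans (Set.ncard_le_ncard (t := (F1 Ω w \ B) ×ˢ (((P F ⊓ Ce w : Subgroup G) : Set G) \ {1}))
        fun a ha => ⟨⟨ha.2.1, ha.1.1⟩, ⟨ha.1.2.1, mem_Ce.2 ha.2.2⟩, ha.1.2.2⟩) ?_
      rw [Set.ncard_prod, k2]
      omega
  rw [Set.ncard_prod, Set.ncard_sdiff_singleton_of_mem (one_mem _), ← Nat.card_coe_set_eq (P F : Set G),
    SetLike.coe_sort_coe, c16] at main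
  obtain ⟨m, hm⟩ := d16
  have : m = 1 ∨ m = 2 ∨ m = 3 := by omega
  rcases this with rfl | rfl | rfl
  · omega
  · rw [show Nat.card Ω = 39 by omega] at d20; omega
  · rw [show Nat.card Ω = 55 by omega] at d20; omega

end Cfsg.Agent.H10.Q4D
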