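import Mathlib
import Cfsg.Agent.H56.R3Kit
import Cfsg.Agent.S1911
import Cfsg.Agent.S1220
import Cfsg.Agent.S4249
import Cfsg.Agent.H91.AbConj

/-!
# Rank 3 groups with a Frobenius point stabiliser: even valency and the three quarters lemma
-/

set_option autoImplicit false

namespace Cfsg.Agent.H10.R3

open Cfsg Cfsg.Agent.H56.R3 MulAction Subgroup
open scoped Pointwise

universe u v

theorem uniq_inv {S : Type*} [Group S] [Finite S]
    (h : IsCyclic S ∨ ∃ m : ℕ, 1 ≤ m ∧ Nonempty (S ≃* QuaternionGroup (2 ^ m))) {a b : S}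
    (ha : orderOf a = 2) (hb : orderOf b = 2) : a = b := by
  classical
  rcases h with h | ⟨m, -, ⟨e⟩⟩
  · have := Fintype.ofFinite S
    have h1 := IsCyclic.card_orderOf_eq_totient (α := S) (d := 2) (ha ▸ orderOf_dvd_card)
    rw [Nat.totient_two, Finset.card_eq_one] at h1
    obtain ⟨c, hc⟩ := h1
    have h2 : ∀ x : S, orderOf x = 2 → x = c := fun x hx =>
      Finset.mem_singleton.1 (hc ▸ Finset.mem_filter.2 ⟨Finset.mem_univ x, hx⟩)
    rw [h2 a ha, h2 b hb]
  · exact e.injective ((H91.quat_sq_eq_one ((e.orderOf_eq a).trans ha)).trans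
      (H91.quat_sq_eq_one ((e.orderOf_eq b).trans hb)).symm)

theorem even : EvenStmt.{u, v} := by
  intro G X _ _ _ _ _ hprim D hk
  by_contra hC
  have hne : Nonempty X := by
    by_contra h
    rw [not_nonempty_iff] at h
    have := D.card_G
    rw [Nat.card_of_isEmpty (α := X), zero_mul] at this
    exact Nat.card_pos.ne' this
  obtain ⟨A⟩ := hne
  let Q : Subgroup G :=
    { carrier := {z | z ∈ D.K A ∧ (∀ c ∈ D.K A, c * z = z * c) ∧ z * z = 1}
      one_mem' := ⟨one_mem _, fun c _ => by simp, mul_one _⟩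
      mul_mem' := by
        rintro a b ⟨h1, h2, h3⟩ ⟨h4, h5, h6⟩
        refine ⟨mul_mem h1 h4, fun c hc => by rw [← mul_assoc, h2 c hc, mul_assoc, h5 c hc, mul_assoc], ?_⟩
        calc a * b * (a * b) = a * (b * a) * b := by group
          _ = a * a * (b * b) := by rw [h2 b h4]; group
          _ = 1 := by rw [h3, h6, one_mul]
      inv_mem' := by
        rintro a ⟨h1, h2, h3⟩
        rw [inv_eq_of_mul_eq_one_right h3]; exact ⟨h1, h2, h3⟩ }
  obtain ⟨z, hzQ, hz2⟩ : ∃ z ∈ Q, orderOf z = 2 := by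
    have := D.K_nil A
    obtain ⟨z, hz, h2⟩ := S4249.exists_central_of_isNilpotent (H := D.K A) Nat.prime_two
      (by rw [D.card_K]; exact hk.two_dvd)
    have h3 : orderOf (z : G) = 2 := (orderOf_coe z).trans h2
    exact ⟨z, ⟨z.2, fun c hc => congrArg Subtype.val (mem_center_iff.1 hz ⟨c, hc⟩), by
      rw [← sq, ← h3, pow_orderOf_eq_one]⟩, h3⟩
  have z1 : z ≠ 1 := by rintro rfl; simp at hz2
  have only : ∀ x ∈ Q, ∀ y : X, y ≠ A → x • y = y → x = 1 := fun x hx y hy h => by
    by_contra h1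
    exact hC ⟨A, y, hy.symm, x, hx.1, h1, hx.2.1, h⟩
  have cj : ∀ g : G, g • A = A → ∀ x ∈ Q, g * x * g⁻¹ ∈ Q := fun g hg x hx =>
    ⟨D.K_normal hg hx.1, fun c hc => by
      have := hx.2.1 _ (D.K_normal (g := g⁻¹) (inv_smul_eq_iff.2 hg.symm) hc)
      calc c * (g * x * g⁻¹) = g * (g⁻¹ * c * g⁻¹⁻¹ * x) * g⁻¹ := by group
        _ = _ := by rw [this]; group, by
      calc g * x * g⁻¹ * (g * x * g⁻¹) = g * (x * x) * g⁻¹ := by group
        _ = 1 := by rw [hx.2.2]; group⟩
  have hN : ∀ g : G, g ∈ normalizer (Q : Set G) ↔ g • A = A := fun g => by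
    constructor
    · intro hg
      by_contra hn
      have h1 := D.K_fix ((mem_normalizer_iff.1 (inv_mem hg) z).1 hzQ).1
      rw [inv_inv, mul_smul, mul_smul, inv_smul_eq_iff] at h1
      exact z1 (only z hzQ _ hn h1)
    · intro hg
      rw [mem_normalizer_iff]
      refine fun x => ⟨cj g hg x, fun hx => ?_⟩
      have := cj g⁻¹ (inv_smul_eq_iff.2 hg.symm) _ hx
      rwa [show g⁻¹ * (g * x * g⁻¹) * g⁻¹⁻¹ = x by group] at this
  have hbot : ∀ g : G, g ∉ normalizer (Q : Set G) →
      Q.map (MulAut.conj g).toMonoidHom ⊓ normalizer (Q : Set G) = ⊥ := fun g hg => by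
    rw [eq_bot_iff]
    rintro _ ⟨⟨x, hx, rfl⟩, h2⟩
    have h3 : (g * x * g⁻¹) • A = A := (hN _).1 h2
    rw [mul_smul, mul_smul, smul_eq_iff_eq_inv_smul] at h3
    rw [only x hx _ (fun e => hg ((hN g).2 (inv_smul_eq_iff.1 e).symm)) h3, map_one]
    exact one_mem _
  obtain ⟨B, hB⟩ := D.ex1 A
  obtain ⟨C, hC1, hC2⟩ := D.ex2 A
  rcases S1911.result Q ⟨even_iff_two_dvd.2 (hz2 ▸ orderOf_dvd_natCard Q hzQ), fun g hg => by
    have : Q ⊓ Q.map (MulAut.conj g).toMonoidHom = ⊥ := eq_bot_iff.2 fun x hx =>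
      hbot g hg ▸ ⟨hx.2, le_normalizer hx.1⟩
    rw [this, card_bot]; exact odd_one⟩ (fun g hg => by rw [hbot g hg, card_bot]; exact odd_one)
    with h | h
  · obtain ⟨g, hg, -⟩ := D.tr1 hB (D.symm hB)
    exact D.ne_of_adj hB (((hN g).1 (le_normalizer_of_normal (mem_top g))).symm.trans hg)
  · have htr : IsPretransitive (normalClosure (Q : Set G)) X :=
      IsQuasiPreprimitive.isPretransitive_of_normal fun e => z1 (only z hzQ B (D.ne_of_adj hB).symm
        ((e ▸ Set.mem_univ B : B ∈ fixedPoints (normalClosure (Q : Set G)) X)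
          ⟨z, subset_normalClosure hzQ⟩))
    rcases S1220.result _ h with h1 | ⟨h1, -⟩
    · obtain ⟨g₁, e₁⟩ := htr.exists_smul_eq A B
      obtain ⟨g₂, e₂⟩ := htr.exists_smul_eq A C
      have e₁' : (g₁ : G) • A = B := e₁
      have e₂' : (g₂ : G) • A = C := e₂
      obtain ⟨x, hx, e⟩ := h1 g₁ g₂ (fun h => D.ne_of_adj hB (((hN _).1 h).symm.trans e₁'))
        (fun h => hC1 (((hN _).1 h).symm.trans e₂'))
      have e3 : ((g₂ : G)⁻¹ * (x * g₁)) • A = A := (hN _).1 e
      rw [mul_smul, mul_smul, inv_smul_eq_iff, e₁', e₂'] at e3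
      have := D.inv (x : G) hB
      rw [(hN (x : G)).1 hx, e3] at this
      exact hC2 this
    · have hp : IsPGroup 2 (Q.subgroupOf (normalClosure (Q : Set G))) := fun x =>
        ⟨1, Subtype.ext (Subtype.ext (by rw [pow_one, sq]; exact x.2.2.2))⟩
      obtain ⟨S, hS⟩ := hp.exists_le_sylow
      have hH : 1 < Nat.card ↥(stabilizer G A ⊓ stabilizer G B) := D.card_H hB ▸ D.one_lt
      have := Finite.one_lt_card_iff_nontrivial.1 hH
      obtain ⟨⟨g, hgA, hgB⟩, g1⟩ := exists_ne (1 : ↥(stabilizer G A ⊓ stabilizer G B))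
      have g1' : g ≠ 1 := fun e => g1 (Subtype.ext e)
      have hz' := cj g hgA z hzQ
      have e := uniq_inv (h1 S) (a := ⟨⟨_, subset_normalClosure hz'⟩, hS hz'⟩)
        (b := ⟨⟨_, subset_normalClosure hzQ⟩, hS hzQ⟩)
        (by rw [← orderOf_coe, ← orderOf_coe]; exact (SemiconjBy.orderOf_eq g⁻¹ (by
          simp [SemiconjBy, mul_assoc])).trans hz2)
        (by rw [← orderOf_coe, ← orderOf_coe]; exact hz2)
      have e' : g * z * g⁻¹ = z := congrArg (fun x => x.1.1) e
      exact z1 (D.fpf g z hgA (fun h => g1' (D.K_free hB g h hgB)) hzQ.1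
        (mul_inv_eq_iff_eq_mul.1 e'))

theorem half {G : Type*} [Group G] [Finite G] {H Y : Subgroup G} (hle : H ≤ Y)
    (h : Nat.card Y < 2 * Nat.card H) : Y ≤ H := by
  obtain ⟨k, hk⟩ := card_dvd_of_le hle
  have h0 : 0 < Nat.card Y := Nat.card_pos
  have : k = 1 := by
    rcases k with _ | _ | k
    · omega
    · rfl
    · exfalso; nlinarith
  exact (eq_of_le_of_card_ge hle (by rw [hk, this, mul_one])).ge

theorem tq : TQStmt.{u} := by
  intro G _ _ Y s hs hn hu S hS h1 h2
  have hs' : s⁻¹ = s := inv_eq_of_mul_eq_one_right hs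
  have hinv : ∀ y ∈ S, s * y * s = y⁻¹ := fun y hy =>
    eq_inv_of_mul_eq_one_right (by rw [← h1 y hy]; group)
  have cY : (Y : Set G).ncard = Nat.card Y := rfl
  have B : (∀ a ∈ Y, ∀ b ∈ Y, a * b = b * a) → Nat.card Y < 2 * S.ncard → S = Y := by
    intro hc hlt
    let I : Subgroup G :=
      { carrier := {y | y ∈ Y ∧ s * y * s = y⁻¹}
        one_mem' := ⟨one_mem _, by simp [hs]⟩
        mul_mem' := by
          rintro a b ⟨ha, ha'⟩ ⟨hb, hb'⟩
          refine ⟨mul_mem ha hb, ?_⟩
          calc s * (a * b) * s = s * a * (s * s) * b * s := by rw [hs]; group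
            _ = (s * a * s) * (s * b * s) := by group
            _ = _ := by rw [ha', hb', hc a ha b hb, mul_inv_rev]
        inv_mem' := by
          rintro a ⟨ha, ha'⟩
          refine ⟨inv_mem ha, ?_⟩
          calc s * a⁻¹ * s = s * (s * a * s) * s := by rw [ha']
            _ = s * s * a * (s * s) := by group
            _ = _ := by rw [hs]; group }
    have hI : Y ≤ I := half (fun y hy => hy.1) (lt_of_lt_of_le hlt (Nat.mul_le_mul_left 2
      (Set.ncard_le_ncard (t := (I : Set G)) fun y hy => ⟨hS hy, hinv y hy⟩)))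
    have hsq : ∀ y ∈ S, ∀ g ∈ Y, g * g * y ∈ S := fun y hy g hg => by
      have := h2 y hy g hg
      rwa [show g * (y * s) * g⁻¹ * s = g * y * (s * g⁻¹ * s) by group, (hI (inv_mem hg)).2, inv_inv,
        mul_assoc, ← hc g hg y (hS hy), ← mul_assoc] at this
    refine Set.Subset.antisymm hS fun w hw => ?_
    by_contra hwS
    let f : Y →* G := MonoidHom.mk' (fun g => (g : G) * g) fun a b => by
      rw [coe_mul]
      calc (a : G) * b * (a * b) = a * (b * a) * b := by group
        _ = _ := by rw [← hc a a.2 b b.2]; group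
    have hk : Nat.card f.ker ≤ 2 := by
      by_cases h : ∃ x ∈ Y, orderOf x = 2
      · obtain ⟨x, hx, hx2⟩ := h
        have : (f.ker : Set Y) ⊆ {1, ⟨x, hx⟩} := fun y hy => by
          by_cases e : y = 1
          · exact Or.inl e
          · exact Or.inr (Subtype.ext (hu _ y.2 x hx (orderOf_eq_prime (by rw [sq]; exact hy)
              fun e' => e (Subtype.ext e')) hx2))
        exact (Set.ncard_le_ncard this).trans (Set.ncard_insert_le _ _ |>.trans (by simp))
      · have : f.ker = ⊥ := eq_bot_iff.2 fun y hy => by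
          by_contra e
          exact h ⟨y, y.2, orderOf_eq_prime (by rw [sq]; exact hy) fun e' => e (Subtype.ext e')⟩
        rw [this, card_bot]; omega
    have hr : Nat.card Y = Nat.card f.ker * Nat.card f.range := by
      rw [← index_ker, card_mul_index]
    have hd : Disjoint S ((fun x => x * w) '' (f.range : Set G)) := by
      rw [Set.disjoint_left]
      rintro _ hx ⟨_, ⟨g, rfl⟩, rfl⟩
      have := hsq _ hx _ (inv_mem g.2)
      exact hwS (by rwa [show (g : G)⁻¹ * (g : G)⁻¹ * (f g * w) = w by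
        change (g : G)⁻¹ * (g : G)⁻¹ * ((g : G) * g * w) = w; group] at this)
    have hsub : S ∪ (fun x => x * w) '' (f.range : Set G) ⊆ Y := by
      rintro x (hx | ⟨_, ⟨g, rfl⟩, rfl⟩)
      · exact hS hx
      · exact mul_mem (mul_mem g.2 g.2) hw
    have h3 := Set.ncard_le_ncard hsub
    rw [Set.ncard_union_eq hd, Set.ncard_image_of_injective _ (mul_left_injective w), cY] at h3
    have h4 : (f.range : Set G).ncard = Nat.card f.range := rfl
    have h5 := Nat.mul_le_mul_right (Nat.card f.range) hk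
    omega
  refine ⟨fun hlt => B ?_ (by omega), fun h4 h3 => ?_⟩
  · have cen : ∀ x ∈ S, Y ≤ Y ⊓ centralizer {x} := fun x hx => by
      refine half inf_le_left ?_
      have e1 := Set.ncard_union_add_ncard_inter S ((fun y => x⁻¹ * y) '' S)
      rw [Set.ncard_image_of_injective _ (mul_right_injective x⁻¹)] at e1
      have e2 : (S ∪ (fun y => x⁻¹ * y) '' S).ncard ≤ Nat.card Y := Set.ncard_le_ncard (t := (Y : Set G))
        (by
          rintro y (hy | ⟨y, hy, rfl⟩)
          · exact hS hy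
          · exact mul_mem (inv_mem (hS hx)) (hS hy))
      have e3 : (S ∩ (fun y => x⁻¹ * y) '' S).ncard ≤ Nat.card ↥(Y ⊓ centralizer {x}) :=
        Set.ncard_le_ncard (t := ((Y ⊓ centralizer {x} : Subgroup G) : Set G)) (by
          rintro _ ⟨hy, y, hy', rfl⟩
          refine ⟨hS hy, mem_centralizer_singleton_iff.2 ?_⟩
          have e4 := hinv _ hy
          rw [show s * (x⁻¹ * y) * s = (s * x * s⁻¹)⁻¹ * (s * y * s) by group, hs', hinv x hx,
            hinv y hy', inv_inv, mul_inv_rev, inv_inv] at e4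
          calc x⁻¹ * y * x = x⁻¹ * y * (x * y⁻¹) * y := by group
            _ = _ := by rw [e4]; group)
      omega
    have : Y ≤ Y ⊓ centralizer (Y : Set G) := half inf_le_left (lt_of_lt_of_le (by omega)
      (Nat.mul_le_mul_left 2 (Set.ncard_le_ncard (s := S)
        (t := ((Y ⊓ centralizer (Y : Set G) : Subgroup G) : Set G)) fun x hx =>
          ⟨hS hx, fun y hy => mem_centralizer_singleton_iff.1 (cen x hx hy).2⟩)))
    exact fun a ha b hb => (this hb).2 a ha
  · have hc : IsMulCommutative Y := IsPGroup.isMulCommutative_of_card_eq_prime_sq (p := 2) h4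
    have := B (fun a ha b hb => congrArg Subtype.val (hc.1.1 ⟨a, ha⟩ ⟨b, hb⟩)) (by omega)
    rw [this, cY] at h3
    omega

end Cfsg.Agent.H10.R3
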