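import Cfsg.Agent.H23.S94G3b
import Cfsg.Agent.H12.S94JG0
import Cfsg.Agent.H87.Transfer

/-!
# S3094, piece JG3c: the transfer
-/

set_option autoImplicit false
open scoped Pointwise commutatorElement
open Subgroup

namespace Cfsg.Agent.H10.Jg3c
open Cfsg.Agent.H8 Cfsg.Agent.H23.D2 Cfsg.Agent.H46.S94 Cfsg.Agent.H23

universe u

local notation "C[" A "]" => Subgroup.centralizer (SetLike.coe A)
local notation "N[" A "]" => Subgroup.normalizer (SetLike.coe A)

variable {G : Type u} [Group G]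

/-- a non-abelian simple subgroup lies in every normal subgroup of index two -/
theorem le_of_index_two {F K : Subgroup G} (hs : IsSimpleGroup F) (nc : ¬ IsMulCommutative F)
    [K.Normal] (hK : K.index = 2) : F ≤ K := by
  rcases (inferInstance : (K.subgroupOf F).Normal).eq_bot_or_eq_top with e | e
  · refine absurd ⟨⟨fun a b => ?_⟩⟩ nc
    have m : a * b * (b * a)⁻¹ ∈ K.subgroupOf F := by
      rw [mem_subgroupOf]
      simp only [coe_mul, coe_inv, mul_mem_iff_of_index_two hK, inv_mem_iff]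
      tauto
    rw [e, mem_bot] at m
    exact mul_inv_eq_one.1 m
  · exact subgroupOf_eq_top.1 e

theorem mem_of_odd {K : Subgroup G} (hK : K.index = 2) {o : G} (ho : Odd (orderOf o)) : o ∈ K := by
  obtain ⟨k, hk⟩ := ho
  have : o = (o ^ 2) ^ (k + 1) := by
    rw [← pow_mul, show 2 * (k + 1) = orderOf o + 1 by omega, pow_succ, pow_orderOf_eq_one, one_mul]
  rw [this]
  exact pow_mem (sq_mem_of_index_two hK o) _

theorem relIndex_two {K H : Subgroup G} (hK : K.index = 2) {t : G} (ht : t ∈ H) (hn : t ∉ K) :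
    K.relIndex H = 2 := by
  refine index_eq_two_iff.2 ⟨⟨t, ht⟩, fun b => ?_⟩
  simp only [mem_subgroupOf, coe_mul, mul_mem_iff_of_index_two hK]
  by_cases m : (b : G) ∈ K
  · exact Or.inr ⟨m, fun w => hn (w.1 m)⟩
  · exact Or.inl ⟨⟨fun w => absurd w m, fun w => absurd w hn⟩, m⟩

/-- **JG3c** -/
theorem jg3c (gl : GLStmt.{u}) (ha : JG3aStmt.{u}) (hb : JG3bStmt.{u}) : JG3cStmt.{u} := by
  intro Γ _ G _ _ φ F t O z σ ρ V L h odd ex
  have := h.jf.base.fin
  obtain ⟨N0, i0, t0, v0⟩ := ha Γ G φ F t O z σ ρ V L h ex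
  have b0 := hb Γ G φ F t O z σ ρ V L N0 h i0 t0 v0
  have tE : t ∈ St1 (V.map φ) t := mem_sup_right (mem_zpowers t)
  have tH : t ∈ N[St1 (V.map φ) t] := le_normalizer tE
  obtain ⟨K, nK, iK, tK⟩ := H87.thompson_transfer_involution (H := N[St1 (V.map φ) t])
    (M := N0 ⊓ N[St1 (V.map φ) t]) odd (by rw [inf_relIndex_right, i0]) (x := t)
    (by rw [sq, h.cx.tt]) fun g m => by
      have ic : IsConj t (g * t * g⁻¹) := isConj_iff.2 ⟨g, rfl⟩
      by_cases e : g * t * g⁻¹ ∈ St1 (V.map φ) t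
      · obtain ⟨v, hv, e | e⟩ := G3b.mem_E h.toC1 e
        · exact h.nc v (e ▸ ic)
        · have m1 := m.1
          rw [e] at m1
          exact t0 ((N0.mul_mem_cancel_right (v0 (mem_sup_left (mem_map_of_mem φ hv)))).1 m1)
      · exact (b0 _ m.2 (h.cx.conj g).tt e).2 ic
  have nF := h.as.normal
  have FK : F ≤ K := le_of_index_two h.as.simple h.as.nc iK
  have VF : V.map φ ≤ F := fun x ⟨v, _, e⟩ => h.AF ⟨v, e⟩
  have OK : O ≤ K := fun o ho => mem_of_odd iK (h.cx.odd_ord ho)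
  have kerK : ∀ k ∈ N[St1 (V.map φ) t], k ∈ K → k ∈ C[V.map φ] →
      ∃ w ∈ V.map φ, ∃ o ∈ O, k = w * o := by
    intro k hk kK kC
    obtain ⟨e, he, o, ho, rfl⟩ := G3b.ker h hk kC
    obtain ⟨v, hv, rfl | rfl⟩ := G3b.mem_E h.toC1 he
    · exact ⟨_, mem_map_of_mem φ hv, o, ho, rfl⟩
    · exact absurd ((K.mul_mem_cancel_right (FK (VF (mem_map_of_mem φ hv)))).1
        ((K.mul_mem_cancel_right (OK ho)).1 kK)) tK
  have glF : GLV (N[St1 (V.map φ) t] ⊓ F) (V.map φ) := by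
    refine ((gl G _ (V.map φ) ?_ (by rw [card_map_of_injective h.cx.inj, h.jf.cV]) h.gl.1).2
      h.gl).2.1 _ inf_le_left (fun n hn => mem_N_of fun x hx =>
        mem_inf.2 ⟨mul_mem (mul_mem hn (mem_inf.1 hx).1) (inv_mem hn), nF.conj_mem _ hx.2 n⟩)
      fun hc => ?_
    · rintro _ ⟨v, hv, rfl⟩
      rw [← map_mul, h.jf.el v hv, map_one]
    · have m := hc ⟨(H12.S94G.map_le h.cx (mem_map_of_mem φ h.jf.sN)).1, h.AF ⟨σ, rfl⟩⟩
      have sV : σ ∈ V := h.jf.CV (mem_C.2 fun v hv => h.cx.inj (by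
        rw [map_mul, map_mul]
        exact mem_C.1 m _ (mem_map_of_mem φ hv)))
      have d : orderOf σ ∣ 2 := orderOf_dvd_of_pow_eq_one (by rw [sq, h.jf.el σ sV])
      rw [h.jf.so] at d
      omega
  refine ⟨fun m => tK (FK m), glF, fun j hj j2 jE => ?_, ex, fun k hk => ?_, odd⟩
  · have jK := (hb Γ G φ F t O z σ ρ V L K h (relIndex_two iK tH tK) tK
      (sup_le (VF.trans FK) OK) j hj j2 jE).1
    obtain ⟨f, hf, ef⟩ := glF.2 ((V.map φ).normalizerMonoidHom ⟨j, h.gl.1 hj⟩)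
    have c : f⁻¹ * j ∈ C[V.map φ] := mem_C.2 fun v hv => by
      have e : f * v * f⁻¹ = j * v * j⁻¹ := ef ⟨v, hv⟩
      calc v * (f⁻¹ * j) = f⁻¹ * (f * v * f⁻¹) * j := by group
        _ = f⁻¹ * j * v := by rw [e]; group
    obtain ⟨w, hw, o, ho, e⟩ := kerK _ (mul_mem (inv_mem hf.1) hj)
      (mul_mem (inv_mem (FK hf.2)) jK) c
    have e1 : QuotientGroup.mk' F j = QuotientGroup.mk' F o := by
      have e2 : j = f * w * o := by rw [mul_assoc, ← e]; group
      have e3 : QuotientGroup.mk' F (f * w) = 1 :=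
        (QuotientGroup.eq_one_iff _).2 (mul_mem hf.2 (VF hw))
      rw [e2, map_mul, e3, one_mul]
    refine (QuotientGroup.eq_one_iff j).1 ?_
    change QuotientGroup.mk' F j = 1
    rw [← G3b.pow_odd j2 (h.cx.odd_ord ho), map_pow, e1, ← map_pow, pow_orderOf_eq_one, map_one]
  · obtain ⟨w, hw, o, ho, rfl⟩ := kerK k hk.1.1 (FK hk.1.2) hk.2
    exact mul_mem (mem_sup_left hw) (mem_sup_right ho)

end Cfsg.Agent.H10.Jg3c
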