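import Cfsg.Agent.H46.J1Defs
import Cfsg.Agent.H14.S94Pa2
import Cfsg.Agent.H9.GWBasic

/-! The extension of a homocyclic group of rank three by the translations. -/

set_option autoImplicit false
open Subgroup

namespace Cfsg.Agent.H10.Jt2a
open Cfsg.Agent.H46.S94
open Cfsg.Agent.H14.S94Pa2 (cj cj' memN memS tw_mul tw_one M0)

universe u

local notation "C[" A "]" => Subgroup.centralizer (SetLike.coe A)
local notation "N[" A "]" => Subgroup.normalizer (SetLike.coe A)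

variable {G : Type u} [Group G]

/-- the complement to `t` over `T` -/
theorem exists_P [Finite G] {S T H : Subgroup G} {t : G} (TS : T ≤ S) (nT : S ≤ N[T])
    (sq : ∀ x ∈ S, x * x ∈ T) (HS : ∀ h ∈ H, ∀ x ∈ S, h * x * h⁻¹ ∈ S) (HT : H ≤ N[T])
    (odd : Odd (Nat.card H)) (tT : t ∉ T) (Ht : ∀ h ∈ H, h * t = t * h) :
    ∃ P : Subgroup G, T ≤ P ∧ P ≤ S ∧ t ∉ P ∧ (∀ x ∈ S, ∀ p ∈ P, x * p * x⁻¹ ∈ P) ∧
      (∀ h ∈ H, ∀ p ∈ P, h * p * h⁻¹ ∈ P) ∧ ∀ h ∈ H, ∀ x ∈ S, x * (h * x * h⁻¹)⁻¹ ∈ P := by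
  have : (T.subgroupOf S).Normal := (normal_subgroupOf_iff_le_normalizer TS).2 nT
  have := Fintype.ofFinite H
  let q := QuotientGroup.mk' (T.subgroupOf S)
  have hq : ∀ x : S, q x = 1 ↔ (x : G) ∈ T := fun x => by
    rw [QuotientGroup.mk'_apply, QuotientGroup.eq_one_iff, mem_subgroupOf]
  have h2 : ∀ a : S ⧸ T.subgroupOf S, a * a = 1 := fun a => by
    obtain ⟨x, rfl⟩ := QuotientGroup.mk'_surjective _ a
    rw [← map_mul]
    exact (hq _).2 (sq x x.2)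
  have hi : ∀ a : S ⧸ T.subgroupOf S, a⁻¹ = a := fun a => inv_eq_of_mul_eq_one_right (h2 a)
  let : CommGroup (S ⧸ T.subgroupOf S) :=
    { (inferInstance : Group (S ⧸ T.subgroupOf S)) with
      mul_comm := fun a b => by rw [← hi (a * b), mul_inv_rev, hi, hi] }
  let F : H → S → S := fun h x => ⟨h * x * (h : G)⁻¹, HS h h.2 x x.2⟩
  have Fm : ∀ h a b, F h (a * b) = F h a * F h b := fun h a b => Subtype.ext (by simp [F, mul_assoc])
  let ν : S →* S ⧸ T.subgroupOf S := MonoidHom.mk' (fun x => ∏ h : H, q (F h x))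
    fun a b => by simp only [Fm, map_mul, Finset.prod_mul_distrib]
  have hν : ∀ x, ν x = ∏ h : H, q (F h x) := fun x => rfl
  have νF : ∀ h x, ν (F h x) = ν x := fun h x => by
    rw [hν, hν, ← Equiv.prod_comp (Equiv.mulRight h) fun k => q (F k x)]
    exact Finset.prod_congr rfl fun k _ => congrArg q (Subtype.ext (by simp [F, mul_assoc]))
  have mem : ∀ x : S, (x : G) ∈ ν.ker.map S.subtype ↔ ν x = 1 := fun x =>
    mem_map_iff_mem (subtype_injective S)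
  refine ⟨ν.ker.map S.subtype, fun y hy => (mem ⟨y, TS hy⟩).2 ?_, map_subtype_le _, fun ht => ?_,
    fun x hx p hp => ?_, fun h hh p hp => ?_, fun h hh x hx => ?_⟩
  · exact Finset.prod_eq_one fun h _ => (hq _).2 (cj (HT h.2) hy)
  · have tS := map_subtype_le _ ht
    have h3 := (mem ⟨t, tS⟩).1 ht
    have h4 : ∀ h, F h ⟨t, tS⟩ = ⟨t, tS⟩ := fun h =>
      Subtype.ext (mul_inv_eq_iff_eq_mul.2 (Ht h h.2))
    obtain ⟨k, hk⟩ := odd
    simp only [hν, h4, Finset.prod_const, Finset.card_univ] at h3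
    rw [← Nat.card_eq_fintype_card, hk, pow_succ, pow_mul, pow_two, h2, one_pow, one_mul, hq] at h3
    exact tT h3
  · have pS := map_subtype_le _ hp
    have h3 := (mem ⟨p, pS⟩).1 hp
    refine (mem (⟨x, hx⟩ * ⟨p, pS⟩ * (⟨x, hx⟩ : S)⁻¹)).2 ?_
    rw [map_mul, map_mul, h3, mul_one, map_inv, mul_inv_cancel]
  · have pS := map_subtype_le _ hp
    exact (mem (F ⟨h, hh⟩ ⟨p, pS⟩)).2 (by rw [νF, (mem ⟨p, pS⟩).1 hp])
  · refine (mem (⟨x, hx⟩ * (F ⟨h, hh⟩ ⟨x, hx⟩)⁻¹)).2 ?_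
    rw [map_mul, map_inv, νF, mul_inv_cancel]

/-- the hypotheses in the group -/
structure Hy (t σ : G) (H O V T : Subgroup G) : Prop where
  tt : t * t = 1
  cen : ∀ c, c * t = t * c → (∀ v ∈ V, Commute c v) → ∃ v ∈ V, ∃ o ∈ O, c = v * o ∨ c = v * t * o
  odd : Odd (Nat.card O)
  Ot : ∀ o ∈ O, o * t = t * o
  el : ∀ v ∈ V, v * v = 1
  cV : Nat.card V = 8
  sH : σ ∈ H
  oH : Odd (Nat.card H)
  Ht : ∀ h ∈ H, h * t = t * h
  HO : H ≤ C[O]
  HV : H ≤ N[V]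
  HT : H ≤ N[T]
  tr : ∀ v ∈ V, v ≠ 1 → ∀ w ∈ V, w ≠ 1 → ∃ h ∈ H, h * v * h⁻¹ = w
  fp : ∀ v ∈ V, σ * v = v * σ → v = 1
  ab : Ab T
  two : IsPGroup 2 T
  VT : V ≤ T
  OC : T ≤ C[O]
  tN : t ∈ N[T]
  tT : t ∉ T
  inv : ∀ y ∈ T, t * y⁻¹ = y * t
  om : ∀ x ∈ T, x * x = 1 → x ∈ V
  sq : ∀ v ∈ V, ∃ x ∈ T, x * x = v

/-- the part of `N(T⟨t⟩)` that centralises `V` -/
def MM (V T : Subgroup G) (t : G) : Subgroup G where
  carrier := {x | x ∈ N[T] ∧ x * t * x⁻¹ * t⁻¹ ∈ T ∧ ∀ v ∈ V, Commute x v}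
  one_mem' := ⟨one_mem _, by simp, fun _ _ => Commute.one_left _⟩
  mul_mem' := fun {a b} ⟨a1, a2, a3⟩ ⟨b1, b2, b3⟩ =>
    ⟨mul_mem a1 b1, by simpa [mul_assoc] using mul_mem (cj a1 b2) a2,
      fun z hz => (a3 z hz).mul_left (b3 z hz)⟩
  inv_mem' := fun {a} ⟨a1, a2, a3⟩ =>
    ⟨inv_mem a1, by simpa [mul_assoc] using cj' a1 (inv_mem a2), fun z hz => (a3 z hz).inv_left⟩

/-- the translation part -/
def th (t : G) (m : ℕ) (x : G) : G := (x * t * x⁻¹ * t⁻¹) ^ 2 ^ (m + 1)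

theorem eqns : True := by
  have := @MM.eq_1.{0}; have := @th.eq_1.{0}
  trivial

theorem th_cj {t g : G} (m : ℕ) (e : g * t = t * g) (x : G) :
    th t m (g * x * g⁻¹) = g * th t m x * g⁻¹ := by
  have c : Commute g t := e
  rw [th, th, ← conj_pow]
  congr 1
  calc g * x * g⁻¹ * t * (g * x * g⁻¹)⁻¹ * t⁻¹
      = g * x * (g⁻¹ * t) * g * x⁻¹ * (g⁻¹ * t⁻¹) := by group
    _ = _ := by rw [c.inv_left.eq, c.inv_inv.eq]; group

variable [Finite G] {t σ : G} {H O V T : Subgroup G} (h : Hy t σ H O V T)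
include h

omit [Finite G] in
theorem Hy.ti : t⁻¹ = t := inv_eq_of_mul_eq_one_right h.tt

omit [Finite G] in
theorem Hy.nt : ∃ v ∈ V, v ≠ 1 := by
  by_contra! e
  have := h.cV
  rw [eq_bot_iff_forall V |>.2 e, card_bot] at this
  omega

theorem Hy.tf : ∃ m, H14.S94Pa2.TF T V m := by
  classical
  have hex : ∃ k, ∀ x ∈ T, x ^ 2 ^ k = 1 := by
    have : Fact (Nat.Prime 2) := ⟨Nat.prime_two⟩
    obtain ⟨k, hk⟩ := IsPGroup.iff_card.1 h.two
    exact ⟨k, fun x hx => congrArg Subtype.val (hk ▸ pow_card_eq_one' (x := (⟨x, hx⟩ : T)))⟩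
  obtain ⟨v0, hv0, v1⟩ := h.nt
  obtain ⟨a, ha, e0⟩ := h.sq v0 hv0
  have h2 : 2 ≤ Nat.find hex := by
    rw [Nat.le_find_iff]
    intro k hk e
    refine v1 ?_
    have := e a ha
    interval_cases k
    · rw [← e0, show a = 1 by simpa using this, one_mul]
    · rw [← e0, ← this]; simp [pow_two]
  obtain ⟨m, hm⟩ := Nat.exists_eq_add_of_le' h2
  have ex : ∀ x ∈ T, x ^ 2 ^ (m + 2) = 1 := hm ▸ Nat.find_spec hex
  obtain ⟨y0, hy0, y1⟩ : ∃ x ∈ T, x ^ 2 ^ (m + 1) ≠ 1 := by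
    by_contra! e
    exact Nat.find_min hex (by omega) e
  have hV : ∀ v ∈ V, ∃ y ∈ T, v = y ^ 2 ^ (m + 1) := fun v hv => by
    by_cases e : v = 1
    · exact ⟨1, one_mem _, by simp [e]⟩
    obtain ⟨g, hg, e2⟩ := h.tr _ (h.om _ (pow_mem hy0 _)
      (by rw [← pow_two, ← pow_mul, ← pow_succ, ex y0 hy0])) y1 v hv e
    exact ⟨_, cj (h.HT hg) hy0, by rw [conj_pow, e2]⟩
  have rt : ∀ j ≤ m + 1, ∀ x ∈ T, x ^ 2 ^ j = 1 → ∃ w ∈ T, x = w * w := fun j => by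
    induction j with
    | zero => exact fun _ x _ e => ⟨1, one_mem _, by simpa using e⟩
    | succ j ih =>
      intro hj x hx e
      obtain ⟨y, hy, e2⟩ := hV _ (h.om _ (pow_mem hx (2 ^ j))
        (by rw [← pow_two, ← pow_mul, ← pow_succ, e]))
      obtain ⟨d, rfl⟩ : ∃ d, m = j + d := ⟨m - j, by omega⟩
      have hu := pow_mem hy (2 ^ d)
      have c : Commute x (y ^ 2 ^ d * y ^ 2 ^ d)⁻¹ := h.ab _ hx _ (inv_mem (mul_mem hu hu))
      obtain ⟨w, hw, e3⟩ := ih (by omega) _ (mul_mem hx (inv_mem (mul_mem hu hu))) (by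
        rw [c.mul_pow, e2, inv_pow, ← pow_two, ← pow_mul, ← pow_mul, mul_inv_eq_one]
        congr 1; ring)
      refine ⟨w * y ^ 2 ^ d, mul_mem hw hu, ?_⟩
      rw [mul_inv_eq_iff_eq_mul] at e3
      have c2 : Commute w (y ^ 2 ^ d) := h.ab w hw _ hu
      rw [e3, ← pow_two, ← pow_two, ← pow_two, c2.mul_pow]
  exact ⟨m, h.ab, ex, rt _ le_rfl, h.om, ⟨y0, hy0, y1⟩, h.VT⟩

omit [Finite G] in
theorem Hy.Vt {v : G} (hv : v ∈ V) : Commute v t := by
  have := h.inv v (h.VT hv)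
  rw [inv_eq_of_mul_eq_one_right (h.el v hv)] at this
  exact this.symm

omit [Finite G] in
theorem Hy.TO {x o : G} (hx : x ∈ T) (ho : o ∈ O) : Commute o x := h.OC hx o ho

omit [Finite G] in
theorem Hy.cen_sq {v o c : G} (hv : v ∈ V) (ho : o ∈ O) (e : c = v * o ∨ c = v * t * o) :
    c * c = o * o := by
  have h2 : Commute v o := (h.TO (h.VT hv) ho).symm
  have h3 : Commute v t := h.Vt hv
  have h4 : Commute o t := h.Ot o ho
  rcases e with e | e <;> rw [e]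
  · rw [← pow_two, h2.mul_pow, pow_two, h.el v hv, one_mul, pow_two]
  · rw [← pow_two, (h2.mul_left h4.symm).mul_pow, h3.mul_pow, pow_two, pow_two, pow_two,
      h.el v hv, h.tt, one_mul, one_mul]

omit [Finite G] in
theorem Hy.cen_two {c : G} (ct : c * t = t * c) (cV : ∀ v ∈ V, Commute c v) (hc : Tw c) :
    c ∈ V ∨ c * t ∈ V := by
  obtain ⟨z, hz, o, ho, e⟩ := h.cen c ct cV
  obtain ⟨k, hk⟩ := hc
  have h1 : o ^ 2 ^ (k + 1) = 1 := by
    rw [pow_succ', pow_mul, pow_two, ← h.cen_sq hz ho e, ← pow_two, ← pow_mul, mul_comm,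
      pow_mul, hk, one_pow]
  obtain rfl : o = 1 := tw_one (h.odd.of_dvd_nat (orderOf_dvd_natCard O ho)) h1
  rcases e with e | e
  · left; rw [e, mul_one]; exact hz
  · right; rw [e, mul_one, mul_assoc, h.tt, mul_one]; exact hz

theorem Hy.normT {g : G} (hg : g ∈ N[St1 T t]) : g ∈ N[T] ∧ g * t * g⁻¹ * t⁻¹ ∈ T := by
  have k : ∀ y ∈ T, y * y ≠ 1 → g * y * g⁻¹ ∈ T := fun y hy y1 => by
    refine (memS h.tt h.tN (cj hg (mem_sup_left hy))).resolve_right fun e => y1 ?_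
    have e2 := h.inv _ e
    rw [mul_inv_rev, mul_inv_cancel_left, mul_assoc _ t t, h.tt, mul_one, inv_eq_iff_mul_eq_one,
      conj_mul] at e2
    simpa using e2
  have gN : g ∈ N[T] := memN fun y hy => by
    by_cases y1 : y * y = 1
    swap
    · exact k y hy y1
    obtain ⟨v, hv, v1⟩ := h.nt
    obtain ⟨a, ha, rfl⟩ := h.sq v hv
    have := mul_mem (k _ (mul_mem hy ha) (by
      rwa [mul_assoc, ← mul_assoc a, h.ab a ha y hy, mul_assoc, ← mul_assoc, y1, one_mul]))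
      (inv_mem (k a ha v1))
    simpa [mul_assoc] using this
  refine ⟨gN, ?_⟩
  rw [h.ti]
  refine (memS h.tt h.tN (cj hg (mem_sup_right (mem_zpowers t)))).resolve_left fun e => h.tT ?_
  simpa [mul_assoc] using cj' gN e

omit [Finite G] in
theorem Hy.T_le : T ≤ MM V T t := fun y hy =>
  ⟨le_normalizer hy, by simpa [mul_assoc] using mul_mem hy (cj h.tN (inv_mem hy)),
    fun z hz => h.ab y hy z (h.VT hz)⟩

omit [Finite G] in
theorem Hy.cjM {g x : G} (hg : g ∈ H) (hx : x ∈ MM V T t) : g * x * g⁻¹ ∈ MM V T t := by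
  have c : Commute g t := h.Ht g hg
  refine ⟨mul_mem (mul_mem (h.HT hg) hx.1) (inv_mem (h.HT hg)), ?_, fun v hv => ?_⟩
  · have e : g * x * g⁻¹ * t * (g * x * g⁻¹)⁻¹ * t⁻¹ = g * (x * t * x⁻¹ * t⁻¹) * g⁻¹ := by
      calc g * x * g⁻¹ * t * (g * x * g⁻¹)⁻¹ * t⁻¹
          = g * x * (g⁻¹ * t) * g * x⁻¹ * (g⁻¹ * t⁻¹) := by group
        _ = _ := by rw [c.inv_left.eq, c.inv_inv.eq]; group
    rw [e]; exact cj (h.HT hg) hx.2.1
  · have := (hx.2.2 _ (cj' (h.HV hg) hv)).eq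
    show _ * _ = _ * _
    calc g * x * g⁻¹ * v = g * (x * (g⁻¹ * v * g)) * g⁻¹ := by group
      _ = _ := by rw [this]; group

omit [Finite G] in
theorem Hy.cjO {n o : G} (hn : n ∈ MM V T t) (ho : o ∈ O) : n * o * n⁻¹ ∈ O := by
  have c1 : ∀ y ∈ T, Commute (n * o * n⁻¹) y := fun y hy => by
    have := (h.TO (cj' hn.1 hy) ho).eq
    show _ * _ = _ * _
    calc n * o * n⁻¹ * y = n * (o * (n⁻¹ * y * n)) * n⁻¹ := by group
      _ = _ := by rw [this]; group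
  have c2 : Commute (n * o * n⁻¹) (n * t * n⁻¹) := by
    show _ * _ = _ * _
    rw [conj_mul, conj_mul, h.Ot o ho]
  have c3 : Commute (n * o * n⁻¹) t := by
    have := (c1 _ hn.2.1).inv_right.mul_right c2
    simpa [mul_assoc] using this
  obtain ⟨v, hv, p, hp, e⟩ := h.cen _ c3 fun v hv => c1 v (h.VT hv)
  have e2 := h.cen_sq hv hp e
  obtain ⟨k, hk⟩ := h.odd
  have e3 : o = (o * o) ^ (k + 1) := by
    have : o ^ (2 * k + 1) = 1 := congrArg Subtype.val (hk ▸ pow_card_eq_one' (x := (⟨o, ho⟩ : O)))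
    rw [← pow_two, ← pow_mul, show 2 * (k + 1) = 2 * k + 1 + 1 by ring, pow_succ, this, one_mul]
  rw [e3, ← conj_pow, ← conj_mul, e2]
  exact pow_mem (mul_mem hp hp) _

variable {m : ℕ} (f : H14.S94Pa2.TF T V m)
include f

omit [Finite G] h in
theorem th_mem {x : G} (hx : x ∈ MM V T t) : th t m x ∈ V := f.half hx.2.1

omit [Finite G] h in
theorem th_mul {x y : G} (hx : x ∈ MM V T t) (hy : y ∈ MM V T t) :
    th t m (x * y) = th t m x * th t m y := by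
  have e : x * y * t * (x * y)⁻¹ * t⁻¹ = x * (y * t * y⁻¹ * t⁻¹) * x⁻¹ * (x * t * x⁻¹ * t⁻¹) := by
    group
  rw [th, e, (f.cm (cj hx.1 hy.2.1) hx.2.1).mul_pow, conj_pow, (hx.2.2 _ (f.half hy.2.1)).eq,
    mul_inv_cancel_right]
  exact f.ab _ (pow_mem hy.2.1 _) _ (pow_mem hx.2.1 _)

omit [Finite G] in
theorem Hy.th_T {y : G} (hy : y ∈ T) : th t m y = 1 := by
  rw [th, mul_assoc y, h.inv y hy, ← mul_assoc, mul_inv_cancel_right, f.sqpow hy]

omit [Finite G] in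
theorem Hy.th_ker {x : G} (hx : x ∈ MM V T t) (e : th t m x = 1) :
    ∃ w ∈ T, w⁻¹ * x * t = t * (w⁻¹ * x) := by
  obtain ⟨w, hw, e2⟩ := f.rt _ hx.2.1 e
  refine ⟨w, hw, ?_⟩
  calc w⁻¹ * x * t = w⁻¹ * (x * t * x⁻¹ * t⁻¹) * t * x := by group
    _ = w * t * x := by rw [e2]; group
    _ = _ := by rw [← h.inv w hw, mul_assoc]

theorem Hy.main {n : G} (hn : n ∈ N[St1 T t]) (hc : n ∈ C[V]) (hne : n ∉ St1 T t ⊔ O) {ρ : G}
    (hρ : ρ ∈ H) : ∃ P, PK t σ ρ O V T P := by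
  have st := h.Ht σ h.sH
  let θ : MM V T t →* G := MonoidHom.mk' (fun x => th t m x) fun a b => th_mul f a.2 b.2
  have θi : ∀ x ∈ MM V T t, th t m x⁻¹ = (th t m x)⁻¹ := fun x hx => map_inv θ ⟨x, hx⟩
  have θp : ∀ x ∈ MM V T t, ∀ k : ℕ, th t m (x ^ k) = th t m x ^ k := fun x hx => map_pow θ ⟨x, hx⟩
  have θs : ∀ x ∈ MM V T t, th t m x ≠ 1 → th t m (x * (σ * x * σ⁻¹)⁻¹) ≠ 1 := fun x hx e e' => by
    rw [th_mul f hx (inv_mem (h.cjM h.sH hx)), θi _ (h.cjM h.sH hx), th_cj m st, mul_inv_eq_one,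
      eq_mul_inv_iff_mul_eq] at e'
    exact e (h.fp _ (th_mem f hx) e'.symm)
  have nM : n ∈ MM V T t := ⟨(h.normT hn).1, (h.normT hn).2, fun v hv => (hc v hv).symm⟩
  have n1 : th t m n ≠ 1 := fun e => by
    obtain ⟨w, hw, e2⟩ := h.th_ker f nM e
    obtain ⟨v, hv, o, ho, e3⟩ := h.cen _ e2 (mul_mem (inv_mem (h.T_le hw)) nM).2.2
    have k1 : ∀ y ∈ T, y ∈ St1 T t ⊔ O := fun y hy => mem_sup_left (mem_sup_left hy)
    have k2 : t ∈ St1 T t ⊔ O := mem_sup_left (mem_sup_right (mem_zpowers t))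
    refine hne ((mul_mem_cancel_left (inv_mem (k1 w hw))).1 ?_)
    rcases e3 with e3 | e3 <;> rw [e3]
    · exact mul_mem (k1 v (h.VT hv)) (mem_sup_right ho)
    · exact mul_mem (mul_mem (k1 v (h.VT hv)) k2) (mem_sup_right ho)
  obtain ⟨a, aM, aO, a1⟩ : ∃ a ∈ MM V T t, a ∈ C[O] ∧ th t m a ≠ 1 := by
    refine ⟨_, mul_mem nM (inv_mem (h.cjM h.sH nM)), ?_, θs n nM n1⟩
    rw [show n * (σ * n * σ⁻¹)⁻¹ = n * σ * n⁻¹ * σ⁻¹ by group]
    refine mul_mem (fun o ho => ?_) (inv_mem (h.HO h.sH))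
    have := h.HO h.sH _ (h.cjO (inv_mem nM) ho)
    calc o * (n * σ * n⁻¹) = n * (n⁻¹ * o * n⁻¹⁻¹ * σ) * n⁻¹ := by group
      _ = _ := by rw [this]; group
  obtain ⟨b, bM, bO, b1, b2⟩ : ∃ b ∈ MM V T t, b ∈ C[O] ∧ th t m b ≠ 1 ∧ Tw b := by
    obtain ⟨k, j, ⟨i, rfl⟩, e⟩ := Nat.exists_eq_two_pow_mul_odd (orderOf_pos a).ne'
    refine ⟨a ^ (2 * i + 1), pow_mem aM _, pow_mem aO _, ?_,
      k, by rw [← pow_mul, mul_comm, ← e, pow_orderOf_eq_one]⟩
    rwa [θp a aM, pow_succ, pow_mul, pow_two, h.el _ (th_mem f aM), one_pow, one_mul]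
  have le0 : MM V T t ⊓ C[O] ≤ M0 T V t := fun x hx =>
    ⟨hx.1.1, hx.1.2.1, hx.1.2.2, fun c h1 h2 => by
      obtain ⟨v, hv, o, ho, e⟩ := h.cen c h1 fun v hv => h2 v (h.VT hv)
      rw [h.cen_sq hv ho e]
      exact (hx.2 _ (mul_mem ho ho)).symm⟩
  let S : Subgroup G :=
    { carrier := {x | x ∈ MM V T t ⊓ C[O] ∧ Tw x}
      one_mem' := ⟨one_mem _, 0, by simp⟩
      mul_mem' := fun {x y} hx hy => ⟨mul_mem hx.1 hy.1,
        tw_mul f.central (le0 hx.1) (le0 hy.1) hx.2 hy.2⟩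
      inv_mem' := fun {x} ⟨h1, n, h2⟩ => ⟨inv_mem h1, n, by rw [inv_pow, h2, inv_one]⟩ }
  have TS : T ≤ S := fun y hy => ⟨⟨h.T_le hy, h.OC hy⟩, _, f.ex y hy⟩
  have tS : t ∈ S := ⟨⟨⟨h.tN, by simp, fun v hv => (h.Vt hv).symm⟩, h.Ot⟩, 1, by
    rw [pow_one, pow_two, h.tt]⟩
  have ker : ∀ x ∈ S, th t m x = 1 → x ∈ T ∨ x * t ∈ T := fun x hx e => by
    obtain ⟨w, hw, e1⟩ := h.th_ker f hx.1.1 e
    have h1 : w⁻¹ * x ∈ S := mul_mem (inv_mem (TS hw)) hx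
    exact (h.cen_two e1 h1.1.1.2.2 h1.2).imp (fun r => by simpa using mul_mem hw (h.VT r))
      fun r => by simpa [mul_assoc] using mul_mem hw (h.VT r)
  have sq : ∀ x ∈ S, x * x ∈ T := fun x hx => by
    refine (ker _ (mul_mem hx hx) (by
      rw [th_mul f hx.1.1 hx.1.1, h.el _ (th_mem f hx.1.1)])).resolve_right fun h2 => ?_
    obtain ⟨y, hy, y1⟩ := f.big
    obtain ⟨u, hu, e2⟩ := f.trivPow hx.1.1.1 hx.1.1.2.2 1 hy
    rw [pow_one, pow_two] at e2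
    have h3 : x * x * y * (x * x)⁻¹ = y⁻¹ := by
      have h4 := h.inv _ (inv_mem hy)
      rw [inv_inv] at h4
      calc x * x * y * (x * x)⁻¹ = x * x * t * (t⁻¹ * y) * t * (x * x * t)⁻¹ := by group
        _ = x * x * t * y⁻¹ * (x * x * t)⁻¹ := by
          rw [h.ti, h4, mul_assoc (x * x * t), mul_assoc y⁻¹, h.tt, mul_one]
        _ = _ := by rw [f.ab _ h2 _ (inv_mem hy)]; group
    rw [h3] at e2
    have h5 : y * y = u⁻¹ ^ 2 ^ (1 + 1) := by
      rw [inv_pow, eq_inv_iff_mul_eq_one, mul_assoc, ← e2, mul_inv_cancel]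
    refine y1 ?_
    rw [pow_succ', pow_mul, pow_two, h5, ← pow_mul, ← pow_add, add_comm]
    exact f.ex _ (inv_mem hu)
  have HS : ∀ g ∈ H, ∀ x ∈ S, g * x * g⁻¹ ∈ S := fun g hg x ⟨h1, k, h2⟩ =>
    ⟨⟨h.cjM hg h1.1, C[O].mul_mem (C[O].mul_mem (h.HO hg) h1.2) (C[O].inv_mem (h.HO hg))⟩, k, by
      rw [conj_pow, h2]; group⟩
  obtain ⟨P, TP, PS, tP, nP, HP, hP⟩ :=
    exists_P TS (fun x hx => hx.1.1.1) sq HS h.HT h.oH h.tT h.Ht
  have PM : P ≤ MM V T t := fun p hp => (PS hp).1.1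
  have sur : ∀ v ∈ V, ∃ p ∈ P, th t m p = v := fun v hv => by
    by_cases e : v = 1
    · exact ⟨1, one_mem _, by rw [e, h.th_T f (one_mem _)]⟩
    have p0 : b * (σ * b * σ⁻¹)⁻¹ ∈ P := hP σ h.sH b ⟨⟨bM, bO⟩, b2⟩
    obtain ⟨g, hg, e2⟩ := h.tr _ (th_mem f (PM p0)) (θs b bM b1) v hv e
    exact ⟨_, HP g hg _ p0, by rw [th_cj m (h.Ht g hg), e2]⟩
  refine ⟨P, fun p => ?_, TP, ?_, fun p hp => (PS hp).1.2, memN (nP t tS), memN (HP σ h.sH),
    memN (HP ρ hρ), tP, fun p hp v hv => ((PM hp).2.2 v hv).symm, fun p hp => (PM hp).1,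
    fun p hp => sq p (PS hp), fun p hp => by simpa only [h.ti] using (PM hp).2.1, fun x hx => ?_⟩
  · obtain ⟨k, hk⟩ := (PS p.2).2
    exact ⟨k, Subtype.ext hk⟩
  · have e1 : T.subgroupOf P = (θ.comp (inclusion PM)).ker := by
      ext p
      refine ⟨fun hp => h.th_T f hp, fun hp => (ker _ (PS p.2) hp).resolve_right fun e => tP ?_⟩
      simpa using mul_mem (inv_mem p.2) (TP e)
    have e2 : (θ.comp (inclusion PM)).range = V := le_antisymm
      (by rintro _ ⟨p, rfl⟩; exact th_mem f (PM p.2)) fun v hv => by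
        obtain ⟨p, hp, e⟩ := sur v hv
        exact ⟨⟨p, hp⟩, e⟩
    rw [relIndex, e1, index_ker, e2, h.cV]
  · obtain ⟨p, hp, e⟩ := sur _ (f.half hx)
    have h1 := (PM hp).2.1
    obtain ⟨w, hw, e2⟩ := f.rt _ (mul_mem (inv_mem h1) hx) (by
      rw [(f.cm (inv_mem h1) hx).mul_pow, inv_pow, ← e, th, inv_mul_cancel])
    refine ⟨w * p, mul_mem (TP hw) hp, ?_⟩
    rw [inv_mul_eq_iff_eq_mul] at e2
    calc w * p * t * (w * p)⁻¹ = w * (p * t * p⁻¹ * t⁻¹) * (t * w⁻¹) := by group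
      _ = _ := by rw [h.inv w hw, f.ab w hw _ h1, e2]; group

omit h f

theorem jt2a : JT2aStmt.{u} := by
  intro Γ _ G _ _ φ F t O T z σ ρ V L c tf ls hne
  obtain ⟨n, ⟨hn, hc⟩, hne⟩ := SetLike.not_le_iff_exists.1 hne
  have j := c.jf
  have := j.base.fin
  have ti := c.cx.tinv
  have le : ∀ {K : Subgroup G}, φ ρ ∈ K → φ σ ∈ K → zpowers (φ ρ) ⊔ zpowers (φ σ) ≤ K :=
    fun h1 h2 => sup_le (zpowers_le.2 h1) (zpowers_le.2 h2)
  have nV : ∀ a ∈ N[V], φ a ∈ N[V.map φ] := fun a ha => memN (by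
    rintro _ ⟨v, hv, rfl⟩
    exact ⟨_, cj ha hv, by simp⟩)
  have sH : φ σ ∈ zpowers (φ ρ) ⊔ zpowers (φ σ) := mem_sup_right (mem_zpowers _)
  have h : Hy t (φ σ) (zpowers (φ ρ) ⊔ zpowers (φ σ)) O (V.map φ) T :=
    { tt := c.cx.tt
      cen := fun x h1 h2 => by
        obtain ⟨α, hα⟩ := c.cx.aut h1
        obtain ⟨a, e⟩ := j.inn α
        obtain ⟨o, ho, e2⟩ := c.cx.split' h1 hα e
        refine ⟨φ a, ⟨a, j.CV fun v hv => c.cx.inj ?_, rfl⟩, o, ho, e2⟩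
        have := hα v
        rw [e, (h2 _ ⟨v, hv, rfl⟩).eq, mul_inv_cancel_right, MulAut.conj_apply] at this
        rw [(mul_inv_eq_iff_eq_mul.1 (c.cx.inj this))]
      odd := c.cx.odd
      Ot := c.cx.Ot
      el := by rintro _ ⟨v, hv, rfl⟩; rw [← map_mul, j.el v hv, map_one]
      cV := by rw [card_map_of_injective c.cx.inj, j.cV]
      sH := sH
      oH := H9.GW.odd_sup (zpowers_le.2 (memN (by
          rintro _ ⟨i, rfl⟩
          obtain ⟨k, hk⟩ := j.rs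
          beta_reduce at hk ⊢
          rw [← conj_zpow, ← map_inv, ← map_mul, ← map_mul, ← hk, map_zpow]
          exact zpow_mem (zpow_mem (mem_zpowers _) _) _)))
        (by rw [Nat.card_zpowers, orderOf_injective φ c.cx.inj, j.ro]; decide)
        (by rw [Nat.card_zpowers, orderOf_injective φ c.cx.inj, j.so]; decide)
      Ht := fun g hg => mem_centralizer_singleton_iff.1 (le (K := centralizer {t})
        (mem_centralizer_singleton_iff.2 (c.cx.AC ρ)) (mem_centralizer_singleton_iff.2 (c.cx.AC σ)) hg)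
      HO := le (fun o ho => (c.cx.oA ho ρ).symm) fun o ho => (c.cx.oA ho σ).symm
      HV := le (nV ρ j.rN) (nV σ j.sN)
      HT := le tf.rN tf.sN
      tr := by
        rintro _ ⟨v, hv, rfl⟩ v1 _ ⟨w, hw, rfl⟩ w1
        obtain ⟨i, rfl⟩ := j.tr v hv fun e => v1 (by rw [e, map_one])
        obtain ⟨k, rfl⟩ := j.tr w hw fun e => w1 (by rw [e, map_one])
        exact ⟨φ σ ^ k * (φ σ ^ i)⁻¹, mul_mem (pow_mem sH k) (inv_mem (pow_mem sH i)), by
          simp only [map_mul, map_inv, map_pow]; group⟩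
      fp := by
        rintro _ ⟨v, hv, rfl⟩ e
        by_contra v1
        have v1 : v ≠ 1 := fun e => v1 (by rw [e, map_one])
        have e : Commute σ v := c.cx.inj (by simpa using e)
        obtain ⟨i, rfl⟩ := j.tr v hv v1
        have e2 : Commute σ z := by
          have := (e.mul_right (Commute.self_pow σ i))
          rw [inv_mul_cancel_right] at this
          simpa using (Commute.self_pow σ i).inv_right.mul_right this
        have h1 : (V : Set Γ) ⊆ {1, z} := fun w hw => by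
          by_cases e : w = 1
          · exact Or.inl e
          obtain ⟨k, rfl⟩ := j.tr w hw e
          exact Or.inr (mul_inv_eq_iff_eq_mul.2 (e2.pow_left k).eq)
        have h2 := (Set.ncard_le_ncard h1).trans (Set.ncard_insert_le _ _)
        have h3 : (V : Set Γ).ncard = 8 := j.cV
        simp [h3] at h2
      ab := tf.ab
      two := tf.two
      VT := tf.VT
      OC := tf.OC
      tN := tf.tN
      tT := tf.tT
      inv := fun y hy => by rw [← ls.inv y hy, ← mul_assoc, ← mul_assoc, c.cx.tt, one_mul]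
      om := ls.om
      sq := ls.sq }
  obtain ⟨m, f⟩ := h.tf
  exact h.main f hn hc hne (mem_sup_left (mem_zpowers _))

end Cfsg.Agent.H10.Jt2a
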