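import Cfsg.Agent.H16.UnbR

/-! Pure systems of intrinsic 2-components of type `2.A_n`: cliques and sharing. -/

set_option autoImplicit false
set_option linter.unusedSectionVars false

namespace Cfsg.Agent.H10.UP

open Subgroup Cfsg.Agent.H52 Cfsg.Agent.H8 Cfsg.Agent.H16.Unb
open scoped commutatorElement

variable {G : Type*} [Group G]

/-- A conjugacy class of 2-subgroups all of whose components have type `2.A_n`. -/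
structure PS (n : ℕ) (𝒯 : Set (Subgroup G)) : Prop where
  hn : 8 ≤ n
  conj : ∀ T ∈ 𝒯, ∀ g, cnj g T ∈ 𝒯
  trans : ∀ T ∈ 𝒯, ∀ T' ∈ 𝒯, ∃ g, T' = cnj g T
  ex : ∀ T ∈ 𝒯, ∃ z, ZT T z
  pump : ∀ T ∈ 𝒯, ∀ y, orderOf y = 2 → y ∈ CC[T] → ∃ L, Cmp y T L ∧ AT n L
  two : ∃ T ∈ 𝒯, ∃ T' ∈ 𝒯, T' ≤ CC[T]

/-- `x` and `y` centralise a common member. -/
def Sh (𝒯 : Set (Subgroup G)) (x y : G) : Prop := ∃ T ∈ 𝒯, x ∈ CC[T] ∧ y ∈ CC[T]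

/-- An involution centralising a maximal clique. -/
def Full (𝒯 : Set (Subgroup G)) (a : G) : Prop :=
  orderOf a = 2 ∧ ∃ 𝒞, MClq 𝒯 𝒞 ∧ ∀ T ∈ 𝒞, a ∈ CC[T]

/-- There are three pairwise commuting members. -/
def Big (𝒯 : Set (Subgroup G)) : Prop := ∃ 𝒞, Clq 𝒯 𝒞 ∧ 3 ≤ 𝒞.card

variable {n : ℕ} {𝒯 : Set (Subgroup G)} {𝒞 : Finset (Subgroup G)} {T T' L L' M N S : Subgroup G}
  {a b c g t x y z z' : G}

theorem Sh.symm (h : Sh 𝒯 x y) : Sh 𝒯 y x := by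
  obtain ⟨T, h1, h2, h3⟩ := h
  exact ⟨T, h1, h3, h2⟩

theorem mcz (h : x * y = y * x) : x ∈ Cz y := mem_centralizer_singleton_iff.2 h

theorem czm (h : x ∈ Cz y) : x * y = y * x := mem_centralizer_singleton_iff.1 h

theorem le_cz (h : a ∈ CC[T]) : T ≤ Cz a := fun _ hx => mcz (h _ hx)

theorem of_le_cz (h : T ≤ Cz a) : a ∈ CC[T] := fun _ hx => czm (h hx)

theorem cent_symm (h : T' ≤ CC[T]) : T ≤ CC[T'] := fun _ hx _ hy => (h hy _ hx).symm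

theorem conj_eq (h : x * y = y * x) : x * y * x⁻¹ = y := by rw [h, mul_inv_cancel_right]

theorem ks_cmp (h : L ∈ KS 𝒯 y) : IsPComponentOf 2 L (Cz y) := by
  obtain ⟨_, _, h⟩ := h
  exact h.1

variable [Finite G]

theorem ks_cm (h : L ∈ KS 𝒯 y) : CM L y := CM.of_cent (of_le_cz (ks_cmp h).1)

theorem two_sup (hx : TwoE x) (hy : TwoE y) (c : x * y = y * x) :
    IsPGroup 2 (zpowers x ⊔ zpowers y : Subgroup G) :=
  isPGroup_sup_of_le_normalizer hx.isPGroup hy.isPGroup (zpowers_le.2 (centralizer_le_normalizer' _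
    (by rw [centralizer_zpowers]; exact mcz c)))

theorem syl_eq (hT : IsSylowIn 2 T L) (hS : IsPGroup 2 S) (h : T ≤ S) : S ⊓ L = T :=
  hT.eq_of_le hS.to_inf_left inf_le_right (le_inf h hT.le)

theorem clq_cnj [DecidableEq (Subgroup G)] (hc : ∀ T ∈ 𝒯, ∀ g, cnj g T ∈ 𝒯) (h : MClq 𝒯 𝒞) (g : G) :
    MClq 𝒯 (𝒞.image (cnj g)) := by
  have inj : Function.Injective (cnj g : Subgroup G → Subgroup G) :=
    map_injective (MulAut.conj g).injective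
  refine ⟨⟨?_, ?_⟩, fun 𝒞' h' => ?_⟩
  · intro T hT
    obtain ⟨T, h1, rfl⟩ := Finset.mem_image.1 hT
    exact hc T (h.1.1 T h1) g
  · intro T hT T' hT' hne
    obtain ⟨T, h1, rfl⟩ := Finset.mem_image.1 hT
    obtain ⟨T', h2, rfl⟩ := Finset.mem_image.1 hT'
    rw [← cnj_centralizer]
    exact cnj_mono g (h.1.2 T h1 T' h2 fun e => hne (by rw [e]))
  · rw [Finset.card_image_of_injective _ inj]
    exact h.2 𝒞' h'

theorem exists_mclq (𝒯 : Set (Subgroup G)) : ∃ 𝒞, MClq 𝒯 𝒞 := by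
  have : Finite (Subgroup G) := Finite.of_injective _ SetLike.coe_injective
  obtain ⟨𝒞, h1, h2⟩ := Set.exists_max_image {𝒞 | Clq 𝒯 𝒞} Finset.card (Set.toFinite _)
    ⟨∅, by simp [Clq]⟩
  exact ⟨𝒞, h1, h2⟩

namespace PS
variable (P : PS n 𝒯)
include P

theorem pgrp (hT : T ∈ 𝒯) : IsPGroup 2 T := by
  obtain ⟨z, hz⟩ := P.ex T hT
  obtain ⟨L, h, -⟩ := P.pump T hT z hz.1 hz.2.2
  exact h.2.isPGroup

theorem at_of (hT : T ∈ 𝒯) (hy : orderOf y = 2) (h : Cmp y T L) : AT n L := by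
  obtain ⟨L', h', a'⟩ := P.pump T hT y hy h.cent
  obtain ⟨x, h1, -, h2⟩ := a'.exists_not_cm P.hn h'.2
  rwa [← eq_of_not_cm h'.1 h.1 (h.2.le h1) h2]

theorem uniq (hT : T ∈ 𝒯) (hy : orderOf y = 2) (h : Cmp y T L) (h' : Cmp y T L') : L = L' := by
  obtain ⟨x, h1, -, h2⟩ := (P.at_of hT hy h).exists_not_cm P.hn h.2
  exact eq_of_not_cm h.1 h'.1 (h'.2.le h1) h2

theorem ks_at (hy : orderOf y = 2) (h : L ∈ KS 𝒯 y) : AT n L := by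
  obtain ⟨T, hT, h⟩ := h
  exact P.at_of hT hy h

theorem ks_syl (h : L ∈ KS 𝒯 y) (hT : IsSylowIn 2 T L) : T ∈ 𝒯 := by
  obtain ⟨T', hT', h⟩ := h
  obtain ⟨l, -, rfl⟩ := exists_cnj_eq_of_isSylowIn h.2 hT
  exact P.conj T' hT' l

theorem ks_cnj (h : L ∈ KS 𝒯 y) (g : G) : cnj g L ∈ KS 𝒯 (g * y * g⁻¹) := by
  obtain ⟨T, hT, h⟩ := h
  exact ⟨_, P.conj T hT g, h.cnj g⟩

theorem ks_cnj' (h : L ∈ KS 𝒯 y) (hg : g * y = y * g) : cnj g L ∈ KS 𝒯 y := by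
  have := P.ks_cnj h g
  rwa [conj_eq hg] at this

theorem pump' (hT : T ∈ 𝒯) (hy : orderOf y = 2) (h : y ∈ CC[T]) : ∃ L, Cmp y T L ∧ L ∈ KS 𝒯 y := by
  obtain ⟨L, h, -⟩ := P.pump T hT y hy h
  exact ⟨L, h, T, hT, h⟩

/-- The centre of a member. -/
theorem center (hT : T ∈ 𝒯) (hz : ZT T z) (hx : x ∈ T) (hc : x ∈ CC[T]) : x = 1 ∨ x = z := by
  obtain ⟨L, h, a⟩ := P.pump T hT z hz.1 hz.2.2
  obtain ⟨ρ, r⟩ := a.exists_rho_zt P.hn h.2 hz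
  exact r.center h.2 hz.2.1 hx hc

theorem zt_uniq (hT : T ∈ 𝒯) (hz : ZT T z) (hz' : ZT T z') : z' = z :=
  (P.center hT hz hz'.2.1 hz'.2.2).resolve_left (ne_one_of_ord hz'.1)

theorem zt_comm (hT : T ∈ 𝒯) (hz : ZT T z) (hg : g ∈ NN[T]) : g * z = z * g := by
  have := hz.cnj g
  rw [cnj_eq_iff_mem_normalizer.2 hg] at this
  exact mul_inv_eq_iff_eq_mul.1 (P.zt_uniq hT hz this)

/-- 2-elements centralising `y` and `T` centralise `L(y, T)` modulo its core. -/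
theorem cmc (hT : T ∈ 𝒯) (hy : orderOf y = 2) (h : Cmp y T L) (ha : TwoE a) (c : a * y = y * a)
    (hc : a ∈ CC[T]) : CM L a := by
  have a' := P.at_of hT hy h
  obtain ⟨x, h1, -, h2⟩ := a'.exists_not_cm P.hn h.2
  exact a'.cm_of_cent P.hn h.2 (norm_of_cent h.1 (le_normalizer (mcz c)) (h.2.le h1) h2 (hc x h1).symm)
    hc ha

theorem cm_zt (hT : T ∈ 𝒯) (hy : orderOf y = 2) (h : Cmp y T L) (hz : ZT T z) : CM L z :=
  P.cmc hT hy h (twoE_of_sq (sq_of_ord hz.1)) (h.cent z hz.2.1) hz.2.2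

theorem noncen (hT : T ∈ 𝒯) : ∃ x ∈ T, x * x = 1 ∧ x ∉ CC[T] := by
  obtain ⟨z, hz⟩ := P.ex T hT
  obtain ⟨L, h, a⟩ := P.pump T hT z hz.1 hz.2.2
  obtain ⟨x, h1, h2, h3⟩ := a.exists_not_cm P.hn h.2
  exact ⟨x, h1, h2, fun e => h3 (P.cmc hT hz.1 h (twoE_of_sq h2) (hz.2.2 x h1) e)⟩

theorem clq_pgrp (h : Clq 𝒯 𝒞) : IsPGroup 2 (𝒞.sup id : Subgroup G) := by
  classical
  induction 𝒞 using Finset.induction_on with
  | empty => exact IsPGroup.of_bot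
  | insert T 𝒞 hT ih =>
    rw [Finset.sup_insert, id, sup_comm]
    refine isPGroup_sup_of_le_normalizer (ih ⟨fun T' h' => h.1 T' (Finset.mem_insert_of_mem h'),
      fun T₁ h1 T₂ h2 => h.2 T₁ (Finset.mem_insert_of_mem h1) T₂ (Finset.mem_insert_of_mem h2)⟩)
      (P.pgrp (h.1 T (Finset.mem_insert_self _ _))) (Finset.sup_le fun T' h' => ?_)
    exact (h.2 T (Finset.mem_insert_self _ _) T' (Finset.mem_insert_of_mem h')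
      (by rintro rfl; exact hT h')).trans (centralizer_le_normalizer' _)

theorem exists_syl_clq (h : Clq 𝒯 𝒞) (hc : ∀ T ∈ 𝒞, T ≤ N) : ∃ S, IsSylowIn 2 S N ∧ ∀ T ∈ 𝒞, T ≤ S := by
  obtain ⟨S, h1, h2⟩ := exists_isSylowIn_ge (P.clq_pgrp h) (Finset.sup_le hc)
  exact ⟨S, h1, fun T hT => (Finset.le_sup (f := id) hT).trans h2⟩

/-- An involution centralising a maximal clique has no further component. -/
theorem onto (h : MClq 𝒯 𝒞) (ha : orderOf a = 2) (hc : ∀ T ∈ 𝒞, a ∈ CC[T]) (hL : L ∈ KS 𝒯 a) :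
    ∃ T ∈ 𝒞, Cmp a T L := by
  classical
  by_contra hno
  obtain ⟨S, hS, hle⟩ := P.exists_syl_clq h.1 fun T hT => le_cz (hc T hT)
  have s := syl_inf hS (IsPComponentOf.sn (ks_cmp hL))
  have k : ∀ T ∈ 𝒞, S ⊓ L ≤ CC[T] := fun T hT => by
    obtain ⟨L', h', -⟩ := P.pump T (h.1.1 T hT) a ha (hc T hT)
    rw [← syl_eq h'.2 hS.isPGroup (hle T hT)]
    exact comm_syl h'.1 (ks_cmp hL) (by rintro rfl; exact hno ⟨T, hT, h'⟩) hS.isPGroup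
  have := h.2 (insert (S ⊓ L) 𝒞) ⟨fun T hT => by
    rcases Finset.mem_insert.1 hT with rfl | hT
    exacts [P.ks_syl hL s, h.1.1 T hT], fun T hT T' hT' hne => by
    rcases Finset.mem_insert.1 hT with rfl | h1 <;> rcases Finset.mem_insert.1 hT' with rfl | h2
    exacts [absurd rfl hne, cent_symm (k T' h2), k T h1, h.1.2 T h1 T' h2 hne]⟩
  rw [Finset.card_insert_of_notMem fun e => hno ⟨_, e, ks_cmp hL, s⟩] at this
  omega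

theorem mem_of_le (h : MClq 𝒯 𝒞) (ha : orderOf a = 2) (hS : IsPGroup 2 S) (hc : S ≤ Cz a)
    (hle : ∀ T ∈ 𝒞, T ≤ S) (hT : T' ∈ 𝒯) (hTS : T' ≤ S) : T' ∈ 𝒞 := by
  obtain ⟨L, h1, h2⟩ := P.pump' hT ha (of_le_cz (hTS.trans hc))
  obtain ⟨T, h3, h4⟩ := P.onto h ha (fun T hT => of_le_cz ((hle T hT).trans hc)) h2
  rwa [← syl_eq h1.2 hS hTS, syl_eq h4.2 hS (hle T h3)]

/-- A 2-group containing a maximal clique contains no other member. -/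
theorem mem_of_le' (h : MClq 𝒯 𝒞) (hS : IsPGroup 2 S) (hle : ∀ T ∈ 𝒞, T ≤ S) (hT : T' ∈ 𝒯)
    (hTS : T' ≤ S) : T' ∈ 𝒞 := by
  obtain ⟨z, hz⟩ := P.ex T' hT
  obtain ⟨a, -, h2, h3⟩ := exists_orderOf_eq_prime_mem_centralizer hS hS le_normalizer
    (by rintro rfl; exact ne_one_of_ord hz.1 (mem_bot.1 (hTS hz.2.1)))
  exact P.mem_of_le h h3 hS (le_cz h2) hle hT hTS

theorem full_cnj (h : Full 𝒯 a) (g : G) : Full 𝒯 (g * a * g⁻¹) := by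
  classical
  obtain ⟨ha, 𝒞, h1, h2⟩ := h
  refine ⟨by rw [ord_conj, ha], _, clq_cnj P.conj h1 g, fun T hT => ?_⟩
  obtain ⟨T, h3, rfl⟩ := Finset.mem_image.1 hT
  rw [← cnj_centralizer]
  exact conj_mem_cnj (h2 T h3)

theorem frame (h : Full 𝒯 a) (hS : IsSylowIn 2 S (Cz a)) : ∃ 𝒞, MClq 𝒯 𝒞 ∧ ∀ T ∈ 𝒞, T ≤ S := by
  classical
  obtain ⟨-, 𝒞, h1, h2⟩ := h
  obtain ⟨c, -, hc⟩ := exists_cnj_le_of_isSylowIn hS (P.clq_pgrp h1.1)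
    (Finset.sup_le fun T hT => le_cz (h2 T hT))
  refine ⟨_, clq_cnj P.conj h1 c, fun T hT => ?_⟩
  obtain ⟨T, h3, rfl⟩ := Finset.mem_image.1 hT
  exact (cnj_mono c (Finset.le_sup (f := id) h3)).trans hc

omit P in
theorem zt_cent (h : Clq 𝒯 𝒞) (hT : T ∈ 𝒞) (hz : ZT T z) : ∀ T' ∈ 𝒞, z ∈ CC[T'] := fun T' h' => by
  by_cases e : T' = T
  · exact e ▸ hz.2.2
  · exact h.2 T' h' T hT e hz.2.1

omit P in
theorem full_zt (h : MClq 𝒯 𝒞) (hT : T ∈ 𝒞) (hz : ZT T z) : Full 𝒯 z :=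
  ⟨hz.1, 𝒞, h, zt_cent h.1 hT hz⟩

theorem exists_frame (h : Full 𝒯 a) (hT : T' ∈ 𝒯) (hc : a ∈ CC[T']) :
    ∃ 𝒞, MClq 𝒯 𝒞 ∧ T' ∈ 𝒞 ∧ ∀ T ∈ 𝒞, a ∈ CC[T] := by
  obtain ⟨S, hS, hle⟩ := exists_isSylowIn_ge (P.pgrp hT) (le_cz hc)
  obtain ⟨𝒞, h1, h2⟩ := P.frame h hS
  exact ⟨𝒞, h1, P.mem_of_le h1 h.1 hS.isPGroup hS.le h2 hT hle, fun T hT =>
    of_le_cz ((h2 T hT).trans hS.le)⟩

theorem lemA (h : Full 𝒯 a) (hT : T' ∈ 𝒯) (hc : a ∈ CC[T']) (hz : ZT T' z) (hN : N ∈ KS 𝒯 z) :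
    CM N a := by
  obtain ⟨𝒞, h1, h2, h3⟩ := P.exists_frame h hT hc
  obtain ⟨T, h4, h5⟩ := P.onto h1 hz.1 (zt_cent h1.1 h2 hz) hN
  exact P.cmc (h1.1.1 T h4) hz.1 h5 (twoE_of_sq (sq_of_ord h.1)) (hc z hz.2.1).symm (h3 T h4)

theorem share (hL : L ∈ KS 𝒯 y) (ha : a * a = 1) (hb : b * b = 1) (c : a * b = b * a) (h1 : CM L a)
    (h2 : CM L b) : Sh 𝒯 a b := by
  obtain ⟨T, s, -, h3⟩ := exists_syl_cent (A := ⊥) (two_sup (twoE_of_sq ha) (twoE_of_sq hb) c)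
    (fun x hx => mem_CMs.1 (sup_le (zpowers_le.2 (mem_CMs.2 h1)) (zpowers_le.2 (mem_CMs.2 h2)) hx))
    IsPGroup.of_bot bot_le bot_le
  exact ⟨T, P.ks_syl hL s, cent_symm h3 (mem_sup_left (mem_zpowers a)),
    cent_symm h3 (mem_sup_right (mem_zpowers b))⟩

theorem share' (hy : orderOf y = 2) (hL : L ∈ KS 𝒯 y) (ha : a * a = 1) (c : a * y = y * a)
    (h1 : CM L a) : Sh 𝒯 a y := P.share hL ha (sq_of_ord hy) c h1 (ks_cm hL)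

theorem tra (ha : Full 𝒯 a) (hb : orderOf b = 2) (hx : orderOf x = 2) (c : a * b = b * a)
    (c1 : x * a = a * x) (c2 : x * b = b * x) (h1 : Sh 𝒯 x a) (h2 : Sh 𝒯 x b) : Sh 𝒯 a b := by
  obtain ⟨Ta, m1, x1, a1⟩ := h1
  obtain ⟨Tb, m2, x2, a2⟩ := h2
  have a2' := sq_of_ord ha.1
  have b2 := sq_of_ord hb
  obtain ⟨La, l1, k1⟩ := P.pump' m1 hx x1
  obtain ⟨Lb, l2, k2⟩ := P.pump' m2 hx x2
  refine P.share k2 a2' b2 c ?_ (P.cmc m2 hx l2 (twoE_of_sq b2) c2.symm a2)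
  by_cases e : La = Lb
  · exact e ▸ P.cmc m1 hx l1 (twoE_of_sq a2') c1.symm a1
  obtain ⟨S, hS, hle⟩ := exists_isSylowIn_ge (isPGroup_sup_of_le_normalizer (twoE_of_sq a2').isPGroup
    (P.pgrp m1) (zpowers_le.2 (centralizer_le_normalizer' _ a1)))
    (sup_le (zpowers_le.2 (mcz c1.symm)) (le_cz x1))
  have s := syl_inf hS (IsPComponentOf.sn l2.1)
  have m := P.ks_syl k2 s
  have cc := comm_syl l1.1 l2.1 e hS.isPGroup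
  rw [syl_eq l1.2 hS.isPGroup (le_sup_right.trans hle)] at cc
  obtain ⟨z, hz⟩ := P.ex Ta m1
  obtain ⟨N, n1, n2⟩ := P.pump' m hz.1 (cent_symm cc hz.2.1)
  have := P.lemA ha m1 a1 hz n2
  exact P.cmc m hx ⟨l2.1, s⟩ (twoE_of_sq a2') c1.symm fun w hw =>
    comm_of_cm hS.isPGroup hw.1 (hle (mem_sup_left (mem_zpowers a))) (n1.2.le hw) this

theorem p4 (ha : Full 𝒯 a) (hy : Full 𝒯 y) (c : a * y = y * a) (h : Sh 𝒯 a y) (hL : L ∈ KS 𝒯 a) :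
    CM L y := by
  obtain ⟨T', m, a1, y1⟩ := h
  obtain ⟨z, hz⟩ := P.ex T' m
  obtain ⟨𝒞₀, h0, h1, -⟩ := P.exists_frame ha m a1
  have a2 := twoE_of_sq (sq_of_ord ha.1)
  have y2 := twoE_of_sq (sq_of_ord hy.1)
  obtain ⟨S, hS, hle⟩ := exists_isSylowIn_ge (two_sup a2 y2 c) (H := Cz z)
    (sup_le (zpowers_le.2 (mcz (a1 z hz.2.1).symm)) (zpowers_le.2 (mcz (y1 z hz.2.1).symm)))
  obtain ⟨𝒞, h2, h3⟩ := P.frame (full_zt h0 h1 hz) hS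
  have k : ∀ w ∈ S, Full 𝒯 w → w ∈ CC[T'] → ∀ T ∈ 𝒞, w ∈ CC[T] := fun w hw f e T hT => by
    obtain ⟨N, n1, n2⟩ := P.pump' (h2.1.1 T hT) hz.1 (of_le_cz ((h3 T hT).trans hS.le))
    exact fun u hu => comm_of_cm hS.isPGroup (h3 T hT hu) hw (n1.2.le hu) (P.lemA f m e hz n2)
  obtain ⟨T, h4, h5⟩ := P.onto h2 ha.1 (k a (hle (mem_sup_left (mem_zpowers a))) ha a1) hL
  exact P.cmc (h2.1.1 T h4) ha.1 h5 y2 c.symm (k y (hle (mem_sup_right (mem_zpowers y))) hy y1 T h4)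

theorem ne_of_clq (h : Clq 𝒯 𝒞) (hT : T ∈ 𝒞) (hT' : T' ∈ 𝒞) (hne : T ≠ T') (h1 : Cmp a T L)
    (h2 : Cmp a T' L') : L ≠ L' := by
  rintro rfl
  exact hne (h2.2.eq_of_le h1.2.isPGroup h1.2.le (h1.2.le_of_le_normalizer' h2.2.isPGroup h2.2.le
    ((h.2 T hT T' hT' hne).trans (centralizer_le_normalizer' _))))

theorem two_le (h : MClq 𝒯 𝒞) : 2 ≤ 𝒞.card := by
  classical
  obtain ⟨T, h1, T', h2, h3⟩ := P.two
  have ne : T ≠ T' := by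
    rintro rfl
    obtain ⟨x, a1, -, a2⟩ := P.noncen h1
    exact a2 (h3 a1)
  rw [← Finset.card_pair ne]
  refine h.2 _ ⟨by simp [h1, h2], ?_⟩
  simp only [Finset.mem_insert, Finset.mem_singleton]
  rintro _ (rfl | rfl) _ (rfl | rfl) e
  exacts [absurd rfl e, h3, cent_symm h3, absurd rfl e]

theorem k2 (h : Full 𝒯 a) : ∃ L ∈ KS 𝒯 a, ∃ L' ∈ KS 𝒯 a, L ≠ L' := by
  obtain ⟨ha, 𝒞, h1, h2⟩ := h
  obtain ⟨T, m, T', m', ne⟩ := Finset.one_lt_card.1 (P.two_le h1)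
  obtain ⟨L, l1, k1⟩ := P.pump' (h1.1.1 T m) ha (h2 T m)
  obtain ⟨L', l2, k2⟩ := P.pump' (h1.1.1 T' m') ha (h2 T' m')
  exact ⟨L, k1, L', k2, P.ne_of_clq h1.1 m m' ne l1 l2⟩

theorem k3 (hB : Big 𝒯) (h : Full 𝒯 a) (L L' : Subgroup G) : ∃ M ∈ KS 𝒯 a, M ≠ L ∧ M ≠ L' := by
  obtain ⟨ha, 𝒞, h1, h2⟩ := h
  obtain ⟨𝒞', b1, b2⟩ := hB
  obtain ⟨T₁, T₂, T₃, m1, m2, m3, n1, n2, n3⟩ := Finset.two_lt_card_iff.1 (b2.trans (h1.2 𝒞' b1))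
  obtain ⟨L₁, l1, k1⟩ := P.pump' (h1.1.1 _ m1) ha (h2 _ m1)
  obtain ⟨L₂, l2, k2⟩ := P.pump' (h1.1.1 _ m2) ha (h2 _ m2)
  obtain ⟨L₃, l3, k3⟩ := P.pump' (h1.1.1 _ m3) ha (h2 _ m3)
  have e1 := P.ne_of_clq h1.1 m1 m2 n1 l1 l2
  have e2 := P.ne_of_clq h1.1 m1 m3 n2 l1 l3
  have e3 := P.ne_of_clq h1.1 m2 m3 n3 l2 l3
  by_contra hc
  push Not at hc
  by_cases g1 : L₁ = L
  · exact e3 ((hc _ k2 (g1 ▸ e1.symm)).trans (hc _ k3 (g1 ▸ e2.symm)).symm)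
  by_cases g2 : L₂ = L
  · exact e2 ((hc _ k1 g1).trans (hc _ k3 (g2 ▸ e3.symm)).symm)
  · exact e1 ((hc _ k1 g1).trans (hc _ k2 g2).symm)

theorem big_of (hy : orderOf y = 2) (h1 : L ∈ KS 𝒯 y) (h2 : L' ∈ KS 𝒯 y) (h3 : M ∈ KS 𝒯 y) (n1 : L ≠ L')
    (n2 : L ≠ M) (n3 : L' ≠ M) : Big 𝒯 := by
  classical
  obtain ⟨S, hS⟩ := exists_isSylowIn 2 (Cz y)
  have s : ∀ K ∈ KS 𝒯 y, IsSylowIn 2 (S ⊓ K) K := fun K hK =>
    syl_inf hS (IsPComponentOf.sn (ks_cmp hK))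
  have d : ∀ K ∈ KS 𝒯 y, ∀ K' ∈ KS 𝒯 y, K ≠ K' → S ⊓ K ≠ S ⊓ K' := fun K hK K' hK' e f =>
    e (P.uniq (P.ks_syl hK (s K hK)) hy ⟨ks_cmp hK, s K hK⟩ ⟨ks_cmp hK', f ▸ s K' hK'⟩)
  refine ⟨({L, L', M} : Finset _).image (S ⊓ ·), ⟨?_, ?_⟩, ?_⟩
  · intro T hT
    obtain ⟨K, hK, rfl⟩ := Finset.mem_image.1 hT
    have : K ∈ KS 𝒯 y := by
      simp only [Finset.mem_insert, Finset.mem_singleton] at hK
      rcases hK with rfl | rfl | rfl <;> assumption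
    exact P.ks_syl this (s K this)
  · intro T hT T' hT' ne
    obtain ⟨K, hK, rfl⟩ := Finset.mem_image.1 hT
    obtain ⟨K', hK', rfl⟩ := Finset.mem_image.1 hT'
    have k : ∀ K ∈ ({L, L', M} : Finset _), K ∈ KS 𝒯 y := fun K hK => by
      simp only [Finset.mem_insert, Finset.mem_singleton] at hK
      rcases hK with rfl | rfl | rfl <;> assumption
    exact comm_syl (ks_cmp (k K hK)) (ks_cmp (k K' hK')) (fun e => ne (by rw [e])) hS.isPGroup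
  · simp only [Finset.image_insert, Finset.image_singleton]
    rw [Finset.card_eq_three.2 ⟨_, _, _, d _ h1 _ h2 n1, d _ h1 _ h3 n2, d _ h2 _ h3 n3, rfl⟩]

end PS

theorem eqns_UnbPA : True := by
  have := @Sh.eq_1.{0}
  have := @Full.eq_1.{0}
  have := @Big.eq_1.{0}
  trivial

end Cfsg.Agent.H10.UP
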