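import Cfsg.Agent.H16.UnbR0
import Cfsg.Agent.H48.Simple
import Cfsg.Agent.H80.SchurHopf
import Cfsg.Agent.S1645
import Cfsg.Agent.S3334
import Cfsg.Agent.S1660
import Cfsg.Agent.S2132
import Cfsg.Agent.S0454
import Cfsg.Agent.S2047
import Cfsg.Agent.S2050

/-! Simple groups with an involution centraliser `2.A_n`: identification and small facts. -/

set_option autoImplicit false

namespace Cfsg.Agent.H10.UX

open Subgroup Cfsg.Agent.H52 Cfsg.Agent.H8 Cfsg.Agent.H16.Unb Equiv Cfsg.Agent.H67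

section
variable {X : Type*} [Group X] {Y : Type*} [Group Y] {n : ℕ}

theorem of_equiv (h : XG n X) (e : X ≃* Y) : XG n Y := by
  obtain ⟨h1, z, h2, h3⟩ := h
  refine ⟨e.symm.isSimpleGroup, e z, by rw [e.orderOf_eq, h2], ndc_congr h3
    ((e.subgroupMap (Cz z)).trans (MulEquiv.subgroupCongr ?_))⟩
  ext y
  obtain ⟨x, rfl⟩ := e.surjective y
  rw [show e x = (e : X →* Y) x from rfl, mem_map_iff_mem e.injective]
  simp only [mem_centralizer_singleton_iff, MonoidHom.coe_coe]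
  rw [← map_mul, ← map_mul, e.injective.eq_iff]

theorem mcl_xg : XG 8 Spor.McL := ⟨H48.simple_McL, S2132.result.2⟩

theorem ly_xg : XG 11 Spor.Ly := by
  obtain ⟨H, h1, -, -, t, h2, h3⟩ := S0454.result
  have := h1.1
  obtain ⟨e⟩ := S1660.result t h2 h3
  exact of_equiv ⟨h1.1, t, h2, h3⟩ e

variable [Finite X]

theorem n_eq (h : XG n X) (h8 : 8 ≤ n) : n = 8 ∨ n = 11 := by
  obtain ⟨h1, z, h2, h3⟩ := h
  exact S1645.result n (by omega) z h2 h3

theorem mcl : XG 8 X ↔ Spor.IsoMcL X := by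
  refine ⟨fun ⟨h1, z, h2, h3⟩ => (S3334.result z h2 h3).resolve_left fun h => ?_,
    fun ⟨e⟩ => of_equiv mcl_xg e.symm⟩
  have z1 := ne_one_of_ord h2
  rcases (inferInstance : (oddCore X).Normal).eq_bot_or_eq_top with e | e
  · rw [e, sup_bot_eq] at h
    have hc : center X = ⊤ := (inferInstance : (center X).Normal).eq_bot_or_eq_top.resolve_left
      fun k => z1 (mem_bot.1 (k ▸ mem_center_iff.2 fun g =>
        mem_centralizer_singleton_iff.1 (h.ge (mem_top g))))
    obtain ⟨-, ⟨f⟩, -⟩ := h3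
    have : Nontrivial (alternatingGroup (Fin 8)) :=
      alternatingGroup.nontrivial_of_three_le_card (by simp)
    obtain ⟨a, ha⟩ := exists_ne (1 : alternatingGroup (Fin 8))
    obtain ⟨b, rfl⟩ := f.surjective a
    induction b using QuotientGroup.induction_on with
    | H b => exact ha (by
        rw [(QuotientGroup.eq_one_iff b).2 (mem_center_iff.2 fun g =>
          Subtype.ext (mem_center_iff.1 (hc ▸ mem_top b.1) g.1)), map_one])
  · have h4 : (Nat.card (oddCore X)).Coprime 2 := coprime_card_pPrimeCore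
    have := orderOf_dvd_natCard (⟨z, e ▸ mem_top z⟩ : oddCore X)
    rw [Subgroup.orderOf_mk, h2] at this
    exact absurd (Nat.Coprime.eq_one_of_dvd h4.symm this) (by decide)

theorem ly : XG 11 X ↔ Spor.IsoLy X :=
  ⟨fun ⟨_, z, h2, h3⟩ => S1660.result z h2 h3, fun ⟨e⟩ => of_equiv ly_xg e.symm⟩

variable [Finite Y]

theorem equiv (h : XG n X) (h' : XG n Y) (h8 : 8 ≤ n) : Nonempty (X ≃* Y) := by
  rcases n_eq h h8 with rfl | rfl
  · obtain ⟨e⟩ := mcl.1 h
    obtain ⟨e'⟩ := mcl.1 h'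
    exact ⟨e.trans e'.symm⟩
  · obtain ⟨e⟩ := ly.1 h
    obtain ⟨e'⟩ := ly.1 h'
    exact ⟨e.trans e'.symm⟩

theorem card_eq (h : XG n X) (h' : XG n Y) (h8 : 8 ≤ n) : Nat.card X = Nat.card Y :=
  (equiv h h' h8).elim fun e => Nat.card_congr e.toEquiv

/-- No perfect central extension by a 2-group. -/
theorem mult (h : XG n X) (h8 : 8 ≤ n) (f : Y →* X) (hf : Function.Surjective f)
    (hk : f.ker ≤ center Y) (h2 : IsPGroup 2 f.ker) (hp : commutator Y = ⊤) : f.ker = ⊥ := by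
  have : Fact (Nat.Prime 2) := ⟨Nat.prime_two⟩
  obtain ⟨m, o, hm⟩ : ∃ m, Odd m ∧ HasCyclicSchurMultiplier X m := by
    rcases n_eq h h8 with rfl | rfl
    · obtain ⟨e⟩ := mcl.1 h
      exact ⟨3, by decide, H80.hasSchurMultiplier_congr_left S2047.result e.symm⟩
    · obtain ⟨e⟩ := ly.1 h
      exact ⟨1, by decide, H80.hasSchurMultiplier_congr_left S2050.result e.symm⟩
  obtain ⟨π, hπ⟩ := H80.exists_surjective_ker_of_stem hm (ξ := f) ⟨hf, hk, hp ▸ le_top⟩
  have h1 := Subgroup.card_dvd_of_surjective π hπ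
  rw [Nat.card_congr Multiplicative.toAdd, Nat.card_zmod] at h1
  obtain ⟨k, hk⟩ := IsPGroup.iff_card.1 h2
  rw [← card_eq_one, hk]
  exact Nat.Coprime.eq_one_of_dvd ((Nat.coprime_two_left.2 o).pow_left k) (hk ▸ h1)

omit [Finite X] in
theorem ea_of_sq {A : Subgroup X} (h : ∀ a ∈ A, a * a = 1) : IsElementaryAbelian 2 A :=
  ⟨⟨⟨fun a b => Subtype.ext (by
    have h1 := inv_eq_of_mul_eq_one_right (h _ (mul_mem a.2 b.2))
    rw [mul_inv_rev, inv_eq_of_mul_eq_one_right (h _ a.2),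
      inv_eq_of_mul_eq_one_right (h _ b.2)] at h1
    exact h1.symm)⟩⟩, fun a ha => by rw [pow_two, h a ha]⟩

theorem xg_ea8 (h : XG n X) (h8 : 8 ≤ n) :
    ∃ A : Subgroup X, (∀ a ∈ A, a * a = 1) ∧ 8 ≤ Nat.card A := by
  obtain ⟨-, z, h2, h3⟩ := h
  obtain ⟨Γ₀, d₀, -⟩ := exists_dc h2 (mem_centralizer_singleton_iff.2 rfl)
    (fun _ => mem_centralizer_singleton_iff.1) h3
  obtain ⟨Γ, d, -⟩ := d₀.restrict (Fin.castLEEmb h8)
  let V : Finset (Perm (Fin 8)) := {1, swap 0 1 * swap 2 3 * (swap 4 5 * swap 6 7),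
    swap 0 2 * swap 1 3 * (swap 4 6 * swap 5 7), swap 0 3 * swap 1 2 * (swap 4 7 * swap 5 6)}
  have sq : ∀ σ ∈ V, ∀ y, (σ, y) ∈ Γ → y * y = 1 := by
    intro σ hσ y hy
    simp only [V, Finset.mem_insert, Finset.mem_singleton] at hσ
    rcases hσ with rfl | rfl | rfl | rfl
    · rcases d.ker y hy with rfl | rfl
      · exact mul_one 1
      · exact d.sq
    all_goals exact d.inv4 (by decide) hy
  have cl : ∀ σ ∈ V, ∀ τ ∈ V, σ * τ ∈ V := by
    simp only [V, Finset.mem_insert, Finset.mem_singleton]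
    rintro _ (rfl | rfl | rfl | rfl) _ (rfl | rfl | rfl | rfl) <;> decide
  have sg : ∀ σ ∈ V, Perm.sign σ = 1 := by
    simp only [V, Finset.mem_insert, Finset.mem_singleton]
    rintro _ (rfl | rfl | rfl | rfl) <;> decide
  let A : Subgroup X :=
    { carrier := {y | ∃ σ ∈ V, (σ, y) ∈ Γ}
      one_mem' := ⟨1, by decide, one_mem _⟩
      mul_mem' := fun ⟨σ, a, b⟩ ⟨τ, c, e⟩ => ⟨_, cl σ a τ c, pmul b e⟩
      inv_mem' := fun {y} ⟨σ, a, b⟩ => by
        rw [inv_eq_of_mul_eq_one_right (sq σ a y b)]; exact ⟨σ, a, b⟩ }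
  refine ⟨A, fun a ⟨σ, b, c⟩ => sq σ b a c, ?_⟩
  choose y hy using fun σ : V => d.surj σ (sg σ σ.2)
  let f : V × Bool → A := fun p => if p.2 then ⟨y p.1, p.1, p.1.2, hy p.1⟩
    else ⟨y p.1 * z, p.1, p.1.2, d.mul_t (hy p.1)⟩
  have m : ∀ p, (p.1.1, (f p).1) ∈ Γ := by
    rintro ⟨σ, _ | _⟩
    · exact d.mul_t (hy σ)
    · exact hy σ
  have inj : Function.Injective f := by
    rintro ⟨σ, b⟩ ⟨τ, c⟩ e
    obtain rfl : σ = τ := Subtype.ext (d.perm_eq (m (σ, b)) (e ▸ m (τ, c)))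
    have e' := congrArg Subtype.val e
    cases b <;> cases c
    · rfl
    · exact absurd (mul_eq_left.1 e') d.ne
    · exact absurd (mul_eq_left.1 e'.symm) d.ne
    · rfl
  have := Nat.card_le_card_of_injective f inj
  rwa [Nat.card_prod, Nat.card_eq_fintype_card, Fintype.card_coe, show V.card = 4 by decide,
    Nat.card_eq_fintype_card, Fintype.card_bool] at this

end

variable {G : Type*} [Group G] [Finite G] {J T : Subgroup G} {n : ℕ}

theorem tau_eq (h : XT n J) (h8 : 8 ≤ n) {G' : Type*} [Group G'] [Finite G'] {J' : Subgroup G'}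
    (h' : XT n J') : tau 2 J = tau 2 J' := card_eq h h' h8

theorem ea8 (h : XT n J) (h8 : 8 ≤ n) (hT : IsSylowIn 2 T J) :
    ∃ A ≤ T, IsElementaryAbelian 2 A ∧ 8 ≤ Nat.card A := by
  have : Fact (Nat.Prime 2) := ⟨Nat.prime_two⟩
  obtain ⟨B, h1, h2⟩ := xg_ea8 h h8
  let q := QuotientGroup.mk' (pPrimeCore 2 J)
  have hS := (hT.subgroupOf le_rfl).map q
  rw [subgroupOf_self, map_top_of_surjective _ (QuotientGroup.mk'_surjective _)] at hS
  obtain ⟨g, -, l⟩ := hS.exists_conj_le (Q := B) (fun a => ⟨1, Subtype.ext (by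
    show a.1 ^ 2 ^ 1 = 1
    rw [pow_one, pow_two, h1 a a.2])⟩) le_top
  let r : T →* J ⧸ pPrimeCore 2 J := q.comp (inclusion hT.le)
  have inj : Function.Injective r := (injective_iff_map_eq_one r).2 fun a ha =>
    Subtype.ext ((twoE_of_mem hT.isPGroup a.2).eq_one (odd_of_opp (L := J)
      ⟨inclusion hT.le a, (QuotientGroup.eq_one_iff _).1 ha, rfl⟩))
  refine ⟨_, map_subtype_le ((cnj g B).comap r), ea_of_sq ?_, ?_⟩
  · rintro _ ⟨a, ⟨b, hb, e⟩, rfl⟩
    refine congrArg Subtype.val (inj (show r (a * a) = r 1 from ?_))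
    rw [map_mul, ← e, ← map_mul, h1 b hb, map_one, map_one]
  · rw [card_map_of_injective (subtype_injective _), ← card_map_of_injective inj,
      map_comap_eq_self (fun x hx => by
        obtain ⟨a, ha, rfl⟩ := l hx
        exact ⟨⟨a, ha⟩, rfl⟩), card_cnj]
    exact h2

/-! ### Two commuting quaternion groups on at most eleven points -/

section Perm

variable {α : Type*} [Fintype α]

/-- The regular action of the quaternion group on eight points. -/
structure Tab (c d : α → α) (x0 x1 x2 x3 x4 x5 x6 x7 : α) : Prop where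
  c0 : c x0 = x2
  c1 : c x1 = x3
  c2 : c x2 = x1
  c3 : c x3 = x0
  c4 : c x4 = x6
  c5 : c x5 = x7
  c6 : c x6 = x5
  c7 : c x7 = x4
  d0 : d x0 = x4
  d1 : d x1 = x5
  d2 : d x2 = x7
  d3 : d x3 = x6
  d4 : d x4 = x1
  d5 : d x5 = x0
  d6 : d x6 = x2
  d7 : d x7 = x3
  ne : x1 ≠ x0

omit [Fintype α] in
theorem Tab.nodup {c d : α → α} {x0 x1 x2 x3 x4 x5 x6 x7 : α}
    (h : Tab c d x0 x1 x2 x3 x4 x5 x6 x7) : [x0, x1, x2, x3, x4, x5, x6, x7].Nodup := by
  obtain ⟨_, _, _, _, _, _, _, _, _, _, _, _, _, _, _, _, _⟩ := h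
  simp only [List.nodup_cons, List.mem_cons, List.not_mem_nil, or_false, not_or,
    not_false_eq_true, List.nodup_nil, and_true]
  refine ⟨⟨?_, ?_, ?_, ?_, ?_, ?_, ?_⟩, ⟨?_, ?_, ?_, ?_, ?_, ?_⟩, ⟨?_, ?_, ?_, ?_, ?_⟩,
    ⟨?_, ?_, ?_, ?_⟩, ⟨?_, ?_, ?_⟩, ⟨?_, ?_⟩, ?_⟩ <;> intro e <;> grind

theorem Tab.mem (h11 : Fintype.card α ≤ 11) {c d : α → α}
    {x0 x1 x2 x3 x4 x5 x6 x7 y0 y1 y2 y3 y4 y5 y6 y7 : α} (h : Tab c d x0 x1 x2 x3 x4 x5 x6 x7)
    (h' : Tab c d y0 y1 y2 y3 y4 y5 y6 y7) : y0 ∈ [x0, x1, x2, x3, x4, x5, x6, x7] := by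
  by_contra k
  have := (List.Nodup.append h.nodup h'.nodup ?_).length_le_card
  · simp only [List.length_append, List.length_cons, List.length_nil] at this
    omega
  obtain ⟨_, _, _, _, _, _, _, _, _, _, _, _, _, _, _, _, _⟩ := h
  obtain ⟨_, _, _, _, _, _, _, _, _, _, _, _, _, _, _, _, _⟩ := h'
  simp only [List.mem_cons, List.not_mem_nil, or_false, not_or] at k
  intro a h1 h2
  simp only [List.mem_cons, List.not_mem_nil, or_false] at h1 h2
  rcases h1 with h1 | h1 | h1 | h1 | h1 | h1 | h1 | h1 <;>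
    rcases h2 with h2 | h2 | h2 | h2 | h2 | h2 | h2 | h2 <;> grind

/-- A four-group commuting with a faithful quaternion group contains its centre. -/
theorem perm_qq (h11 : Fintype.card α ≤ 11) {a b c d γ : Perm α} (g2 : γ * γ = 1) (g1 : γ ≠ 1)
    (hc : c * c = γ) (hd : d * d = γ) (hcd : c * d * (c * d) = γ) (a2 : a * a = 1)
    (b2 : b * b = 1) (ab2 : a * b * (a * b) = 1) (ac : a * c = c * a) (ad : a * d = d * a)
    (bc : b * c = c * b) (bd : b * d = d * b) (a1 : a ≠ 1) (b1 : b ≠ 1) (ab1 : a * b ≠ 1) :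
    γ = a ∨ γ = b ∨ γ = a * b := by
  have ap : ∀ {u v : Perm α}, u = v → ∀ x, u x = v x := fun e x => by rw [e]
  have ex : ∀ {u : Perm α}, u ≠ 1 → ∃ x, u x ≠ x := fun {u} h => by
    by_contra k
    push Not at k
    exact h (Equiv.ext k)
  have gc : γ * c = c * γ := by rw [← hc, mul_assoc]
  have gd : γ * d = d * γ := by rw [← hd, mul_assoc]
  have e1 : ∀ x, γ (γ x) = x := ap g2
  have e2 : ∀ x, c (c x) = γ x := ap hc
  have e3 : ∀ x, d (d x) = γ x := ap hd
  have e4 : ∀ x, d (c x) = c (d (γ x)) := ap (anti g2 hc hd hcd)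
  have e5 : ∀ x, γ (c x) = c (γ x) := ap gc
  have e6 : ∀ x, γ (d x) = d (γ x) := ap gd
  have tab : ∀ x, γ x ≠ x →
      Tab c d x (γ x) (c x) (c (γ x)) (d x) (d (γ x)) (c (d x)) (c (d (γ x))) := fun x hx => by
    refine ⟨rfl, rfl, e2 x, ?_, rfl, rfl, ?_, ?_, rfl, rfl, e4 x, ?_, e3 x, ?_, ?_, ?_, hx⟩ <;>
      simp only [e1, e2, e3, e4, e6]
  have one : ∀ r : Perm α, r * r = 1 → r * c = c * r → r * d = d * r → r ≠ 1 →
      (∀ u, γ u = u → r u = u) → γ = r := by
    intro r r2 rc rd r1 rf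
    have f1 : ∀ x, r (r x) = x := ap r2
    have f2 : ∀ x, r (c x) = c (r x) := ap rc
    have f3 : ∀ x, r (d x) = d (r x) := ap rd
    have f4 : ∀ x, r (γ x) = γ (r x) := fun x => by rw [← e2, f2, f2, e2]
    obtain ⟨x, hx⟩ := ex r1
    have gx : γ x ≠ x := fun e => hx (rf x e)
    have rx : r x = γ x := by
      have := (tab x gx).mem h11 (tab (r x) fun e => gx (r.injective (by rw [f4, e])))
      simp only [List.mem_cons, List.not_mem_nil, or_false] at this
      have k := f1 x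
      rcases this with h | h | h | h | h | h | h | h
      · exact absurd h hx
      · exact h
      all_goals
        rw [h] at k
        simp only [f2, f3, f4, h, e1, e2, e3, e4, e5, e6] at k
        exact absurd k gx
    ext y
    by_cases gy : γ y = y
    · rw [gy, rf y gy]
    · have := (tab x gx).mem h11 (tab y gy)
      simp only [List.mem_cons, List.not_mem_nil, or_false] at this
      rcases this with h | h | h | h | h | h | h | h <;> rw [h] <;>
        simp only [f2, f3, f4, rx, e1, e5, e6]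
  have ab : a * b = b * a := by
    have := inv_eq_of_mul_eq_one_right ab2
    rw [mul_inv_rev, inv_eq_of_mul_eq_one_right a2, inv_eq_of_mul_eq_one_right b2] at this
    exact this.symm
  obtain ⟨x, gx⟩ := ex g1
  have four : ∀ u1 u2 u3 u4, γ u1 = u1 → γ u2 = u2 → γ u3 = u3 → γ u4 = u4 →
      ¬ [u1, u2, u3, u4].Nodup := fun u1 u2 u3 u4 k1 k2 k3 k4 nd => by
    have := (List.Nodup.append (tab x gx).nodup nd fun y h1 h2 => ?_).length_le_card
    · simp only [List.length_append, List.length_cons, List.length_nil] at this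
      omega
    simp only [List.mem_cons, List.not_mem_nil, or_false] at h1 h2
    have k : γ y = y := by rcases h2 with h | h | h | h <;> rw [h] <;> assumption
    rcases h1 with h | h | h | h | h | h | h | h <;> rw [h] at k
    · exact gx k
    all_goals
      simp only [e1, e5, e6, EmbeddingLike.apply_eq_iff_eq] at k
      first | exact gx k | exact gx k.symm
  have ag : ∀ u, γ (a u) = a (γ u) := fun u => by
    rw [← e2, ← e2, ← Perm.mul_apply c a, ← ac, Perm.mul_apply, ← Perm.mul_apply c a, ← ac]; rfl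
  have bg : ∀ u, γ (b u) = b (γ u) := fun u => by
    rw [← e2, ← e2, ← Perm.mul_apply c b, ← bc, Perm.mul_apply, ← Perm.mul_apply c b, ← bc]; rfl
  by_cases ha : ∀ u, γ u = u → a u = u
  · exact .inl (one a a2 ac ad a1 ha)
  by_cases hb : ∀ u, γ u = u → b u = u
  · exact .inr (.inl (one b b2 bc bd b1 hb))
  by_cases hab : ∀ u, γ u = u → (a * b) u = u
  · exact .inr (.inr (one _ ab2 (by rw [mul_assoc, bc, ← mul_assoc, ac, mul_assoc])
      (by rw [mul_assoc, bd, ← mul_assoc, ad, mul_assoc]) ab1 hab))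
  exfalso
  push Not at ha hb hab
  obtain ⟨u, u1, u2⟩ := ha
  obtain ⟨v, v1, v2⟩ := hb
  obtain ⟨w, w1, w2⟩ := hab
  have f1 : ∀ x, a (a x) = x := ap a2
  have f2 : ∀ x, b (b x) = x := ap b2
  have f3 : ∀ x, a (b x) = b (a x) := ap ab
  rw [Perm.mul_apply] at w2
  have p1 := four u (a u) v (b v) u1 (by rw [ag, u1]) v1 (by rw [bg, v1])
  have p2 := four u (a u) w (a (b w)) u1 (by rw [ag, u1]) w1 (by rw [ag, bg, w1])
  have p3 := four u (a u) (b u) (a (b u)) u1 (by rw [ag, u1]) (by rw [bg, u1]) (by rw [ag, bg, u1])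
  simp only [List.nodup_cons, List.mem_cons, List.not_mem_nil, or_false, not_or,
    not_false_eq_true, List.nodup_nil, and_true] at p1 p2 p3
  grind

end Perm

end Cfsg.Agent.H10.UX
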