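import Cfsg.Agent.H16.UnbC
import Cfsg.Agent.H10.UnbXB

/-! Two commuting quaternion groups acting on a group of type `X` modulo its core. -/

set_option autoImplicit false

namespace Cfsg.Agent.H10.UX

open Subgroup Cfsg.Agent.H52 Cfsg.Agent.H8 Cfsg.Agent.H16.Unb Equiv
open scoped commutatorElement

theorem center_eq_bot {X : Type*} [Group X] {n : ℕ} (h : XG n X) (h8 : 8 ≤ n) : center X = ⊥ := by
  obtain ⟨h1, z, -, -, ⟨f⟩, -⟩ := h
  refine (inferInstance : (center X).Normal).eq_bot_or_eq_top.resolve_right fun hc => ?_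
  have : Nontrivial (alternatingGroup (Fin n)) :=
    alternatingGroup.nontrivial_of_three_le_card (by simp; omega)
  obtain ⟨a, ha⟩ := exists_ne (1 : alternatingGroup (Fin n))
  obtain ⟨b, rfl⟩ := f.surjective a
  induction b using QuotientGroup.induction_on with
  | H b => exact ha (by
      rw [(QuotientGroup.eq_one_iff b).2 (mem_center_iff.2 fun g =>
        Subtype.ext (mem_center_iff.1 (hc ▸ mem_top b.1) g.1)), map_one])

variable {G : Type*} [Group G] [Finite G] {J : Subgroup G} {n : ℕ}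

omit [Finite G] in
/-- The elements of `J` centralising `J / O(J)` lie in `O(J)`. -/
theorem opp_of_cm (h : XT n J) (h8 : 8 ≤ n) {x : G} (hx : x ∈ J) (hc : CM J x) : x ∈ Opp 2 J := by
  have : (QuotientGroup.mk ⟨x, hx⟩ : J ⧸ pPrimeCore 2 J) ∈ center _ := mem_center_iff.2 fun g => by
    induction g using QuotientGroup.induction_on with
    | H g =>
      obtain ⟨a, ha, e⟩ := hc.2 g g.2
      rw [← commutatorElement_eq_one_iff_mul_comm, ← QuotientGroup.mk'_apply,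
        ← QuotientGroup.mk'_apply, ← map_commutatorElement, QuotientGroup.mk'_apply,
        QuotientGroup.eq_one_iff]
      rwa [show ⁅g, (⟨x, hx⟩ : J)⁆ = a from Subtype.ext e.symm]
  rw [center_eq_bot h h8, mem_bot, QuotientGroup.eq_one_iff] at this
  exact ⟨_, this, rfl⟩

theorem two_q8 {p q z : G} (s : z * z = 1) (a1 : p * p = z) (a2 : q * q = z)
    (a3 : p * q * (p * q) = z) : IsPGroup 2 (zpowers q ⊔ zpowers p : Subgroup G) := by
  have tw : ∀ {x : G}, x * x = z → IsPGroup 2 (zpowers x) := fun {x} e =>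
    TwoE.isPGroup ⟨2, by rw [← s, ← e]; norm_num [pow_succ, mul_assoc]⟩
  refine (tw a2).to_sup_of_normal_right' (tw a1) (zpowers_le.2 (mem_normalizer_fintype ?_))
  rintro _ ⟨k, rfl⟩
  show q * p ^ k * q⁻¹ ∈ zpowers p
  rw [← conj_zpow]
  refine zpow_mem ?_ k
  have : q * p * q⁻¹ = p * (p * p) := by rw [anti s a1 a2 a3, a1, ← a2]; group
  rw [this]
  exact mul_mem (mem_zpowers p) (mul_mem (mem_zpowers p) (mem_zpowers p))

/-- `XT.noqq` from `XT.sq` and the action of `N(J) ∩ C(v)` on the points of `C_J(v)`. -/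
theorem noqq_of (h : XT n J) (h8 : 8 ≤ n) (hsq : ∀ w ∈ NN[J], ∃ l ∈ J, CM J (w * w * l⁻¹))
    (hρ : ∀ v ∈ J, orderOf v = 2 → ∃ ρ : G → Perm (Fin n),
      (∀ x ∈ NN[J] ⊓ Cz v, ∀ y ∈ NN[J] ⊓ Cz v, ρ (x * y) = ρ x * ρ y) ∧
        ∀ y ∈ NN[J] ⊓ Cz v, ρ y = 1 ↔ CM J y ∨ CM J (y * v))
    {p₁ q₁ p₂ q₂ z₁ z₂ : G} (n1 : p₁ ∈ NN[J]) (n2 : q₁ ∈ NN[J]) (n3 : p₂ ∈ NN[J])
    (n4 : q₂ ∈ NN[J]) (s1 : z₁ * z₁ = 1) (s2 : z₂ * z₂ = 1) (a1 : p₁ * p₁ = z₁) (a2 : q₁ * q₁ = z₁)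
    (a3 : p₁ * q₁ * (p₁ * q₁) = z₁) (b1 : p₂ * p₂ = z₂) (b2 : q₂ * q₂ = z₂)
    (b3 : p₂ * q₂ * (p₂ * q₂) = z₂) (c1 : p₁ * p₂ = p₂ * p₁) (c2 : p₁ * q₂ = q₂ * p₁)
    (c3 : q₁ * p₂ = p₂ * q₁) (c4 : q₁ * q₂ = q₂ * q₁) :
    CM J z₁ ∨ CM J z₂ ∨ CM J (z₁ * z₂) := by
  by_contra k
  simp only [not_or] at k
  obtain ⟨k1, k2, k3⟩ := k
  have h11 : n ≤ 11 := by rcases n_eq h h8 with e | e <;> omega
  have cen : ∀ {x p q : G}, p * x = x * p → q * x = x * q → zpowers q ⊔ zpowers p ≤ Cz x :=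
    fun a b => sup_le (zpowers_le.2 (mem_centralizer_singleton_iff.2 b))
      (zpowers_le.2 (mem_centralizer_singleton_iff.2 a))
  set B : Subgroup G := (zpowers q₁ ⊔ zpowers p₁) ⊔ (zpowers q₂ ⊔ zpowers p₂) with hB
  have B2 : IsPGroup 2 B := (two_q8 s1 a1 a2 a3).to_sup_of_normal_right' (two_q8 s2 b1 b2 b3)
    (sup_le (zpowers_le.2 (centralizer_le_normalizer _ (mem_centralizer_iff.2
        fun g hg => mem_centralizer_singleton_iff.1 (cen c3.symm c4.symm hg))))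
      (zpowers_le.2 (centralizer_le_normalizer _ (mem_centralizer_iff.2
        fun g hg => mem_centralizer_singleton_iff.1 (cen c1.symm c2.symm hg)))))
  have BN : B ≤ NN[J] := sup_le (sup_le (zpowers_le.2 n2) (zpowers_le.2 n1))
    (sup_le (zpowers_le.2 n4) (zpowers_le.2 n3))
  have sq : ∀ {x p : G}, x * p = p * x → x * (p * p) = p * p * x := fun e => by
    rw [← mul_assoc, e, mul_assoc, e, mul_assoc]
  have Bz : B ≤ Cz z₁ := sup_le (cen (a1 ▸ sq rfl) (a2 ▸ sq rfl))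
    (cen (a1 ▸ sq c1.symm) (a1 ▸ sq c2.symm))
  obtain ⟨l, hl, cl⟩ := hsq p₁ n1
  rw [a1] at cl
  obtain ⟨l', h1, h2, h3⟩ := lift_cent B2 BN hl fun b hb => opp_of_cm h h8 (by
    rw [commutatorElement_def, mul_assoc, mul_assoc, ← mul_assoc b]
    exact mul_mem hl ((mem_normalizer_iff.1 (BN hb) _).1 (inv_mem hl))) (by
    have := cl.inv.mul (cl.conj (BN hb))
    rwa [show (z₁ * l⁻¹)⁻¹ * (b * (z₁ * l⁻¹) * b⁻¹) = ⁅l, b⁆ by
      rw [← mul_assoc b, mem_centralizer_singleton_iff.1 (Bz hb), commutatorElement_def]; group]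
      at this)
  have m1 : p₁ ∈ B := mem_sup_left (mem_sup_right (mem_zpowers _))
  have m2 : q₁ ∈ B := mem_sup_left (mem_sup_left (mem_zpowers _))
  have m3 : p₂ ∈ B := mem_sup_right (mem_sup_right (mem_zpowers _))
  have m4 : q₂ ∈ B := mem_sup_right (mem_sup_left (mem_zpowers _))
  have zB : z₁ ∈ B := a1 ▸ mul_mem m1 m1
  have c0 : CM J (z₁ * l'⁻¹) := by
    have := cl.mul (CM.of_opp h3).inv
    rwa [show z₁ * l⁻¹ * (l' * l⁻¹)⁻¹ = z₁ * l'⁻¹ by group] at this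
  have zl : Commute z₁ l' := h2 z₁ zB
  have o2 : l' * l' ∈ Opp 2 J := opp_of_cm h h8 (mul_mem h1 h1) (by
    have := (c0.mul c0).inv
    rwa [show (z₁ * l'⁻¹ * (z₁ * l'⁻¹))⁻¹ = l' * l' by
      rw [mul_assoc, ← mul_assoc l'⁻¹, ← zl.inv_right.eq, mul_assoc, ← mul_assoc, s1, one_mul,
        mul_inv_rev, inv_inv]]
      at this)
  obtain ⟨m, hm⟩ := odd_of_opp o2
  set v := l' ^ (2 * m + 1) with hv
  have vv : v * v = 1 := by
    rw [hv, ← (Commute.refl l').mul_pow, ← hm, pow_orderOf_eq_one]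
  have cv : CM J (z₁ * v) := by
    have := c0.mul (CM.of_opp (pow_mem o2 (m + 1)))
    rwa [show z₁ * l'⁻¹ * (l' * l') ^ (m + 1) = z₁ * v by
      rw [hv, ← pow_two, ← pow_mul]; group] at this
  obtain ⟨ρ, mul, ker⟩ := hρ v (pow_mem h1 _) (ord_two vv fun e => k1 (by simpa [e] using cv))
  have M : B ≤ NN[J] ⊓ Cz v := le_inf BN fun b hb =>
    mem_centralizer_singleton_iff.2 (pow_mem h2 _ b hb)
  have mu : ∀ {x y : G}, x ∈ B → y ∈ B → ρ (x * y) = ρ x * ρ y := fun a b => mul _ (M a) _ (M b)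
  have r1 : ρ z₁ = 1 := (ker _ (M zB)).2 (.inr cv)
  have r0 : ρ 1 = 1 := (ker _ (one_mem _)).2 (.inl CM.one)
  have key : ∀ y ∈ B, y * y = z₁ → ρ y ≠ 1 := fun y hy e r => k1 (by
    rcases (ker y (M hy)).1 r with c | c
    · exact e ▸ c.mul c
    · have := c.mul c
      rwa [mul_assoc, ← mul_assoc v, ← mem_centralizer_singleton_iff.1 (M hy).2, mul_assoc y v, vv,
        mul_one, e] at this)
  have z2 : z₂ ∈ B := b1 ▸ mul_mem m3 m3
  have fin : ∀ y ∈ B, y * y = z₁ → y * z₂ = z₂ * y → ρ z₂ ≠ ρ y := fun y hy e c r =>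
    key (y * z₂) (mul_mem hy z2) (by
      rw [mul_assoc, ← mul_assoc z₂, ← c, mul_assoc, s2, mul_one, e]) (by
      rw [mu hy z2, r, ← mu hy hy, e, r1])
  have cm : ∀ {x y : G}, x ∈ B → y ∈ B → x * y = y * x → ρ x * ρ y = ρ y * ρ x :=
    fun a b e => by rw [← mu a b, e, mu b a]
  have m12 := mul_mem m1 m2
  have m34 := mul_mem m3 m4
  rcases perm_qq (a := ρ p₁) (b := ρ q₁) (c := ρ p₂) (d := ρ q₂) (γ := ρ z₂) (by simpa using h11)
    (by rw [← mu z2 z2, s2, r0]) (fun r => by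
      rcases (ker _ (M z2)).1 r with c | c
      · exact k2 c
      · have := cv.mul c.inv
        rw [show z₁ * v * (z₂ * v)⁻¹ = z₁ * z₂⁻¹ by group, inv_eq_of_mul_eq_one_right s2] at this
        exact k3 this)
    (by rw [← mu m3 m3, b1]) (by rw [← mu m4 m4, b2]) (by rw [← mu m3 m4, ← mu m34 m34, b3])
    (by rw [← mu m1 m1, a1, r1]) (by rw [← mu m2 m2, a2, r1])
    (by rw [← mu m1 m2, ← mu m12 m12, a3, r1]) (cm m1 m3 c1) (cm m1 m4 c2) (cm m2 m3 c3)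
    (cm m2 m4 c4) (key _ m1 a1) (key _ m2 a2) (mu m1 m2 ▸ key _ m12 a3) with e | e | e
  · exact fin _ m1 a1 (b1 ▸ sq c1) e
  · exact fin _ m2 a2 (b1 ▸ sq c3) e
  · exact fin _ m12 a3 (b1 ▸ sq (by rw [mul_assoc, c3, ← mul_assoc, c1, mul_assoc]))
      (e.trans (mu m1 m2).symm)

end Cfsg.Agent.H10.UX
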