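import Cfsg.Agent.H96.VbDefs
import Cfsg.Agent.H92.UL2

/-! A critical subgroup of `U T` inside `E` with characteristic subgroup `W` is `E`. -/

set_option autoImplicit false
set_option linter.unusedSimpArgs false
set_option linter.unnecessarySeqFocus false

namespace Cfsg.Agent.H10.VbE

open Cfsg.Agent.H39 Cfsg.Agent.H15.O8 Cfsg.Agent.H96.VB Cfsg.Agent.H92.UL Cfsg.Agent.H97 Subgroup
open scoped commutatorElement

universe u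

theorem swap {G : Type*} [Group G] {X : Subgroup G} {g k : G} (h : ⁅g, k⁆ ∈ X) : ⁅k, g⁆ ∈ X :=
  commutatorElement_inv g k ▸ inv_mem h

theorem ch_conj {G : Type u} [Group G] {P X : Subgroup G} (h : Ch P X) (hX : X.Normal) (k : G) :
    Ch (P.map (MulAut.conj k).toMonoidHom) X := by
  have e : (P.map (MulAut.conj k).toMonoidHom).map (MulAut.conj k).symm.toMonoidHom = P := by
    ext g; simp [mul_assoc]
  convert Ch.comap (P := P.map (MulAut.conj k).toMonoidHom) (MulAut.conj k).symm (e.symm ▸ h)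
  ext g
  exact (hX.mem_comm_iff.trans (by simp [mul_assoc])).symm

variable {K : Type u} [Field K] {T : Tits K} {g p : U T} {P : Subgroup (U T)}

theorem cEE (hg : g ∈ E T) (hp : p ∈ E T) : ⁅g, p⁆ ∈ O T := by
  rw [mem_E] at hg hp
  o8s; simp only [hg, hp]
  refine ⟨?_, ?_, ?_⟩ <;> o8ring T

theorem cJE (hg : g ∈ O T) (hp : p ∈ E T) : ⁅g, p⁆ ∈ Y T ∧
    ⁅g, p⁆.a3 = g.a2 * p.b8 + g.b4 * p.b2 ∧ ⁅g, p⁆.a7 = g.b6 * p.b8 + g.a8 * p.b2 := by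
  obtain ⟨h1, h2, h3⟩ := hg
  rw [mem_E] at hp
  o8s; simp only [h1, h2, h3, hp]
  refine ⟨⟨?_, ?_, ?_, ?_, ?_, ?_, ?_⟩, ?_, ?_⟩ <;> o8ring T

theorem cYE (hg : g ∈ Y T) (hp : p ∈ E T) : ⁅g, p⁆ ∈ R T ∧
    ⁅g, p⁆.a5 = g.a3 * T.θ p.b8 + g.a7 * T.θ p.b2 := by
  refine ⟨(charY g hg.1).1 hg p hp, ?_⟩
  obtain ⟨h1, h2, h3, h4, h5, h6, h7⟩ := hg
  rw [mem_E] at hp
  o8s; simp only [h1, h2, h3, h4, h5, h6, h7, hp]
  o8ring T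

theorem cJJ (hg : g ∈ O T) (hp : p ∈ O T) : ⁅g, p⁆ ∈ R T ∧
    ⁅g, p⁆.a5 = g.a2 * p.a8 + g.a8 * p.a2 + g.b4 * p.b6 + g.b6 * p.b4 := by
  obtain ⟨h1, h2, h3⟩ := hg
  obtain ⟨k1, k2, k3⟩ := hp
  o8s; simp only [h1, h2, h3, k1, k2, k3]
  refine ⟨⟨?_, ?_, ?_, ?_, ?_, ?_, ?_, ?_, ?_⟩, ?_⟩ <;> o8ring T

theorem cRE (hg : g ∈ R T) (hp : p ∈ E T) : ⁅g, p⁆ ∈ W T ∧
    ⁅g, p⁆.a4 = g.a5 * p.b2 ∧ ⁅g, p⁆.a6 = g.a5 * p.b8 := by
  refine ⟨(charR g hg.1).1 hg p hp, ?_⟩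
  obtain ⟨h1, h2, h3, h4, h5, h6, h7, h8, h9⟩ := hg
  rw [mem_E] at hp
  o8s; simp only [h1, h2, h3, h4, h5, h6, h7, h8, h9, hp]
  constructor <;> o8ring T

theorem mkW (h : g ∈ R T) (e : g.a5 = 0) : g ∈ W T :=
  let ⟨h1, h2, h3, h4, h5, h6, h7, h8, h9⟩ := h; ⟨h1, h2, h3, h4, h5, e, h6, h7, h8, h9⟩

theorem RY (h : g ∈ R T) : g ∈ Y T :=
  let ⟨h1, h2, h3, _, h5, h6, _, h8, h9⟩ := h; ⟨h1, h2, h3, h5, h6, h8, h9⟩

theorem YJ (h : g ∈ Y T) : g ∈ O T := ⟨h.1, h.2.1, h.2.2.2.2.2.1⟩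

theorem cRJ (hg : g ∈ R T) (hp : p ∈ O T) : ⁅g, p⁆ = 1 := by
  obtain ⟨⟨h1, h2, h3, h4, h5, h6, h7, h8, h9, h10⟩, e1, e2⟩ := cRE hg hp.1
  rw [hp.2.1, mul_zero] at e1
  rw [hp.2.2, mul_zero] at e2
  ext <;> assumption

theorem invJ (hg : g ∈ E T) (h : g * g = 1) : g ∈ O T := by
  rw [mem_E] at hg
  replace h := coords h
  o8s at h
  simp only [hg] at h
  exact ⟨hg, nrm_eq_zero (T := T) (by o8g T), nrm_eq_zero (T := T) (by o8g T)⟩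

theorem invAY (hg : g ∈ O T) (h2 : g.a2 = 0) (h : g * g = 1) : g ∈ A T ∨ g ∈ Y T := by
  obtain ⟨a1, b2, a2, a3, b4, a4, a5, b6, a6, a7, b8, a8⟩ := g
  obtain ⟨rfl : a1 = 0, rfl : b2 = 0, rfl : b8 = 0⟩ := hg
  obtain rfl : a2 = 0 := h2
  replace h := coords h
  o8s at h ⊢
  obtain rfl : b6 = 0 := nrm_eq_zero (T := T) (by
    by_cases h6 : b6 = 0
    · simp [h6]
    · obtain rfl : b4 = 0 := by o8g T
      obtain rfl : a3 = 0 := by o8g T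
      o8g T)
  obtain rfl : b4 = 0 := nrm_eq_zero (T := T) (by o8g T)
  o8g T

theorem rinv (h : Cr P) (hE : P ≤ E T) (hY : Y T ≤ P) (hW : Ch P (W T)) (hR : Ch P (R T)) :
    P = E T := by
  have hJ : Ch P (P ⊓ O T) := by
    convert hR.cent using 1
    ext g
    refine and_congr_right fun hg => ⟨fun e r hr =>
      commutatorElement_eq_one_iff_mul_comm.1 (cRJ hr e), fun e => ?_⟩
    obtain ⟨-, e1, e2⟩ := cRE (g := x5 T 1) (by o8s) (hE hg)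
    rw [commutatorElement_eq_one_iff_mul_comm.2 (e _ (by show _ ∈ R T; o8s))] at e1 e2
    exact ⟨hE hg, by simpa [x5] using e1.symm, by simpa [x5] using e2.symm⟩
  have JP : O T ≤ P := fun g hg => h.chain [P ⊓ O T, R T] (by simp [hJ, hR]) g
    ⟨fun x hx => have := (cJE hg (hE hx)).1; ⟨hY this, YJ this⟩, fun x hx => (cJJ hg hx.2).1,
      fun x hx => mem_bot.1 (swap (mem_bot.2 (cRJ hx hg)))⟩
  rw [inf_eq_right.2 JP] at hJ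
  have hY' : Ch P (Y T) := Ch.of_iff (hJ.ivs.inter (hW.ivs.comm hJ.ivs)) fun g =>
    ⟨fun hg => ⟨hY hg, YJ hg, fun x _ hx => mkW (cJJ (YJ hg) hx).1 (by
      obtain ⟨-, -, h3, h4, h5, -, h7⟩ := id hg
      simp [(cJJ (YJ hg) hx).2, h3, h4, h5, h7])⟩, fun ⟨_, hg, e⟩ => by
      have k : ∀ x ∈ O T, g.a2 * x.a8 + g.a8 * x.a2 + g.b4 * x.b6 + g.b6 * x.b4 = 0 :=
        fun x hx => (cJJ hg hx).2.symm.trans (e x (JP hx) hx).2.2.2.2.2.1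
      exact ⟨hg.1, hg.2.1, by simpa [x8] using k (x8 T 1) (by o8s),
        by simpa [y6] using k (y6 T 1) (by o8s), by simpa [y4] using k (y4 T 1) (by o8s), hg.2.2,
        by simpa [x2] using k (x2 T 1) (by o8s)⟩⟩
  exact le_antisymm hE fun g hg => h.chain [O T, Y T, R T, W T] (by simp [hJ, hY', hR, hW]) g
    ⟨fun x hx => cEE hg (hE hx), fun x hx => swap (cJE hx hg).1, fun x hx => swap (cYE hx hg).1,
      fun x hx => swap (cRE hx hg).1, fun x hx => mem_bot.1 (swap ((charW x hx.1).1 hx g hg))⟩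

theorem chR (hY : Y T ≤ P) (hW : Ch P (W T)) {B : Set (U T)} (hB : IvS P B)
    (h1 : ∀ g ∈ P, g ∈ B → ∀ p ∈ P, ⁅g, p⁆ ∈ R T)
    (h2 : ∀ c, ∃ g ∈ P, g ∈ B ∧ ∃ p ∈ P, ⁅g, p⁆.a5 = c) : Ch P (R T) := by
  refine ⟨fun r hr => hY (RY hr), fun α r _ hr => ?_⟩
  obtain ⟨g, hg, gB, p, hp, e⟩ := h2 r.a5
  have k := h1 g hg gB p hp
  have w : ⁅g, p⁆⁻¹ * r ∈ W T := mkW (mul_mem (inv_mem k) hr) (by
    generalize ⁅g, p⁆ = s at e k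
    obtain ⟨h1, h2, h3, h4, h5, h6, h7, h8, h9⟩ := k
    obtain ⟨k1, k2, k3, k4, k5, k6, k7, k8, k9⟩ := hr
    o8s; simp only [h1, h2, h3, h4, h5, h6, h7, h8, h9, k1, k2, k3, k4, k5, k6, k7, k8, k9, e]
    o8ring T)
  rw [← mul_inv_cancel_left ⁅g, p⁆ r, ext_map_mul α (hY (RY k)) (hW.1 w), ext_map_comm α hg hp]
  obtain ⟨h1', h2, h3, h4, h5, -, h6, h7, h8, h9⟩ := hW.2 α _ (hW.1 w) w
  exact mul_mem (h1 _ (ext_mem α hg) (hB α g hg gB) _ (ext_mem α hp))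
    ⟨h1', h2, h3, h4, h5, h6, h7, h8, h9⟩

/-- two steps of "involutions with commutators in the previous term" -/
theorem two (h : Cr P) (hE : P ≤ E T) (hY : Y T ≤ P) (hW : Ch P (W T)) (N : Subgroup (U T))
    (h1 : ∀ g ∈ O T, g * g = 1 → (∀ p ∈ P, ⁅g, p⁆ ∈ W T) → g ∈ N)
    (h2 : ∀ g ∈ O T, g * g = 1 → (∀ p ∈ P, ⁅g, p⁆ ∈ N) → ∀ p ∈ P, ⁅g, p⁆.a3 = 0 ∧ ⁅g, p⁆.a7 = 0)
    (h3 : ∀ c, ∃ g ∈ Y T, ∃ p ∈ P, g.a3 * T.θ p.b8 + g.a7 * T.θ p.b2 = c) : P = E T := by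
  have hX := Ch.closure (IvS.inv.inter hW.ivs.commP)
  refine rinv h hE hY hW (chR hY hW (IvS.inv.inter hX.ivs.commP) (fun g hg ⟨g2, e⟩ p hp => ?_)
    fun c => ?_)
  · have gJ := invJ (hE hg) g2
    obtain ⟨k1, k2, k3, k4, k5, k6, k7⟩ := (cJE gJ (hE hp)).1
    obtain ⟨e1, e2⟩ := h2 g gJ g2 (fun p hp => (closure_le N).2
      (fun x hx => h1 x (invJ (hE hx.1) hx.2.1) hx.2.1 hx.2.2) (e p hp)) p hp
    exact ⟨k1, k2, k3, e1, k4, k5, e2, k6, k7⟩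
  · obtain ⟨g, hg, p, hp, e⟩ := h3 c
    refine ⟨g, hY hg, ⟨sqY g hg, fun x hx => ?_⟩, p, hp, (cYE hg (hE hp)).2.trans e⟩
    have r := (cYE hg (hE hx)).1
    exact subset_closure ⟨hY (RY r), sqY _ (RY r), fun y hy => (cRE r (hE hy)).1⟩

theorem l0 (h : Cr P) (hE : P ≤ E T) (hY : Y T ≤ P) (hW : Ch P (W T)) (h8 : ∀ p ∈ P, p.b8 = 0)
    (hp : p ∈ P) (h2 : p.b2 ≠ 0) : P = E T := by
  have VY : ∀ g ∈ O T, g * g = 1 → ⁅g, p⁆.a7 = 0 → g ∈ V T ∨ g ∈ Y T := fun g hg g2 e =>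
    invQ g hg.1 ⟨hg.2.2, by simpa [(cJE hg (hE hp)).2.2, h8 p hp, h2] using e⟩ g2
  have h2' := T.θ_ne_zero.2 h2
  refine two h hE hY hW (V T) (fun g hg g2 e => ?_) (fun g hg g2 e q hq => ?_) fun c => ?_
  · refine (VY g hg g2 (e p hp).2.2.2.2.2.2.2.1).elim id fun k => ?_
    have := (cYE k (hE hp)).2.symm.trans (e p hp).2.2.2.2.2.1
    exact ⟨k.1, k.2.1, k.2.2.2.1, k.2.2.2.2.1, by simpa [h8 p hp, h2'] using this, k.2.2.2.2.2⟩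
  · rw [(cJE hg (hE hq)).2.1, (cJE hg (hE hq)).2.2, h8 q hq]
    rcases VY g hg g2 (e p hp).2.2.2.2.1 with k | k
    · simp [k.2.2.1, k.2.2.2.2.2.2]
    · simp [k.2.2.2.1, k.2.2.2.2.2.2]
  · exact ⟨x7 T (c / T.θ p.b2), by o8s, p, hp, by simp [x7, h2']⟩

theorem l8 (h : Cr P) (hE : P ≤ E T) (hY : Y T ≤ P) (hW : Ch P (W T)) (h2 : ∀ p ∈ P, p.b2 = 0)
    (hp : p ∈ P) (h8 : p.b8 ≠ 0) : P = E T := by
  have AY : ∀ g ∈ O T, g * g = 1 → ⁅g, p⁆.a3 = 0 → g ∈ A T ∨ g ∈ Y T := fun g hg g2 e =>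
    invAY hg (by simpa [(cJE hg (hE hp)).2.1, h2 p hp, h8] using e) g2
  have h8' := T.θ_ne_zero.2 h8
  refine two h hE hY hW (A T) (fun g hg g2 e => ?_) (fun g hg g2 e q hq => ?_) fun c => ?_
  · refine (AY g hg g2 (e p hp).2.2.2.1).elim id fun k => ?_
    have := (cYE k (hE hp)).2.symm.trans (e p hp).2.2.2.2.2.1
    exact ⟨k.1, k.2.1, k.2.2.1, by simpa [h2 p hp, h8'] using this, k.2.2.2.1, k.2.2.2.2.1,
      k.2.2.2.2.2.1⟩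
  · rw [(cJE hg (hE hq)).2.1, (cJE hg (hE hq)).2.2, h2 q hq]
    rcases AY g hg g2 (e p hp).2.2.2.1 with k | k
    · simp [k.2.2.1, k.2.2.2.2.2.1]
    · simp [k.2.2.1, k.2.2.2.2.1]
  · exact ⟨x3 T (c / T.θ p.b8), by o8s, p, hp, by simp [x3, h8']⟩

theorem lin {a b c d x y : K} (h : a * d ≠ b * c) (h1 : x * b + y * a = 0)
    (h2 : x * d + y * c = 0) : x = 0 ∧ y = 0 := by
  constructor
  · refine mul_right_cancel₀ (sub_ne_zero.2 h) ?_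
    linear_combination a * h2 - c * h1
  · refine mul_right_cancel₀ (sub_ne_zero.2 h) ?_
    linear_combination d * h1 - b * h2

theorem e2 : E2Stmt T := by
  intro P h hE _ hY hW hO
  obtain ⟨p, hp, pO⟩ := SetLike.not_le_iff_exists.1 hO
  by_cases hi : ∀ q ∈ P, p.b2 * q.b8 = p.b8 * q.b2
  · by_cases h8 : p.b8 = 0
    · have h2 : p.b2 ≠ 0 := fun e => pO ⟨hE hp, e, h8⟩
      exact l0 h hE hY hW (fun q hq => by simpa [h8, h2] using hi q hq) hp h2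
    let k := x1 T (p.b2 / p.b8)
    have c : ∀ q ∈ P, (k * q * k⁻¹).b2 = 0 ∧ (k * q * k⁻¹).b8 = q.b8 := fun q hq => by
      have e := hi q hq
      have e1 : q.a1 = 0 := hE hq
      simp only [k]
      o8s
      o8g T
    have := l8 (p := k * p * k⁻¹) (h.map (MulAut.conj k))
      (by rintro _ ⟨q, hq, rfl⟩; exact nE.conj_mem q (hE hq) k)
      (fun y hy => (mem_map_aut _).2 (hY (nY.conj_mem' y hy k))) (ch_conj hW nW k)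
      (by rintro _ ⟨q, hq, rfl⟩; exact (c q hq).1) ⟨p, hp, rfl⟩ ((c p hp).2.symm ▸ h8)
    exact le_antisymm hE fun g hg => by
      simpa [mul_assoc] using (mem_map_aut _).1 (this.ge (nE.conj_mem g hg k))
  push Not at hi
  obtain ⟨q, hq, hi⟩ := hi
  refine rinv h hE hY hW (Ch.of_iff (IvS.inv.inter hW.ivs.commP) fun g =>
    ⟨fun hg => ⟨hY (RY hg), sqY g (RY hg), fun x hx => (cRE hg (hE hx)).1⟩, fun ⟨hg, g2, e⟩ => ?_⟩)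
  have gJ := invJ (hE hg) g2
  obtain ⟨k1, k2⟩ := lin hi ((cJE gJ (hE hp)).2.1.symm.trans (e p hp).2.2.2.1)
    ((cJE gJ (hE hq)).2.1.symm.trans (e q hq).2.2.2.1)
  obtain ⟨k3, k4⟩ := lin hi ((cJE gJ (hE hp)).2.2.symm.trans (e p hp).2.2.2.2.2.2.2.1)
    ((cJE gJ (hE hq)).2.2.symm.trans (e q hq).2.2.2.2.2.2.2.1)
  have gY : g ∈ Y T := ⟨gJ.1, gJ.2.1, k1, k2, k3, gJ.2.2, k4⟩
  obtain ⟨k5, k6⟩ := lin (fun e => hi (T.θ.injective (by rwa [map_mul, map_mul])))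
    ((cYE gY (hE hp)).2.symm.trans (e p hp).2.2.2.2.2.1)
    ((cYE gY (hE hq)).2.symm.trans (e q hq).2.2.2.2.2.1)
  exact ⟨gJ.1, gJ.2.1, k1, k5, k2, k3, k6, gJ.2.2, k4⟩

end Cfsg.Agent.H10.VbE
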