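import Cfsg.Agent.H56.W2Fin

/-! S3400, even degree, type B. -/

set_option autoImplicit false

namespace Cfsg.Agent.H10.W2

open MulAction Subgroup Cfsg.Agent.H63 Cfsg.Agent.H56.TT Cfsg.Agent.H65.A45 Cfsg.Agent.H65
  Cfsg.Agent.H56.W2

universe u v

variable {G : Type u} [Group G] {Ω : Type v} [MulAction G Ω]

/-- the involutions commuting with `t` and having a fixed point in common with it -/
def XS (Ω : Type v) [MulAction G Ω] (t : G) : Set G :=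
  {x | ((x ∈ C1[t] ∧ orderOf x = 2) ∧ x ≠ t) ∧ ∃ c : Ω, t • c = c ∧ x • c = c}

theorem ar2 {m n2 i j d : ℕ} (i2 : 2 ≤ i) (j2 : 2 ≤ j) (h1 : m * (j - 1) = (i - 1) * n2)
    (h2 : n2 * i = n2 * j + d * (j * (j - 1))) : m = n2 + d * j := by
  obtain ⟨j, rfl⟩ := Nat.exists_eq_add_of_le' (by omega : 1 ≤ j)
  obtain ⟨i, rfl⟩ := Nat.exists_eq_add_of_le' (by omega : 1 ≤ i)
  rw [Nat.add_sub_cancel] at h1 h2
  rw [Nat.add_sub_cancel] at h1
  exact Nat.eq_of_mul_eq_mul_right (by omega : 0 < j) (by nlinarith)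

section
variable [Finite G] [Finite Ω] {a b : Ω} {S : Subgroup G}

theorem second (hu : Su G a b S 2) (hn : Even (Nat.card Ω)) {t : G} (ht : t ∈ S) (t1 : t ≠ 1)
    {k : ℕ} (hk : ni (DD G a b ⊓ C1[t]) = 2 * k + 1) :
    ni (stabilizer G a ⊓ C1[t]) - 1 =
      2 * k + {x | x ∈ XS Ω t ∧ x • a = b}.ncard * (Fix Ω S).ncard ∧
    2 * k * (fixedBy Ω t).ncard = 2 * k * (Fix Ω S).ncard +
      {x | x ∈ XS Ω t ∧ x • a = b}.ncard * ((Fix Ω S).ncard * ((Fix Ω S).ncard - 1)) := by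
  have w := hu.ws
  have tD := w.le ht
  have ot := w.ord ht t1
  have ta : a ∈ fixedBy Ω t := tD.1
  have tb : b ∈ fixedBy Ω t := tD.2
  have tC : t ∈ C1[t] := mem_centralizer_singleton_iff.2 rfl
  obtain ⟨c1, c2⟩ := count ta tb hu.ne (hu.wittT tD ot) (X := XS Ω t) (f := (Fix Ω S).ncard)
    (fun g hg x hx => by
      obtain ⟨c, c1, c2⟩ := hx.2
      refine ⟨⟨⟨C1[t].mul_mem (C1[t].mul_mem hg hx.1.1.1) (C1[t].inv_mem hg),
        (ord_conj g x).trans hx.1.1.2⟩, fun e => hx.1.2 (mul_left_cancel (a := g) (by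
          rw [mem_centralizer_singleton_iff.1 hg, ← e, inv_mul_cancel_right]))⟩, g • c, ?_,
        (conj_smul_iff g x c c).2 c2⟩
      rw [← mul_smul, ← mem_centralizer_singleton_iff.1 hg, mul_smul, c1])
    (fun x hx => by
      rw [mem_fixedBy, ← mul_smul, ← mem_centralizer_singleton_iff.1 hx.1.1.1, mul_smul, ta])
    fun x hx => by
      obtain ⟨h1, h2⟩ := four_zp ot hx.1.1.2 (mem_centralizer_singleton_iff.1 hx.1.1.1) hx.1.2
      have h3 := par_univ (Ω := Ω) (pg_of_sq h1)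
      rw [Nat.even_iff.1 hn] at h3
      obtain ⟨c, hc⟩ := hx.2
      have h4 : (Fix Ω (zpowers t ⊔ zpowers x)).ncard ≠ 0 :=
        Set.ncard_ne_zero_of_mem (a := c) (Fix_two (Ω := Ω) t x ▸ hc)
      obtain ⟨p, hp, q, hq, ne⟩ := (Set.one_lt_ncard (s := Fix Ω (zpowers t ⊔ zpowers x))).1 (by omega)
      obtain ⟨g, -, -, e⟩ := hu.pair_eq ne (le_DD.2 ⟨hp, hq⟩) h2
      rw [Fix_two, e, ncard_Fix_cj]
  have n1 := ncard_ne (X := DD G a b ⊓ C1[t]) ⟨tD, tC⟩ ot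
  rw [hk, add_left_inj, show {w | (w ∈ DD G a b ⊓ C1[t] ∧ orderOf w = 2) ∧ w ≠ t} =
      {x | x ∈ XS Ω t ∧ (x • a = a ∧ x • b = b)} from
    Set.ext fun x => ⟨fun hx => ⟨⟨⟨⟨hx.1.1.2, hx.1.2⟩, hx.2⟩, a, ta, hx.1.1.1.1⟩, hx.1.1.1⟩,
      fun hx => ⟨⟨⟨hx.2, hx.1.1.1.1⟩, hx.1.1.1.2⟩, hx.1.1.2⟩⟩] at n1
  have n2 := ncard_ne (X := stabilizer G a ⊓ C1[t]) ⟨tD.1, tC⟩ ot
  rw [show {w | (w ∈ stabilizer G a ⊓ C1[t] ∧ orderOf w = 2) ∧ w ≠ t} =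
      {x | x ∈ XS Ω t ∧ x • a = a} from
    Set.ext fun x => ⟨fun hx => ⟨⟨⟨⟨hx.1.1.2, hx.1.2⟩, hx.2⟩, a, ta, hx.1.1.1⟩, hx.1.1.1⟩,
      fun hx => ⟨⟨⟨hx.2, hx.1.1.1.1⟩, hx.1.1.1.2⟩, hx.1.1.2⟩⟩] at n2
  rw [n1] at c1 c2
  refine ⟨?_, c2⟩
  rw [← n2, Nat.add_sub_cancel]
  exact ar2 (two_le_ncard ta tb hu.ne) (two_le_ncard hu.a_mem hu.b_mem hu.ne) c1 c2

omit [Finite Ω] in
theorem cjv {D : Subgroup G} (w : WS D S 2) {t v g : G} (ht : t ∈ S) (hv : v ∈ S) (t1 : t ≠ 1)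
    (v1 : v ≠ 1) (ne : v ≠ t) (gt : g ∈ C1[t]) (h : g * v * g⁻¹ ∈ S) :
    g * v * g⁻¹ = v ∨ g * v * g⁻¹ = t * v := by
  refine ((w.mem4 ht hv t1 v1 ne h).resolve_left fun e => v1 (by simpa using e)).resolve_left
    fun e => ne (mul_left_cancel (a := g) ?_)
  rw [mem_centralizer_singleton_iff.1 gt, ← e, inv_mul_cancel_right]

omit [Finite Ω] in
theorem cenS {D : Subgroup G} (w : WS D S 2) {t v x : G} (ht : t ∈ S) (hv : v ∈ S) (t1 : t ≠ 1)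
    (v1 : v ≠ 1) (ne : v ≠ t) (h1 : x * t = t * x) (h2 : x * v = v * x) : ∀ y ∈ S, x * y = y * x :=
  fun y hy => by
    rcases w.mem4 ht hv t1 v1 ne hy with rfl | rfl | rfl | rfl
    · simp
    · exact h1
    · exact h2
    · rw [← mul_assoc, h1, mul_assoc, h2, mul_assoc]

omit [Finite Ω] in
theorem nS {D : Subgroup G} (w : WS D S 2) {t g : G} (ht : t ∈ S) (t1 : t ≠ 1) (gD : g ∈ D)
    (gt : g ∈ C1[t]) (gN : g ∈ N[S]) : g ∈ S := by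
  obtain ⟨v, hv, v1, ne⟩ := w.ex_two ht
  have c := mem_centralizer_singleton_iff.1 gt
  refine mem_of_sq_odd (M := D ⊓ N[S]) inf_le_right
    (w.odd_rel (le_inf w.le le_normalizer) inf_le_left) ⟨gD, gN⟩
    (w.selfc _ (D.mul_mem gD gD) (cenS w ht hv t1 v1 ne
      (mem_centralizer_singleton_iff.1 (C1[t].mul_mem gt gt)) (mul_inv_eq_iff_eq_mul.1 ?_)))
  rw [show g * g * v * (g * g)⁻¹ = g * (g * v * g⁻¹) * g⁻¹ by group]
  rcases cjv w ht hv t1 v1 ne gt (H67.conj_mem_of_mem_normalizer gN hv) with e | e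
  · rw [e, e]
  · rw [e, ← conj_mul, e, c, mul_inv_cancel_right, ← mul_assoc, w.sq t ht, one_mul]

theorem pow2 (hu : Su G a b S 2) (hn : Even (Nat.card Ω)) :
    ∃ α, 1 ≤ α ∧ (Fix Ω S).ncard = 2 ^ α := by
  have w := hu.ws
  obtain ⟨t, ht, ot⟩ := w.ex_inv
  obtain ⟨p, α, hp, e⟩ := sharp hu.a_mem hu.b_mem hu.ne (hu.wittTS ht)
    (fun g hg c hc => Fix_norm hg.2 hc) fun g hg g1 g2 c hc =>
      hc g (nS w ht (ord2.1 ot).2 ⟨g1, g2⟩ hg.1 hg.2)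
  have h1 := par_univ (Ω := Ω) w.pg
  rw [Nat.even_iff.1 hn, e] at h1
  have h2 := (Nat.prime_dvd_prime_iff_eq Nat.prime_two hp).1
    (Nat.prime_two.dvd_of_dvd_pow (Nat.dvd_of_mod_eq_zero h1))
  subst h2
  refine ⟨α, Nat.pos_of_ne_zero ?_, e⟩
  rintro rfl
  simp at h1

omit [Finite Ω] in
theorem dI (hu : Su G a b S 2) {s : G} (h : CI a b s) {t : G} (ht : t ∈ S) (t1 : t ≠ 1) {k : ℕ}
    (hk : ni (DD G a b ⊓ C1[t]) = 2 * k + 1) : ∃ d2, (d2 = 0 ∨ d2 = 1 ∨ d2 = k ∨ d2 = k + 1) ∧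
      {x | x ∈ XS Ω t ∧ x • a = b}.ncard = 2 * d2 := by
  have w := hu.ws
  have tD := w.le ht
  have ot := w.ord ht t1
  have tt := w.sq t ht
  have tC : t ∈ C1[t] := mem_centralizer_singleton_iff.2 rfl
  have sC : s ∈ C1[t] := mem_centralizer_singleton_iff.2 (h.cen t tD)
  obtain ⟨v, hv, v1, ne⟩ := w.ex_two ht
  let P : G → Prop := fun x => ∃ c : Ω, t • c = c ∧ (s * x) • c = c
  have Pc : ∀ g ∈ DD G a b ⊓ C1[t], ∀ x, P x → P (g * x * g⁻¹) := fun g hg x ⟨c, c1, c2⟩ =>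
    ⟨g • c, by rw [← mul_smul, ← mem_centralizer_singleton_iff.1 hg.2, mul_smul, c1], by
      rw [← mul_assoc, ← mul_assoc, h.cen g hg.1, mul_assoc g]; exact (conj_smul_iff g _ c c).2 c2⟩
  have Pt : ∀ x, P x → P (t * x) := fun x ⟨c, c1, c2⟩ =>
    ⟨c, c1, by rw [← mul_assoc, h.cen t tD, mul_assoc, mul_smul, c2, c1]⟩
  have Pt' : ∀ x, P (t * x) → P x := fun x hx => by
    have := Pt _ hx
    rwa [← mul_assoc, tt, one_mul] at this
  have Pv : ∀ x ∈ DD G a b ⊓ C1[t], x * x = 1 → x ≠ 1 → x ≠ t → (P x ↔ P v) := fun x hx x2 x1 xt => by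
    obtain ⟨g, hg, l⟩ := w.syl_conj' (w.le_cent ht) (w.odd_rel (w.le_cent ht) inf_le_left)
      (zpowers_le.2 hx) (pg_zpowers x2)
    obtain ⟨y, hy, rfl⟩ := H67.mem_cj'.1 (l (mem_zpowers x))
    have e : P (g * y * g⁻¹) ↔ P y := ⟨fun k => by
      have := Pc _ (inv_mem hg) _ k
      rwa [show g⁻¹ * (g * y * g⁻¹) * g⁻¹⁻¹ = y by group] at this, Pc g hg y⟩
    rw [e]
    rcases w.mem4 ht hv t1 v1 ne hy with rfl | rfl | rfl | rfl
    · simp at x1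
    · exact absurd (by rw [mem_centralizer_singleton_iff.1 hg.2, mul_inv_cancel_right]) xt
    · rfl
    · exact ⟨Pt' v, Pt v⟩
  have P1 : P t ↔ P 1 := ⟨fun k => Pt' 1 (by rwa [mul_one]), fun k => mul_one t ▸ Pt 1 k⟩
  rw [ncard_mul_left s (Y := {x | (x ∈ DD G a b ⊓ C1[t] ∧ x * x = 1) ∧ P x}) fun x => ⟨fun hx => by
      obtain ⟨y, hy, y2, rfl⟩ := (h.inv_iff hu).1 ⟨hx.1.1.1.2, hx.2⟩
      exact ⟨y, ⟨⟨⟨hy, (C1[t].mul_mem_cancel_left sC).1 hx.1.1.1.1⟩, y2⟩, hx.1.2⟩, rfl⟩,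
    fun ⟨y, hy, e⟩ => by
      have := (h.inv_iff hu).2 ⟨y, hy.1.1.1, hy.1.2, e⟩
      exact ⟨⟨⟨⟨e ▸ C1[t].mul_mem sC hy.1.1.2, this.1⟩,
        fun k => hu.ne (tD.1.symm.trans (k ▸ this.2))⟩, e ▸ hy.2⟩, this.2⟩⟩]
  have all : ∀ x, (x ∈ DD G a b ⊓ C1[t] ∧ x * x = 1) → (P x ↔ ((x = 1 ∨ x = t) ∧ P 1) ∨
      (x ≠ 1 ∧ x ≠ t ∧ P v)) := fun x hx => by
    by_cases e1 : x = 1
    · simp [e1]
    by_cases e2 : x = t
    · simp [e2, P1]
    · simp [e1, e2, Pv x hx.1 hx.2 e1 e2]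
  by_cases p1 : P 1 <;> by_cases pv : P v
  · refine ⟨k + 1, by simp, ?_⟩
    rw [show 2 * (k + 1) = ni (DD G a b ⊓ C1[t]) + 1 by omega, ← ncard_sq]
    congr 1
    ext x
    refine ⟨fun hx => hx.1, fun hx => ⟨hx, (all x hx).2 ?_⟩⟩
    by_cases e1 : x = 1
    · exact Or.inl ⟨Or.inl e1, p1⟩
    by_cases e2 : x = t
    · exact Or.inl ⟨Or.inr e2, p1⟩
    · exact Or.inr ⟨e1, e2, pv⟩
  · refine ⟨1, by simp, Set.ncard_eq_two.2 ⟨1, t, t1.symm, Set.ext fun x => ⟨fun hx => ?_, fun hx => ?_⟩⟩⟩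
    · exact (((all x hx.1).1 hx.2).resolve_right fun k => pv k.2.2).1
    · rcases hx with rfl | rfl
      · exact ⟨⟨one_mem _, mul_one _⟩, p1⟩
      · exact ⟨⟨⟨tD, tC⟩, tt⟩, P1.2 p1⟩
  · refine ⟨k, by simp, ?_⟩
    have n1 := ncard_ne (X := DD G a b ⊓ C1[t]) ⟨tD, tC⟩ ot
    rw [hk, add_left_inj] at n1
    rw [← n1]
    congr 1
    ext x
    refine ⟨fun hx => ?_, fun hx => ⟨⟨hx.1.1, (ord2.1 hx.1.2).1⟩,
      (all x ⟨hx.1.1, (ord2.1 hx.1.2).1⟩).2 (Or.inr ⟨(ord2.1 hx.1.2).2, hx.2, pv⟩)⟩⟩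
    have := ((all x hx.1).1 hx.2).resolve_left fun k => p1 k.2
    exact ⟨⟨hx.1.1, ord2.2 ⟨hx.1.2, this.1⟩⟩, this.2.1⟩
  · refine ⟨0, by simp, (Set.ncard_eq_zero).2 (Set.eq_empty_of_forall_notMem fun x hx => ?_)⟩
    exact ((all x hx.1).1 hx.2).elim (fun k => p1 k.2) fun k => pv k.2.2

theorem jII (hu : Su G a b S 2) (hn : Even (Nat.card Ω)) {σ : G} (h : C2 a b S σ) {t : G}
    (ht : t ∈ S) (t1 : t ≠ 1) (tσ : σ ∈ C1[t]) : (Fix Ω S).ncard = 2 := by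
  have w := hu.ws
  have triv : ∀ x ∈ C[S], ∀ c ∈ Fix Ω S, x • c = c := fun x hx c hc => by
    by_contra ne
    have xN := centralizer_le_normalizer _ hx
    have tr : ∀ d, d ∈ Fix Ω S ↔ ∃ y ∈ C[S], y • a = d := fun d => by
      refine ⟨fun hd => ?_, fun ⟨y, hy, e⟩ => e ▸ Fix_norm (centralizer_le_normalizer _ hy) hu.a_mem⟩
      by_cases e : d = a
      · exact ⟨1, one_mem _, by rw [one_smul, e]⟩
      obtain ⟨g, hg, g1, g2⟩ := hu.wittS c hc _ (Fix_norm xN hc) (Ne.symm ne)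
      obtain ⟨l, hl, l1, l2⟩ := hu.wittS a hu.a_mem d hd (Ne.symm e)
      refine ⟨l * g⁻¹ * x * (l * g⁻¹)⁻¹, H67.conj_mem_of_mem_normalizer
        (H4.normalizer_le_normalizer_centralizer _ (mul_mem hl (inv_mem hg))) hx, ?_⟩
      rw [mul_inv_rev, inv_inv, mul_smul, mul_smul, mul_smul, mul_smul, inv_smul_eq_iff.2 l1.symm,
        g1, ← g2, inv_smul_smul, l2]
    have c1 := OT.card_orb C[S] a tr
    obtain ⟨P, hP⟩ := H67.exists_syl (p := 2) C[S]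
    have l : P ≤ C[S] ⊓ stabilizer G a := fun y hy => by
      obtain ⟨r, hr⟩ := H67.syl_isPGroup hP ⟨y, hy⟩
      exact ⟨hP.1 hy, (w.le (h.cent_mem hu (congrArg Subtype.val hr) fun z hz =>
        (mem_centralizer_iff.1 (hP.1 hy) z hz).symm)).1⟩
    rw [← H67.card_mul_relIndex hP.1, ← H67.card_mul_relIndex l, mul_left_comm] at c1
    refine H67.syl_not_dvd hP (Nat.eq_of_mul_eq_mul_left Nat.card_pos c1 ▸ Dvd.dvd.mul_right ?_ _)
    have h1 := par_univ (Ω := Ω) w.pg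
    rw [Nat.even_iff.1 hn] at h1
    exact Nat.dvd_of_mod_eq_zero h1
  obtain ⟨v, hv, v1, ne⟩ := w.ex_two ht
  have cC : ∀ g ∈ C1[t], g * v * g⁻¹ = v → g ∈ C[S] := fun g hg e => mem_centralizer_iff.2 fun y hy =>
    (cenS w ht hv t1 v1 ne (mem_centralizer_singleton_iff.1 hg) (mul_inv_eq_iff_eq_mul.1 e) y hy).symm
  have σv := (cjv w ht hv t1 v1 ne tσ (H67.conj_mem_of_mem_normalizer h.norm hv)).resolve_left
    fun e => hu.ne ((triv _ (cC _ tσ e) a hu.a_mem).symm.trans h.sw)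
  refine Set.ncard_eq_two.2 ⟨a, b, hu.ne, Set.ext fun c => ⟨fun hc => ?_, fun hc => ?_⟩⟩
  · by_contra H
    simp only [Set.mem_insert_iff, Set.mem_singleton_iff, not_or] at H
    obtain ⟨g, hg, g1, g2⟩ := hu.wittTS ht a hu.a_mem c hc (Ne.symm H.1)
    rcases cjv w ht hv t1 v1 ne hg.1 (H67.conj_mem_of_mem_normalizer hg.2 hv) with e | e
    · exact H.2 (g2.symm.trans (triv _ (cC _ hg.1 e) b hu.b_mem))
    · have := triv _ (cC _ (mul_mem (inv_mem tσ) hg.1) (by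
        rw [show σ⁻¹ * g * v * (σ⁻¹ * g)⁻¹ = σ⁻¹ * (g * v * g⁻¹) * σ by group, e, ← σv]; group)) a hu.a_mem
      rw [mul_smul, g1, inv_smul_eq_iff, h.sw] at this
      exact hu.ne this
  · rcases hc with rfl | rfl
    exacts [hu.a_mem, hu.b_mem]

omit [Finite Ω] in
theorem dII (hu : Su G a b S 2) {σ : G} (h : C2 a b S σ) {t : G} (ht : t ∈ S) (t1 : t ≠ 1)
    (tσ : σ ∈ C1[t]) :
    {x | x ∈ XS Ω t ∧ x • a = b}.ncard * 2 ≤ Nat.card ↥(DD G a b ⊓ C1[t]) := by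
  have w := hu.ws
  have tD := w.le ht
  have tt := w.sq t ht
  have σt := mem_centralizer_singleton_iff.1 tσ
  have tσ' : t ∈ DD G a b ⊓ C1[σ] := ⟨tD, mem_centralizer_singleton_iff.2 σt.symm⟩
  obtain ⟨P, hP, tP⟩ := H67.exists_syl_ge (p := 2) (zpowers_le.2 tσ') (pg_zpowers tt)
  rw [OT.card_cls (DD G a b ⊓ C1[t]) σ (S := {y | ∃ k ∈ DD G a b ⊓ C1[t], k * σ * k⁻¹ = y})
    fun _ => Iff.rfl]
  refine Nat.mul_le_mul (Set.ncard_le_ncard fun x hx => ?_) ((one_lt_card_iff_ne_bot _).2 fun e =>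
    t1 (mem_bot.1 (e ▸ ⟨⟨tD, mem_centralizer_singleton_iff.2 rfl⟩, tσ'.2⟩ : t ∈ (⊥ : Subgroup G))))
  obtain ⟨d, hd, rfl⟩ := h.one x hx.1.1.1.2 hx.2
  have c := mem_centralizer_singleton_iff.1 hx.1.1.1.1
  obtain ⟨g, hg, l⟩ := H67.exists_cj_le_syl hP (K := zpowers (d⁻¹ * t * d)) (zpowers_le.2
    ⟨(DD G a b).mul_mem ((DD G a b).mul_mem ((DD G a b).inv_mem hd) tD) hd, mem_centralizer_singleton_iff.2 (by
      calc _ = d⁻¹ * (t * (d * σ * d⁻¹)) * d := by group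
        _ = _ := by rw [← c]; group)⟩) (pg_zpowers (by
      calc _ = d⁻¹ * (t * t) * d := by group
        _ = 1 := by rw [tt]; group))
  have yP := l (H67.conj_mem_cj (mem_zpowers _))
  have e : g * (d⁻¹ * t * d) * g⁻¹ = t := by
    by_contra ne
    obtain ⟨e, he, l2⟩ := w.syl_conj (hP.1.trans inf_le_left) (H67.syl_isPGroup hP)
    obtain ⟨z, hz, k⟩ := (h.smul e).nc σ (by rw [he.1, he.2, h.sw])
      (by rw [he.1, he.2, swap_of_inv h.ord h.sw])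
    exact k (cenS (w.cj e) (l2 (tP (mem_zpowers t))) (l2 yP) t1 (fun k => t1 (by
      calc t = d * g⁻¹ * (g * (d⁻¹ * t * d) * g⁻¹) * g * d⁻¹ := by group
        _ = 1 := by rw [k]; group)) ne σt
      (mem_centralizer_singleton_iff.1 (hP.1 yP).2).symm z hz)
  refine ⟨d * g⁻¹, ⟨(DD G a b).mul_mem hd ((DD G a b).inv_mem hg.1), mem_centralizer_singleton_iff.2 ?_⟩, ?_⟩
  · conv_lhs => rw [← e]
    group
  · calc _ = d * (g⁻¹ * (σ * g)) * d⁻¹ := by group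
      _ = _ := by rw [← mem_centralizer_singleton_iff.1 hg.2]; group

end

theorem big_prime {k : ℕ} {ε : ℤ} {n : ℕ} (ho : Odd k) (k3 : 3 ≤ k) (he : ε = 1 ∨ ε = -1)
    (hn : (n : ℤ) = (4 * k + ε) * (2 * k + ε)) :
    ∃ r, r.Prime ∧ r ∣ n * (4 * k) ∧ r ≠ 2 ∧ r ≠ 3 ∧ r ≠ 13 := by
  obtain ⟨A, B, hA, hB⟩ : ∃ A B : ℕ, (A : ℤ) = 4 * k + ε ∧ (B : ℤ) = 2 * k + ε :=
    ⟨(4 * k + ε).toNat, (2 * k + ε).toNat, by omega, by omega⟩
  obtain rfl : n = A * B := by zify; rw [hn, hA, hB]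
  obtain ⟨p, hp, p1⟩ := Nat.exists_prime_and_dvd (n := A) (by omega)
  obtain ⟨q, hq, q1⟩ := Nat.exists_prime_and_dvd (n := B) (by omega)
  obtain ⟨r, hr, r1⟩ := Nat.exists_prime_and_dvd (n := k) (by omega)
  obtain ⟨l, hl⟩ := ho
  by_contra H
  push Not at H
  have h1 := H p hp ((p1.mul_right _).mul_right _)
  have h2 := H q hq ((q1.mul_left _).mul_right _)
  have h3 := H r hr ((r1.mul_left _).mul_left _)
  have a1 : p = 2 ∨ p = 3 ∨ p = 13 := by clear H; omega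
  have a2 : q = 2 ∨ q = 3 ∨ q = 13 := by clear H; omega
  have a3 : r = 2 ∨ r = 3 ∨ r = 13 := by clear H; omega
  clear H h1 h2 h3 hn hp hq hr
  rcases a1 with rfl | rfl | rfl <;> rcases a2 with rfl | rfl | rfl <;> rcases a3 with rfl | rfl | rfl <;>
    omega

theorem no27 [Finite G] {D S O : Subgroup G} {q k : ℕ} {ε : ℤ} (w : WS D S 2) (hB : TB D q k ε)
    (hN : D ≤ N[O]) (hO : Nat.card O = 27) {t : G} (ht : t ∈ D) (ot : orderOf t = 2)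
    (h3 : Nat.card ↥(O ⊓ C1[t]) = 3) : False := by
  obtain ⟨r, hr, dv, r2, r3, r13⟩ := big_prime hB.odd hB.three hB.eps hB.ni_eq
  rw [← hB.cent t ht ot, ← w.card_eq ht ot] at dv
  have := Fact.mk hr
  obtain ⟨⟨x, hx⟩, ox⟩ := exists_prime_orderOf_dvd_card' r dv
  rw [← Subgroup.orderOf_coe] at ox
  change orderOf x = r at ox
  have nl : ¬ O ≤ C1[x] := fun l => by
    rcases w.normal_eq (K := D ⊓ C[O]) inf_le_left (H67.le_normalizer_inf le_normalizer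
      (hN.trans (H4.normalizer_le_normalizer_centralizer _))) with e | e
    · have : x ∈ D ⊓ C[O] := ⟨hx, mem_centralizer_iff.2 fun y hy =>
        mem_centralizer_singleton_iff.1 (l hy)⟩
      rw [e, mem_bot] at this
      rw [this, orderOf_one] at ox
      exact hr.one_lt.ne ox
    · rw [inf_eq_left.2 fun y hy => mem_centralizer_singleton_iff.2
        (mem_centralizer_iff.1 (e.ge ht).2 y hy), hO] at h3
      omega
  have h1 : Nat.card ↥(O ⊓ C1[x]) < 27 := hO ▸ H67.card_lt_of_lt (inf_lt_left.2 nl)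
  have h2 : Nat.card ↥(O ⊓ C1[x]) ∣ 27 := hO ▸ card_dvd_of_le inf_le_left
  have gN : x ∈ N[O ⊓ C1[x]] := (H67.le_normalizer_inf (zpowers_le.2 (hN hx))
    ((zpowers_le.2 (mem_centralizer_singleton_iff.2 rfl)).trans le_normalizer)) (mem_zpowers x)
  obtain ⟨y, hy, e⟩ := fix_conj (g := x) (p := r) (ox ▸ pow_orderOf_eq_one x)
    (T := (O : Set G) \ (O ⊓ C1[x] : Subgroup G))
    (fun y => and_congr (mem_normalizer_iff.1 (hN hx) y).symm (mem_normalizer_iff.1 gN y).symm.not)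
    fun e => by
      rw [Set.ncard_sdiff (fun _ h => h.1), ← Nat.card_coe_set_eq, ← Nat.card_coe_set_eq] at e
      change r ∣ Nat.card O - Nat.card ↥(O ⊓ C1[x]) at e
      rw [hO] at e
      generalize Nat.card ↥(O ⊓ C1[x]) = n at h1 h2 e
      have h4 : r ∣ 2 ^ 3 * 3 ^ 2 * 13 := e.trans (by interval_cases n <;> simp_all)
      rcases (Nat.Prime.dvd_mul hr).1 h4 with h5 | h5
      · rcases (Nat.Prime.dvd_mul hr).1 h5 with h5 | h5
        · exact r2 ((Nat.prime_dvd_prime_iff_eq hr Nat.prime_two).1 (hr.dvd_of_dvd_pow h5))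
        · exact r3 ((Nat.prime_dvd_prime_iff_eq hr Nat.prime_three).1 (hr.dvd_of_dvd_pow h5))
      · exact r13 ((Nat.prime_dvd_prime_iff_eq hr (by norm_num)).1 h5)
  exact hy.2 ⟨hy.1, mem_centralizer_singleton_iff.2 e.symm⟩

theorem small {q k q' k' r : ℕ} {ε ε' : ℤ} (k3 : 3 ≤ k) (he : ε = 1 ∨ ε = -1) (he' : ε' = 1 ∨ ε' = -1)
    (h1 : (q : ℤ) = 4 * k + ε) (h2 : (q' : ℤ) = 4 * k' + ε') (hr : Odd r) (e : q' = q ^ r)
    (hk : k' ≤ 3 * k) : k' = k ∧ ε' = ε := by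
  obtain ⟨l, rfl⟩ := hr
  rcases Nat.eq_zero_or_pos l with rfl | hl
  · rw [show q ^ (2 * 0 + 1) = q by simp] at e
    omega
  · have h3 : q ^ 3 ≤ q' := e ▸ Nat.pow_le_pow_right (by omega) (by omega)
    have h4 : 11 ≤ q := by omega
    have h5 : 11 * 11 * q ≤ q ^ 3 := by
      rw [pow_succ, pow_two]
      exact Nat.mul_le_mul_right _ (Nat.mul_le_mul h4 h4)
    omega

theorem arII {q k q' k' r h h' y c e i d d' o o' : ℕ} {ε ε' : ℤ} (k3 : 3 ≤ k) (he : ε = 1 ∨ ε = -1)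
    (he' : ε' = 1 ∨ ε' = -1) (h1 : (q : ℤ) = 4 * k + ε) (h2 : (q' : ℤ) = 4 * k' + ε') (hr : Odd r)
    (hq : q' = q ^ r) (n1 : (h : ℤ) = (4 * k + ε) * (2 * k + ε))
    (n2 : (h' : ℤ) = (4 * k' + ε') * (2 * k' + ε')) (oy : Odd y) (c0 : 0 < c) (e0 : 0 < e) (i2 : 2 ≤ i)
    (d1 : d' * 2 ≤ 4 * k) (m2 : 2 * (y * k') = 2 * k + d' * 2)
    (m3 : 2 * k * i = 2 * k * 2 + d' * (2 * (2 - 1))) (m4 : 0 < d) (m5 : y ^ 2 * h' = h + d * i)
    (m6 : o' = c * y) (m7 : (i - 1) * k = o' * e * k') (cO : o * y = c * y ^ 2 ^ 2) :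
    o = 27 ∧ o' = 3 := by
  have y1 := oy.pos
  obtain ⟨rfl, rfl⟩ := small k3 he he' h1 h2 hr hq (by nlinarith)
  obtain rfl : h' = h := by omega
  have y3 : y ≤ 3 := by nlinarith
  obtain rfl : y = 3 := by
    obtain ⟨l, rfl⟩ := oy
    rcases (by omega : l = 0 ∨ l = 1) with rfl | rfl
    · nlinarith
    · rfl
  obtain rfl : i = 4 := Nat.eq_of_mul_eq_mul_left (by omega : 0 < k') (by linarith)
  rw [m6] at m7
  have m8 : 3 = c * 3 * e := Nat.eq_of_mul_eq_mul_right (by omega) m7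
  obtain rfl : c = 1 := by nlinarith
  omega

theorem evB (str : StrStmt.{u}) (sub : SubStmt.{u}) (arb : ArBStmt) : EvBStmt.{u, v} :=
  fun G Ω _ _ _ _ _ a b S q k ε hu hB hn => by
  have w := hu.ws
  have ty : Ty (DD G a b) 2 := Or.inr (Or.inl ⟨rfl, q, k, ε, hB⟩)
  obtain ⟨X, _, _, L, S', f, O, c, y, e, fi, fL, w', ty', HO, c0, e0, oy, cO, nH, hT⟩ :=
    str G (stabilizer G a) (DD G a b) S 2 inf_le_left w (hu.odd_stab hn) (w.sixty ty)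
  obtain ⟨q', k', ε', hL⟩ : ∃ q k ε, TB L q k ε := by
    rcases ty' with k | ⟨-, k⟩ | ⟨e, -⟩ | ⟨e, -⟩
    · exact absurd k.three (by norm_num)
    · exact k
    · omega
    · omega
  obtain ⟨r, hr, hq⟩ := sub G X _ L q k q' k' ε ε' hB hL f fi fL
  have main : ∀ t ∈ S, t ≠ 1 → k ∣ k' ∧
      2 * (y * k') = 2 * k + {x | x ∈ XS Ω t ∧ x • a = b}.ncard * (Fix Ω S).ncard ∧
      2 * k * (fixedBy Ω t).ncard = 2 * k * (Fix Ω S).ncard +
        {x | x ∈ XS Ω t ∧ x • a = b}.ncard * ((Fix Ω S).ncard * ((Fix Ω S).ncard - 1)) ∧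
      0 < {x | IsConj t x ∧ x • a = b}.ncard ∧ y ^ 2 * ni L =
        ni (DD G a b) + {x | IsConj t x ∧ x • a = b}.ncard * (fixedBy Ω t).ncard ∧
      Nat.card ↥(O ⊓ C1[t]) = c * y ∧
      ((fixedBy Ω t).ncard - 1) * k = Nat.card ↥(O ⊓ C1[t]) * e * k' := fun t ht t1 => by
    have tD := w.le ht
    have ot := w.ord ht t1
    have of : orderOf (f ⟨t, tD⟩) = 2 := by rw [orderOf_injective f fi, ← Subgroup.orderOf_coe, ot]
    obtain ⟨a1, a2, a3⟩ := hT ⟨t, tD⟩ ot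
    obtain ⟨b1, b2⟩ := second hu hn ht t1 (hB.nic t tD ot)
    rw [hL.nic _ (fL _) of, b1] at a3
    rw [hL.cent _ (fL _) of, hu.card_cent tD ot, hB.cent t tD ot] at a2
    refine ⟨Nat.dvd_of_mul_dvd_mul_left (by norm_num : 0 < 4) ?_, ?_, b2, (hu.first tD ot).1,
      nH.symm.trans (hu.first_even hn tD ot), Nat.eq_of_mul_eq_mul_right oy.pos ?_,
      Nat.eq_of_mul_eq_mul_left (by norm_num : 0 < 4) (by linarith)⟩
    · rw [← hB.cent t tD ot, ← hL.cent _ (fL _) of,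
        ← Nat.card_congr (subgroupOfEquivOfLe (inf_le_left : DD G a b ⊓ C1[t] ≤ _)).toEquiv,
        ← card_map_of_injective fi]
      refine card_dvd_of_le ?_
      rintro _ ⟨x, hx, rfl⟩
      exact ⟨fL x, mem_centralizer_singleton_iff.2 (by
        rw [← map_mul, ← map_mul]
        exact congrArg f (Subtype.ext (mem_centralizer_singleton_iff.1 hx.2)))⟩
    · rw [a3]; simp; ring
    · rw [a1]; simp; ring
  rcases dich G Ω a b S 2 hu ty with ⟨s, h⟩ | ⟨σ, h⟩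
  · obtain ⟨t, ht, ot⟩ := w.ex_inv
    have t1 := (ord2.1 ot).2
    obtain ⟨m1, m2, m3, m4, m5, -⟩ := main t ht t1
    obtain ⟨d2, hd, e2⟩ := dI hu h ht t1 (hB.nic t (w.le ht) ot)
    obtain ⟨α, α1, hα⟩ := pow2 hu hn
    rw [e2] at m2 m3
    refine arb q k q' k' r _ _ y _ _ α _ d2 ε ε' hB.odd hB.three hB.eps hL.eps hB.q_eq hL.q_eq hr hq m1
      hB.ni_eq hL.ni_eq α1 hα hd (by linarith) (by linarith) ?_ m5
    rcases h.d hu (w.le ht) ot with e | e | e | e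
    · omega
    · exact Or.inl e
    · exact Or.inr (Or.inl e)
    · exact Or.inr (Or.inr e.1)
  obtain ⟨t, ht, t1⟩ : ∃ t ∈ S ⊓ C1[σ], t ≠ 1 := by
    have h1 := h.sq
    rw [w.card] at h1
    refine (bot_or_exists_ne_one _).resolve_left fun e => ?_
    rw [e, card_bot] at h1
    omega
  have tσ : σ ∈ C1[t] := mem_centralizer_singleton_iff.2 (mem_centralizer_singleton_iff.1 ht.2).symm
  have tD := w.le ht.1
  have ot := w.ord ht.1 t1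
  obtain ⟨-, m2, m3, m4, m5, m6, m7⟩ := main t ht.1 t1
  have d1 := dII hu h ht.1 t1 tσ
  rw [hB.cent t tD ot] at d1
  rw [jII hu hn h ht.1 t1 tσ] at m2 m3
  obtain ⟨n1, n2⟩ := arII hB.three hB.eps hL.eps hB.q_eq hL.q_eq hr hq hB.ni_eq hL.ni_eq oy c0 e0
    (two_le_ncard (Φ := fixedBy Ω t) tD.1 tD.2 hu.ne) d1 m2 m3 m4 m5 m6 m7 cO
  exact no27 w hB (le_trans inf_le_left HO) n1 tD ot n2

theorem eqns_W2EvB : True := by
  have := @XS.eq_1.{0, 0}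
  trivial

end Cfsg.Agent.H10.W2
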